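import Mathlib.GroupTheory.Sylow
import Mathlib.GroupTheory.Solvable
import Mathlib.GroupTheory.Perm.Cycle.Type
import Mathlib.GroupTheory.Index
import Mathlib.GroupTheory.Coset.Card

set_option autoImplicit false

/-!
# Fixed points of `p`-elements, products of subgroups (helper21)
-/

namespace Cfsg.Agent.Helper21

/-- A `p`-element `a` acting by conjugation on a finite `a`-invariant set of size prime to `p`
fixes a point of it. -/
theorem exists_fixed_of_conj {G : Type*} [Group G] {p : ℕ} [Fact p.Prime] (a : G) (n : ℕ)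
    (ha : a ^ (p ^ n) = 1) (s : Set G) [Finite s] (hs : ∀ x ∈ s, a * x * a⁻¹ ∈ s)
    (hcard : ¬ p ∣ Nat.card s) : ∃ x ∈ s, a * x * a⁻¹ = x := by
  classical
  let _i : Fintype s := Fintype.ofFinite s
  let f : s → s := fun x => ⟨a * x.1 * a⁻¹, hs x.1 x.2⟩
  have hinj : Function.Injective f := by
    intro x y h
    have : a * x.1 * a⁻¹ = a * y.1 * a⁻¹ := congrArg Subtype.val h
    exact Subtype.ext (by simpa using this)
  let σ : Equiv.Perm s := Equiv.ofBijective f ⟨hinj, Finite.surjective_of_injective hinj⟩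
  have hσ1 : ∀ x : s, (σ x : G) = a * x.1 * a⁻¹ := fun x => rfl
  have hpow : ∀ k : ℕ, ∀ x : s, ((σ ^ k) x : G) = a ^ k * x.1 * (a ^ k)⁻¹ := by
    intro k
    induction k with
    | zero => intro x; simp
    | succ k ih =>
      intro x
      rw [pow_succ', Equiv.Perm.mul_apply, hσ1, ih x, pow_succ']
      group
  have hσ : σ ^ (p ^ n) = 1 := by
    ext x
    rw [hpow, ha]; simp
  have hc : ¬ p ∣ Fintype.card s := by rwa [← Nat.card_eq_fintype_card]
  obtain ⟨x, hx⟩ := Equiv.Perm.exists_fixed_point_of_prime hc hσ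
  exact ⟨x.1, x.2, by rw [← hσ1, hx]⟩

/-- The left coset `x K`, as a set, has the cardinality of `K`. -/
theorem card_leftCoset_set {G : Type*} [Group G] (K : Subgroup G) (x : G) :
    Nat.card {x' : G | x⁻¹ * x' ∈ K} = Nat.card K :=
  Nat.card_congr
    { toFun := fun z => ⟨x⁻¹ * z.1, z.2⟩
      invFun := fun k => ⟨x * k.1, by
        change x⁻¹ * (x * k.1) ∈ K
        rw [inv_mul_cancel_left]; exact k.2⟩
      left_inv := fun z => by simp
      right_inv := fun k => by simp }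

/-- If `Y` normalizes `X` then every element of `X ⊔ Y` is a product `x * y`. -/
theorem exists_mul_of_mem_sup {G : Type*} [Group G] {X Y : Subgroup G}
    (hn : Y ≤ Subgroup.normalizer (X : Set G)) {g : G} (hg : g ∈ X ⊔ Y) :
    ∃ x ∈ X, ∃ y ∈ Y, x * y = g := by
  have : g ∈ ((X ⊔ Y : Subgroup G) : Set G) := hg
  rw [Subgroup.coe_mul_of_right_le_normalizer_left X Y hn] at this
  exact Set.mem_mul.mp this

/-- If `Y` normalizes `X` then every element of `X ⊔ Y` is a product `y * x`. -/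
theorem exists_mul_of_mem_sup' {G : Type*} [Group G] {X Y : Subgroup G}
    (hn : Y ≤ Subgroup.normalizer (X : Set G)) {g : G} (hg : g ∈ X ⊔ Y) :
    ∃ y ∈ Y, ∃ x ∈ X, y * x = g := by
  obtain ⟨x, hx, y, hy, rfl⟩ := exists_mul_of_mem_sup hn hg
  refine ⟨y, hy, y⁻¹ * x * y, ?_, by group⟩
  have := (Subgroup.mem_normalizer_iff.mp (hn (Y.inv_mem hy)) x).mp hx
  simpa using this

/-- `X` is normal in `X ⊔ Y` when `Y` normalizes `X`. -/
theorem normal_subgroupOf_sup {G : Type*} [Group G] {X Y : Subgroup G}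
    (hn : Y ≤ Subgroup.normalizer (X : Set G)) : (X.subgroupOf (X ⊔ Y)).Normal :=
  (Subgroup.normal_subgroupOf_iff_le_normalizer le_sup_left).mpr
    (sup_le Subgroup.le_normalizer hn)

/-- The natural map `Y → (X ⊔ Y) ⧸ X` is surjective when `Y` normalizes `X`. -/
theorem sup_quotient_surjective {G : Type*} [Group G] {X Y : Subgroup G}
    (hn : Y ≤ Subgroup.normalizer (X : Set G)) [h : (X.subgroupOf (X ⊔ Y)).Normal] :
    Function.Surjective ((QuotientGroup.mk' (X.subgroupOf (X ⊔ Y))).comp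
      (Subgroup.inclusion (le_sup_right : Y ≤ X ⊔ Y))) := by
  intro q
  obtain ⟨m, rfl⟩ := QuotientGroup.mk'_surjective _ q
  obtain ⟨y, hy, x, hx, hm⟩ := exists_mul_of_mem_sup' hn m.2
  refine ⟨⟨y, hy⟩, ?_⟩
  rw [MonoidHom.comp_apply, QuotientGroup.mk'_apply, QuotientGroup.mk'_apply, QuotientGroup.eq,
    Subgroup.mem_subgroupOf]
  simp only [Subgroup.coe_mul, Subgroup.coe_inv, Subgroup.coe_inclusion]
  rw [← hm, inv_mul_cancel_left]
  exact hx

/-- `X ⊔ Y` is solvable when `X`, `Y` are and `Y` normalizes `X`. -/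
theorem isSolvable_sup {G : Type*} [Group G] {X Y : Subgroup G}
    (hn : Y ≤ Subgroup.normalizer (X : Set G)) (hX : Group.IsSolvable X) (hY : Group.IsSolvable Y) :
    Group.IsSolvable ↥(X ⊔ Y) := by
  have hnorm : (X.subgroupOf (X ⊔ Y)).Normal := normal_subgroupOf_sup hn
  have hq : Group.IsSolvable (↥(X ⊔ Y) ⧸ X.subgroupOf (X ⊔ Y)) :=
    Group.isSolvable_of_surjective (sup_quotient_surjective hn)
  refine Group.isSolvable_of_ker_le_range (Subgroup.inclusion (le_sup_left : X ≤ X ⊔ Y))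
    (QuotientGroup.mk' (X.subgroupOf (X ⊔ Y))) ?_
  rw [QuotientGroup.ker_mk']
  intro m hm
  rw [Subgroup.mem_subgroupOf] at hm
  exact ⟨⟨m.1, hm⟩, Subtype.ext rfl⟩

/-- `|X ⊔ Y|` divides `|X| * |Y|` when `Y` normalizes `X`. -/
theorem card_sup_dvd {G : Type*} [Group G] {X Y : Subgroup G}
    (hn : Y ≤ Subgroup.normalizer (X : Set G)) :
    Nat.card ↥(X ⊔ Y) ∣ Nat.card X * Nat.card Y := by
  have hnorm : (X.subgroupOf (X ⊔ Y)).Normal := normal_subgroupOf_sup hn
  have h1 := Subgroup.card_eq_card_quotient_mul_card_subgroup (X.subgroupOf (X ⊔ Y))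
  have h2 : Nat.card (X.subgroupOf (X ⊔ Y)) = Nat.card X :=
    Nat.card_congr (Subgroup.subgroupOfEquivOfLe (le_sup_left : X ≤ X ⊔ Y)).toEquiv
  have h3 : Nat.card (↥(X ⊔ Y) ⧸ X.subgroupOf (X ⊔ Y)) ∣ Nat.card Y :=
    Subgroup.card_dvd_of_surjective _ (sup_quotient_surjective hn)
  rw [h1, h2, mul_comm]
  exact Nat.mul_dvd_mul_left _ h3

end Cfsg.Agent.Helper21
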