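import Mathlib
import Cfsg.Prelude.Def_Involutions

set_option autoImplicit false

/-!
# Strongly embedded subgroups: basic theory (helper21)

`G` a finite group, `H` a strongly embedded subgroup (`Cfsg.IsStronglyEmbedded H`), `G` acting on
the cosets `G ⧸ H`.

* `inv_pair`: two involutions `s`, `t` are either conjugate by an involution `v` (`v s v⁻¹ = t`)
  or both commute with a third involution.
* `StrEmb.mem_of_conj_mem`: if `t ∈ H` is an involution and `x t x⁻¹ ∈ H` then `x ∈ H`.
* `StrEmb.fix_unique`, `StrEmb.exists_fix`: every involution fixes exactly one coset.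
* `StrEmb.exists_swap`: involutions `s`, `t` with different fixed points `q₁`, `q₂` are conjugate by
  an involution `v` with `v • q₁ = q₂`.
-/

namespace Cfsg.Agent.Helper21

section Dihedral

variable {G : Type*} [Group G]

theorem inv_mul_self_eq {t : G} (ht : orderOf t = 2) : t * t = 1 := by
  have := pow_orderOf_eq_one t
  rwa [ht, pow_two] at this

theorem inv_inv_eq_self {t : G} (ht : orderOf t = 2) : t⁻¹ = t :=
  inv_eq_of_mul_eq_one_left (inv_mul_self_eq ht)

theorem inv_ne_one' {t : G} (ht : orderOf t = 2) : t ≠ 1 := by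
  rintro rfl
  simp at ht

theorem orderOf_eq_two_of_mul_self {v : G} (h1 : v * v = 1) (h2 : v ≠ 1) : orderOf v = 2 :=
  orderOf_eq_prime (by rw [pow_two]; exact h1) h2

theorem orderOf_conj_eq (x t : G) : orderOf (x * t * x⁻¹) = orderOf t := by
  have := orderOf_injective (MulAut.conj x).toMonoidHom (MulAut.conj x).injective t
  simpa using this

/-- Two involutions of a finite group are conjugate by an involution, or commute with a common
involution. -/
theorem inv_pair [Finite G] {s t : G} (hs : orderOf s = 2) (ht : orderOf t = 2) :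
    (∃ v : G, orderOf v = 2 ∧ v * s * v⁻¹ = t) ∨
      (∃ z : G, orderOf z = 2 ∧ z * s = s * z ∧ z * t = t * z) := by
  have hss := inv_mul_self_eq hs
  have htt := inv_mul_self_eq ht
  have hsi := inv_inv_eq_self hs
  have hti := inv_inv_eq_self ht
  set r := t * s with hr
  have hrinv : r⁻¹ = s * t := by rw [hr, mul_inv_rev, hsi, hti]
  -- conjugating `r` by `s` or `t` inverts it
  have hsr : ∀ j : ℕ, s * r ^ j * s = (r ^ j)⁻¹ := by
    intro j
    have h1 : s * r ^ j * s = (s * r * s⁻¹) ^ j := by rw [conj_pow, hsi]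
    rw [h1, hsi, ← inv_pow]
    congr 1
    rw [hrinv, hr]
    calc s * (t * s) * s = s * t * (s * s) := by group
      _ = s * t := by rw [hss, mul_one]
  have htr : ∀ j : ℕ, t * r ^ j * t = (r ^ j)⁻¹ := by
    intro j
    have h1 : t * r ^ j * t = (t * r * t⁻¹) ^ j := by rw [conj_pow, hti]
    rw [h1, hti, ← inv_pow]
    congr 1
    rw [hrinv, hr]
    calc t * (t * s) * t = (t * t) * s * t := by group
      _ = s * t := by rw [htt, one_mul]
  have hn0 : orderOf r ≠ 0 := (orderOf_pos r).ne'
  rcases Nat.even_or_odd' (orderOf r) with ⟨k, hk | hk⟩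
  · -- even order: central involution
    right
    have hk0 : k ≠ 0 := by
      rintro rfl
      exact hn0 (by simpa using hk)
    have hz2 : r ^ k * r ^ k = 1 := by
      rw [← pow_add, ← two_mul, ← hk, pow_orderOf_eq_one]
    have hz1 : r ^ k ≠ 1 := pow_ne_one_of_lt_orderOf hk0 (by omega)
    have hzi : (r ^ k)⁻¹ = r ^ k := inv_eq_of_mul_eq_one_left hz2
    refine ⟨r ^ k, orderOf_eq_two_of_mul_self hz2 hz1, ?_, ?_⟩
    · have := hsr k
      rw [hzi] at this
      calc r ^ k * s = (s * r ^ k * s) * s := by rw [this]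
        _ = s * r ^ k * (s * s) := by group
        _ = s * r ^ k := by rw [hss, mul_one]
    · have := htr k
      rw [hzi] at this
      calc r ^ k * t = (t * r ^ k * t) * t := by rw [this]
        _ = t * r ^ k * (t * t) := by group
        _ = t * r ^ k := by rw [htt, mul_one]
  · -- odd order: conjugating involution
    left
    set v := r ^ (k + 1) * s with hv
    have hvv : v * v = 1 := by
      calc v * v = r ^ (k + 1) * (s * r ^ (k + 1) * s) := by rw [hv]; group
        _ = 1 := by rw [hsr, mul_inv_cancel]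
    have hvi : v⁻¹ = v := inv_eq_of_mul_eq_one_left hvv
    have hrpow : r ^ (k + 1) * r ^ (k + 1) = r := by
      rw [← pow_add]
      have : k + 1 + (k + 1) = orderOf r + 1 := by omega
      rw [this, pow_succ, pow_orderOf_eq_one, one_mul]
    have hconj : v * s * v⁻¹ = t := by
      rw [hvi]
      calc v * s * v = r ^ (k + 1) * (s * s) * r ^ (k + 1) * s := by rw [hv]; group
        _ = (r ^ (k + 1) * r ^ (k + 1)) * s := by rw [hss]; group
        _ = t * (s * s) := by rw [hrpow, hr]; group
        _ = t := by rw [hss, mul_one]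
    have hv1 : v ≠ 1 := by
      intro h1
      rw [h1] at hconj
      have hst : s = t := by simpa using hconj
      -- then r = 1 so orderOf r = 1, k = 0, v = s ≠ 1
      have hr1 : r = 1 := by rw [hr, ← hst, hss]
      have : orderOf r = 1 := by rw [hr1, orderOf_one]
      have hk0 : k = 0 := by omega
      have hvs : v = s := by rw [hv, hr1, one_pow, one_mul]
      exact inv_ne_one' hs (hvs ▸ h1)
    exact ⟨v, orderOf_eq_two_of_mul_self hvv hv1, hconj⟩

end Dihedral

section StrEmb

set_option linter.unusedSectionVars false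

variable {G : Type*} [Group G] [Finite G] {H : Subgroup G}

/-- A subgroup of odd order contains no involution. -/
theorem not_mem_of_odd_card {K : Subgroup G} (hK : Odd (Nat.card K)) {t : G}
    (ht : orderOf t = 2) : t ∉ K := by
  intro htK
  have h1 : orderOf (⟨t, htK⟩ : K) = 2 := by rw [← Subgroup.orderOf_coe]; exact ht
  have h2 : 2 ∣ Nat.card K := h1 ▸ orderOf_dvd_natCard (⟨t, htK⟩ : K)
  rcases hK with ⟨k, hk⟩
  omega

/-- A subgroup of even order contains an involution. -/
theorem exists_inv_of_even_card {K : Subgroup G} (hK : Even (Nat.card K)) :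
    ∃ t ∈ K, orderOf t = 2 := by
  have : Fact (Nat.Prime 2) := ⟨Nat.prime_two⟩
  obtain ⟨x, hx⟩ := exists_prime_orderOf_dvd_card' (G := K) 2 (even_iff_two_dvd.mp hK)
  exact ⟨x.1, x.2, by rw [Subgroup.orderOf_coe]; exact hx⟩

theorem smul_mk_eq_iff (H : Subgroup G) (t g : G) :
    t • (QuotientGroup.mk g : G ⧸ H) = QuotientGroup.mk g ↔ g⁻¹ * t * g ∈ H := by
  rw [MulAction.Quotient.smul_mk, QuotientGroup.eq, smul_eq_mul]
  constructor
  · intro h
    have := H.inv_mem h
    simpa [mul_assoc] using this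
  · intro h
    have := H.inv_mem h
    simpa [mul_assoc] using this

theorem smul_base_eq_iff (H : Subgroup G) (x : G) :
    x • (QuotientGroup.mk 1 : G ⧸ H) = QuotientGroup.mk 1 ↔ x ∈ H := by
  rw [smul_mk_eq_iff]; simp

theorem smul_eq_base_iff (H : Subgroup G) (x g : G) :
    x • (QuotientGroup.mk g : G ⧸ H) = QuotientGroup.mk 1 ↔ x * g ∈ H := by
  rw [MulAction.Quotient.smul_mk, smul_eq_mul, eq_comm, QuotientGroup.eq]
  simp

namespace StrEmb

/-- If `t ∈ H` is an involution and `x t x⁻¹ ∈ H` then `x ∈ H`. -/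
theorem mem_of_conj_mem (hH : Cfsg.IsStronglyEmbedded H) {t x : G} (ht : orderOf t = 2)
    (htH : t ∈ H) (hx : x * t * x⁻¹ ∈ H) : x ∈ H := by
  by_contra hxH
  have hodd := hH.2.2 x hxH
  have hmem : x * t * x⁻¹ ∈ H ⊓ H.map (MulAut.conj x).toMonoidHom :=
    ⟨hx, ⟨t, htH, by simp [MulAut.conj_apply]⟩⟩
  exact not_mem_of_odd_card hodd (by rw [orderOf_conj_eq]; exact ht) hmem

/-- The centralizer of an involution of `H` lies in `H`. -/
theorem mem_of_commute (hH : Cfsg.IsStronglyEmbedded H) {t x : G} (ht : orderOf t = 2)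
    (htH : t ∈ H) (hx : x * t = t * x) : x ∈ H := by
  apply mem_of_conj_mem hH ht htH
  rw [hx, mul_inv_cancel_right]; exact htH

/-- An involution fixes at most one coset. -/
theorem fix_unique (hH : Cfsg.IsStronglyEmbedded H) {t : G} (ht : orderOf t = 2)
    {q q' : G ⧸ H} (h : t • q = q) (h' : t • q' = q') : q = q' := by
  obtain ⟨g, rfl⟩ := QuotientGroup.mk_surjective q
  obtain ⟨g', rfl⟩ := QuotientGroup.mk_surjective q'
  rw [smul_mk_eq_iff] at h h'
  have ht' : orderOf (g⁻¹ * t * g) = 2 := by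
    have := orderOf_conj_eq g⁻¹ t
    rw [inv_inv] at this
    rw [this]; exact ht
  have hx : (g'⁻¹ * g) * (g⁻¹ * t * g) * (g'⁻¹ * g)⁻¹ ∈ H := by
    have : (g'⁻¹ * g) * (g⁻¹ * t * g) * (g'⁻¹ * g)⁻¹ = g'⁻¹ * t * g' := by group
    rw [this]; exact h'
  have := mem_of_conj_mem hH ht' h hx
  rw [eq_comm, QuotientGroup.eq]
  exact this

/-- If `x` commutes with the involution `t` then `x` fixes the coset fixed by `t`. -/
theorem fix_of_commute (hH : Cfsg.IsStronglyEmbedded H) {t x : G} (ht : orderOf t = 2)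
    {q : G ⧸ H} (h : t • q = q) (hx : x * t = t * x) : x • q = q := by
  apply fix_unique hH ht _ h
  rw [← mul_smul, ← hx, mul_smul, h]

/-- A conjugate `x t x⁻¹` fixes `x • q` when `t` fixes `q`. -/
theorem conj_fix {t x : G} {q : G ⧸ H} (h : t • q = q) : (x * t * x⁻¹) • (x • q) = x • q := by
  rw [← mul_smul, inv_mul_cancel_right, mul_smul, h]

/-- Every involution fixes some coset. -/
theorem exists_fix (hH : Cfsg.IsStronglyEmbedded H) {t : G} (ht : orderOf t = 2) :
    ∃ q : G ⧸ H, t • q = q := by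
  obtain ⟨s, hsH, hs⟩ := exists_inv_of_even_card hH.2.1
  have hs0 : s • (QuotientGroup.mk 1 : G ⧸ H) = QuotientGroup.mk 1 :=
    (smul_base_eq_iff H s).mpr hsH
  rcases inv_pair hs ht with ⟨v, _, hv⟩ | ⟨z, hz, hzs, hzt⟩
  · exact ⟨v • QuotientGroup.mk 1, by rw [← hv]; exact conj_fix hs0⟩
  · have hzH : z ∈ H := mem_of_commute hH hs hsH hzs
    have htH : t ∈ H := mem_of_commute hH hz hzH hzt.symm
    exact ⟨QuotientGroup.mk 1, (smul_base_eq_iff H t).mpr htH⟩

/-- Involutions with distinct fixed points are conjugate by an involution that moves one fixed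
point to the other. -/
theorem exists_swap (hH : Cfsg.IsStronglyEmbedded H) {s t : G} (hs : orderOf s = 2)
    (ht : orderOf t = 2) {q₁ q₂ : G ⧸ H} (h₁ : s • q₁ = q₁) (h₂ : t • q₂ = q₂) (hne : q₁ ≠ q₂) :
    ∃ v : G, orderOf v = 2 ∧ v * s * v⁻¹ = t ∧ v • q₁ = q₂ := by
  rcases inv_pair hs ht with ⟨v, hv2, hv⟩ | ⟨z, hz, hzs, hzt⟩
  · refine ⟨v, hv2, hv, ?_⟩
    apply fix_unique hH ht _ h₂
    rw [← hv]; exact conj_fix h₁
  · exfalso
    obtain ⟨q, hq⟩ := exists_fix hH hz
    have e1 : s • q = q := fix_of_commute hH hz hq hzs.symm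
    have e2 : t • q = q := fix_of_commute hH hz hq hzt.symm
    exact hne ((fix_unique hH hs h₁ e1).trans (fix_unique hH ht e2 h₂))

/-- The number of involutions fixing a given coset equals the number of involutions of `H`. -/
theorem card_fix (H : Subgroup G) (q : G ⧸ H) :
    Nat.card {t : G // orderOf t = 2 ∧ t • q = q} = Nat.card {t : G // orderOf t = 2 ∧ t ∈ H} := by
  obtain ⟨g, rfl⟩ := QuotientGroup.mk_surjective q
  refine Nat.card_congr
    { toFun := fun t => ⟨g⁻¹ * t.1 * g, ?_, ?_⟩
      invFun := fun t => ⟨g * t.1 * g⁻¹, ?_, ?_⟩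
      left_inv := fun t => by apply Subtype.ext; simp [mul_assoc]
      right_inv := fun t => by apply Subtype.ext; simp [mul_assoc] }
  · have := orderOf_conj_eq g⁻¹ t.1
    rw [inv_inv] at this
    rw [this]; exact t.2.1
  · exact (smul_mk_eq_iff H t.1 g).mp t.2.2
  · rw [orderOf_conj_eq]; exact t.2.1
  · rw [smul_mk_eq_iff]
    have : g⁻¹ * (g * t.1 * g⁻¹) * g = t.1 := by group
    rw [this]; exact t.2.2

/-- For distinct cosets `q₁ ≠ q₂` there are at least as many involutions mapping `q₁` to `q₂` as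
there are involutions in `H`. -/
theorem le_card_swap (hH : Cfsg.IsStronglyEmbedded H) {q₁ q₂ : G ⧸ H} (hne : q₁ ≠ q₂) :
    Nat.card {t : G // orderOf t = 2 ∧ t ∈ H} ≤ Nat.card {i : G // orderOf i = 2 ∧ i • q₁ = q₂} := by
  rw [← card_fix H q₂]
  -- an involution fixing q₁
  obtain ⟨s₀, hs₀H, hs₀⟩ := exists_inv_of_even_card hH.2.1
  obtain ⟨g, rfl⟩ := QuotientGroup.mk_surjective q₁
  set s := g * s₀ * g⁻¹ with hsdef
  have hs : orderOf s = 2 := by rw [hsdef, orderOf_conj_eq]; exact hs₀
  have hs1 : s • (QuotientGroup.mk g : G ⧸ H) = QuotientGroup.mk g := by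
    rw [smul_mk_eq_iff]
    have : g⁻¹ * s * g = s₀ := by rw [hsdef]; group
    rw [this]; exact hs₀H
  have hex : ∀ t : {t : G // orderOf t = 2 ∧ t • q₂ = q₂},
      ∃ v : G, orderOf v = 2 ∧ v * s * v⁻¹ = t.1 ∧ v • (QuotientGroup.mk g : G ⧸ H) = q₂ :=
    fun t => exists_swap hH hs t.2.1 hs1 t.2.2 hne
  let f : {t : G // orderOf t = 2 ∧ t • q₂ = q₂} → {i : G // orderOf i = 2 ∧ i • (QuotientGroup.mk g : G ⧸ H) = q₂} :=
    fun t => ⟨Classical.choose (hex t), (Classical.choose_spec (hex t)).1,
      (Classical.choose_spec (hex t)).2.2⟩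
  have hf : Function.Injective f := by
    intro t t' htt'
    have h1 := (Classical.choose_spec (hex t)).2.1
    have h2 := (Classical.choose_spec (hex t')).2.1
    have h3 : Classical.choose (hex t) = Classical.choose (hex t') := congrArg Subtype.val htt'
    apply Subtype.ext
    rw [← h1, ← h2, h3]
  exact Nat.card_le_card_of_injective f hf

open Classical in
/-- **Counting lemma**: for distinct cosets `q₁ ≠ q₂` of a strongly embedded subgroup `H`, the
number of involutions mapping `q₁` to `q₂` equals the number of involutions of `H`. -/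
theorem card_swap (hH : Cfsg.IsStronglyEmbedded H) {q₁ q₂ : G ⧸ H} (hne : q₁ ≠ q₂) :
    Nat.card {i : G // orderOf i = 2 ∧ i • q₁ = q₂} = Nat.card {t : G // orderOf t = 2 ∧ t ∈ H} := by
  let _iG : Fintype G := Fintype.ofFinite G
  let _iQ : Fintype (G ⧸ H) := Fintype.ofFinite _
  let Iset : Finset G := Finset.univ.filter (fun t => orderOf t = 2)
  have key : ∀ P : G → Prop, Nat.card {t : G // orderOf t = 2 ∧ P t} = (Iset.filter P).card := by
    intro P
    apply Nat.subtype_card
    intro x
    simp [Iset]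
  let a : G ⧸ H → ℕ := fun q => (Iset.filter (fun t => t • q₁ = q)).card
  let b : G ⧸ H → ℕ := fun q => (Iset.filter (fun t => t • q = q)).card
  have keyfix : ∀ q : G ⧸ H, Nat.card {t : G // orderOf t = 2 ∧ t • q = q} = b q :=
    fun q => by rw [key (fun t => t • q = q)]; simp only [b]; congr
  have keyswap : ∀ q : G ⧸ H, Nat.card {i : G // orderOf i = 2 ∧ i • q₁ = q} = a q :=
    fun q => by rw [key (fun t => t • q₁ = q)]; simp only [a]; congr
  have hb : ∀ q, b q = Nat.card {t : G // orderOf t = 2 ∧ t ∈ H} := fun q => by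
    rw [← keyfix q, card_fix H q]
  have hab : ∀ q ∈ (Finset.univ : Finset (G ⧸ H)), b q ≤ a q := by
    intro q _
    by_cases hq : q = q₁
    · subst hq; exact le_rfl
    · have := le_card_swap hH (Ne.symm hq)
      rw [keyswap q] at this
      rw [hb q]; exact this
  have hsa : Iset.card = ∑ q ∈ (Finset.univ : Finset (G ⧸ H)), a q :=
    Finset.card_eq_sum_card_fiberwise (f := fun t : G => t • q₁) (fun _ _ => Finset.mem_univ _)
  -- the fixed point map
  let fp : G → G ⧸ H := fun t => if h : ∃ q : G ⧸ H, t • q = q then Classical.choose h else q₁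
  have hfp : ∀ t ∈ Iset, ∀ q : G ⧸ H, fp t = q ↔ t • q = q := by
    intro t ht q
    have ht2 : orderOf t = 2 := by simpa [Iset] using ht
    have hex : ∃ q : G ⧸ H, t • q = q := exists_fix hH ht2
    have hc : t • fp t = fp t := by
      simp only [fp, dif_pos hex]
      exact Classical.choose_spec hex
    constructor
    · intro h; rw [← h]; exact hc
    · intro h; exact fix_unique hH ht2 hc h
  have hsb : Iset.card = ∑ q ∈ (Finset.univ : Finset (G ⧸ H)), b q := by
    rw [Finset.card_eq_sum_card_fiberwise (f := fp) (s := Iset) (t := Finset.univ)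
      (fun _ _ => Finset.mem_univ _)]
    apply Finset.sum_congr rfl
    intro q _
    congr 1
    apply Finset.filter_congr
    intro t ht
    exact hfp t ht q
  have hq₂ : a q₂ = b q₂ := by
    by_contra hcon
    have hlt : b q₂ < a q₂ := lt_of_le_of_ne (hab q₂ (Finset.mem_univ _)) (Ne.symm hcon)
    have := Finset.sum_lt_sum hab ⟨q₂, Finset.mem_univ _, hlt⟩
    rw [← hsa, ← hsb] at this
    exact lt_irrefl _ this
  rw [keyswap q₂, hq₂, hb q₂]

end StrEmb

end StrEmb

end Cfsg.Agent.Helper21

namespace Cfsg.Agent.Helper21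

namespace StrEmb

set_option linter.unusedSectionVars false

variable {G : Type*} [Group G] [Finite G] {H : Subgroup G}

theorem mem_map_conj_iff' (H : Subgroup G) (u d : G) :
    d ∈ H.map (MulAut.conj u).toMonoidHom ↔ u⁻¹ * d * u ∈ H := by
  constructor
  · rintro ⟨h, hh, rfl⟩
    have : u⁻¹ * ((MulAut.conj u).toMonoidHom h) * u = h := by
      simp [MulAut.conj_apply, mul_assoc]
    rw [this]; exact hh
  · intro h
    exact ⟨u⁻¹ * d * u, h, by simp [MulAut.conj_apply, mul_assoc]⟩

/-- Two involutions of `H` are conjugate under `D = H ∩ uHu⁻¹`, `u` an involution outside `H`. -/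
theorem exists_conj_in_D (hH : Cfsg.IsStronglyEmbedded H) {u : G} (hu : orderOf u = 2)
    (huH : u ∉ H) {s t : G} (hs : orderOf s = 2) (hsH : s ∈ H) (ht : orderOf t = 2)
    (htH : t ∈ H) : ∃ d ∈ (H ⊓ H.map (MulAut.conj u).toMonoidHom), d * s * d⁻¹ = t := by
  have hs0 : s • (QuotientGroup.mk 1 : G ⧸ H) = QuotientGroup.mk 1 :=
    (smul_base_eq_iff H s).mpr hsH
  have ht0 : t • (QuotientGroup.mk 1 : G ⧸ H) = QuotientGroup.mk 1 :=
    (smul_base_eq_iff H t).mpr htH
  have ht1 : (u * t * u⁻¹) • (u • (QuotientGroup.mk 1 : G ⧸ H)) = u • QuotientGroup.mk 1 :=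
    conj_fix ht0
  have hne : (QuotientGroup.mk 1 : G ⧸ H) ≠ u • QuotientGroup.mk 1 := by
    intro h
    exact huH ((smul_base_eq_iff H u).mp h.symm)
  have ht' : orderOf (u * t * u⁻¹) = 2 := by rw [orderOf_conj_eq]; exact ht
  obtain ⟨v, hv2, hv, hvq⟩ := exists_swap hH hs ht' hs0 ht1 hne
  have huu := inv_mul_self_eq hu
  have hvv := inv_mul_self_eq hv2
  have hui := inv_inv_eq_self hu
  have hd1 : u⁻¹ * v ∈ H := by
    rw [← smul_base_eq_iff H, mul_smul, hvq, ← mul_smul, inv_mul_cancel, one_smul]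
  have hd2 : u⁻¹ * v ∈ H.map (MulAut.conj u).toMonoidHom := by
    rw [mem_map_conj_iff']
    have : u⁻¹ * (u⁻¹ * v) * u = v * u := by
      rw [hui]
      calc u * (u * v) * u = (u * u) * v * u := by group
        _ = v * u := by rw [huu, one_mul]
    rw [this, ← smul_base_eq_iff H, mul_smul, ← hvq, ← mul_smul, hvv, one_smul]
  refine ⟨u⁻¹ * v, ⟨hd1, hd2⟩, ?_⟩
  · calc u⁻¹ * v * s * (u⁻¹ * v)⁻¹ = u⁻¹ * (v * s * v⁻¹) * u := by group
      _ = t := by rw [hv]; group

/-- All involutions of `G` are conjugate when `G` has a strongly embedded subgroup. -/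
theorem isConj_involutions (hH : Cfsg.IsStronglyEmbedded H) {a b : G} (ha : orderOf a = 2)
    (hb : orderOf b = 2) : IsConj a b := by
  obtain ⟨qa, hqa⟩ := exists_fix hH ha
  obtain ⟨qb, hqb⟩ := exists_fix hH hb
  by_cases hne : qa = qb
  · subst hne
    -- an involution outside H
    have hex : ∃ u : G, orderOf u = 2 ∧ u ∉ H := by
      by_contra hcon
      push Not at hcon
      -- all involutions lie in H; then H ∩ H^g has an involution for any g
      obtain ⟨g, hg⟩ : ∃ g : G, g ∉ H := by
        by_contra h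
        push Not at h
        exact hH.1 (eq_top_iff.mpr fun x _ => h x)
      obtain ⟨s, hsH, hs⟩ := exists_inv_of_even_card hH.2.1
      have := hcon (g * s * g⁻¹) (by rw [orderOf_conj_eq]; exact hs)
      exact hg (mem_of_conj_mem hH hs hsH this)
    obtain ⟨u, hu, huH⟩ := hex
    obtain ⟨g, rfl⟩ := QuotientGroup.mk_surjective qa
    rw [smul_mk_eq_iff] at hqa hqb
    have ha' : orderOf (g⁻¹ * a * g) = 2 := by
      have := orderOf_conj_eq g⁻¹ a
      rw [inv_inv] at this
      rw [this]; exact ha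
    have hb' : orderOf (g⁻¹ * b * g) = 2 := by
      have := orderOf_conj_eq g⁻¹ b
      rw [inv_inv] at this
      rw [this]; exact hb
    obtain ⟨d, _, hd⟩ := exists_conj_in_D hH hu huH ha' hqa hb' hqb
    rw [isConj_iff]
    refine ⟨g * d * g⁻¹, ?_⟩
    calc g * d * g⁻¹ * a * (g * d * g⁻¹)⁻¹ = g * (d * (g⁻¹ * a * g) * d⁻¹) * g⁻¹ := by group
      _ = b := by rw [hd]; group
  · obtain ⟨v, _, hv, _⟩ := exists_swap hH ha hb hqa hqb hne
    rw [isConj_iff]
    exact ⟨v, hv⟩

end StrEmb

end Cfsg.Agent.Helper21
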