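import Mathlib
import Cfsg.Agent.Helper38.SLTrans

/-!
# Products of two conjugacy classes in `SL_d`: traces (helper21)

For non-central `A, B ∈ SL_d(F)`, `d ≥ 3`, there are conjugates `B₁, B₂` of `B` with
`tr (A B₁) = 0` and `tr (A B₂) ≠ 0`.  The tool is conjugation by the transvections
`1 + t • x ⊗ φ`.
-/

set_option autoImplicit false
set_option linter.unusedSectionVars false
set_option linter.unusedVariables false

namespace Cfsg.Agent.Helper21.AradHerzog

open Matrix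

variable {F : Type*} [Field F] {n : Type*} [Fintype n] [DecidableEq n]

theorem vmv_mulVec (u φ y : n → F) : vecMulVec u φ *ᵥ y = (φ ⬝ᵥ y) • u := by
  ext i
  simp only [mulVec, dotProduct, vecMulVec_apply, Pi.smul_apply, smul_eq_mul, Finset.sum_mul]
  apply Finset.sum_congr rfl
  intro j _
  ring

theorem vmv_sq (u φ : n → F) (h : φ ⬝ᵥ u = 0) : vecMulVec u φ * vecMulVec u φ = 0 := by
  rw [vecMulVec_mul_vecMulVec, h, zero_smul, vecMulVec_zero]

/-- The transvection `1 + t • u ⊗ φ` (`φ u = 0`) as an element of `SL`. -/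
noncomputable def tv (u φ : n → F) (h : φ ⬝ᵥ u = 0) (t : F) : SpecialLinearGroup n F :=
  ⟨1 + t • vecMulVec u φ, by
    have e : (1 + t • vecMulVec u φ : Matrix n n F) =
        1 + replicateCol Unit (t • u) * replicateRow Unit φ := by
      rw [← vecMulVec_eq Unit, smul_vecMulVec]
    rw [e]
    refine (det_one_add_replicateCol_mul_replicateRow (t • u) φ).trans ?_
    rw [dotProduct_smul, h, smul_zero, add_zero]⟩

theorem tv_coe (u φ : n → F) (h : φ ⬝ᵥ u = 0) (t : F) :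
    (tv u φ h t : Matrix n n F) = 1 + t • vecMulVec u φ := rfl

theorem tv_mul_neg (u φ : n → F) (h : φ ⬝ᵥ u = 0) (t : F) :
    tv u φ h t * tv u φ h (-t) = 1 := by
  apply Subtype.ext
  show (1 + t • vecMulVec u φ) * (1 + -t • vecMulVec u φ) = (1 : Matrix n n F)
  have hsq := vmv_sq u φ h
  calc (1 + t • vecMulVec u φ) * (1 + -t • vecMulVec u φ)
      = 1 + (-(t * t)) • (vecMulVec u φ * vecMulVec u φ) := by
        simp only [add_mul, mul_add, one_mul, mul_one, smul_mul_assoc, mul_smul_comm]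
        module
    _ = 1 := by rw [hsq, smul_zero, add_zero]

theorem tv_inv (u φ : n → F) (h : φ ⬝ᵥ u = 0) (t : F) :
    (tv u φ h t)⁻¹ = tv u φ h (-t) :=
  inv_eq_of_mul_eq_one_right (tv_mul_neg u φ h t)

/-- The matrix of a conjugate by a transvection, applied to a vector. -/
theorem tv_conj_mulVec (u φ : n → F) (h : φ ⬝ᵥ u = 0) (t : F) (M : Matrix n n F) (y : n → F) :
    ((1 + t • vecMulVec u φ) * M * (1 + -t • vecMulVec u φ)) *ᵥ y =
      M *ᵥ y + (t * (φ ⬝ᵥ (M *ᵥ y))) • u - (t * (φ ⬝ᵥ y)) • (M *ᵥ u)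
        - (t * t * (φ ⬝ᵥ y) * (φ ⬝ᵥ (M *ᵥ u))) • u := by
  rw [← mulVec_mulVec, ← mulVec_mulVec]
  have e1 : (1 + -t • vecMulVec u φ) *ᵥ y = y - (t * (φ ⬝ᵥ y)) • u := by
    rw [add_mulVec, one_mulVec, smul_mulVec, vmv_mulVec, smul_smul]
    simp only [neg_mul, neg_smul]
    abel
  rw [e1, mulVec_sub, mulVec_smul, add_mulVec, one_mulVec, smul_mulVec, vmv_mulVec, smul_smul,
    dotProduct_sub, dotProduct_smul, smul_eq_mul]
  simp only [mul_sub, sub_smul]
  have e2 : t * (t * (φ ⬝ᵥ y) * (φ ⬝ᵥ (M *ᵥ u))) = t * t * (φ ⬝ᵥ y) * (φ ⬝ᵥ (M *ᵥ u)) := by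
    ring
  rw [e2]
  abel

/-- The trace of `A * (T M T⁻¹)` for a transvection `T = 1 + t • u ⊗ φ` with `φ (A u) = 0`. -/
theorem trace_tv_conj (u φ : n → F) (h : φ ⬝ᵥ u = 0) (t : F) (A M : Matrix n n F)
    (hA : φ ⬝ᵥ (A *ᵥ u) = 0) :
    trace (A * ((1 + t • vecMulVec u φ) * M * (1 + -t • vecMulVec u φ))) =
      trace (A * M) + t * (φ ⬝ᵥ (M *ᵥ (A *ᵥ u)) - φ ⬝ᵥ (A *ᵥ (M *ᵥ u))) := by
  have e1 : A * (vecMulVec u φ * M) = vecMulVec (A *ᵥ u) (φ ᵥ* M) := by
    rw [vecMulVec_mul, mul_vecMulVec]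
  have e2 : A * (M * vecMulVec u φ) = vecMulVec (A *ᵥ (M *ᵥ u)) φ := by
    rw [mul_vecMulVec, mul_vecMulVec]
  have e3 : A * (vecMulVec u φ * M * vecMulVec u φ) =
      vecMulVec (A *ᵥ u) (((φ ᵥ* M) ⬝ᵥ u) • φ) := by
    rw [vecMulVec_mul, vecMulVec_mul_vecMulVec, mul_vecMulVec]
  have expand : (1 + t • vecMulVec u φ) * M * (1 + -t • vecMulVec u φ) =
      M + t • (vecMulVec u φ * M) - t • (M * vecMulVec u φ)
        - (t * t) • (vecMulVec u φ * M * vecMulVec u φ) := by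
    simp only [add_mul, mul_add, one_mul, mul_one, smul_mul_assoc, mul_smul_comm]
    module
  rw [expand, mul_sub, mul_sub, mul_add, mul_smul_comm, mul_smul_comm, mul_smul_comm, e1, e2, e3,
    trace_sub, trace_sub, trace_add, trace_smul, trace_smul, trace_smul, trace_vecMulVec,
    trace_vecMulVec, trace_vecMulVec, dotProduct_smul, dotProduct_comm (A *ᵥ u) φ, hA]
  rw [dotProduct_comm (A *ᵥ u) (φ ᵥ* M), ← dotProduct_mulVec,
    dotProduct_comm (A *ᵥ (M *ᵥ u)) φ]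
  simp only [smul_eq_mul, mul_zero, sub_zero]
  ring

end Cfsg.Agent.Helper21.AradHerzog
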