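import Mathlib
import Cfsg.Agent.Helper21.AradHerzogA

/-!
# Products of two conjugacy classes in `SL_d`, `d ≥ 3` (helper21)

`exists_trace_zero_ne`: for non-central `A, B ∈ SL_d(F)` there are conjugates `B₁, B₂` of `B`
with `tr (A B₁) = 0 ≠ tr (A B₂)`.
`trace_zero_iff_of_isConj`: vanishing of the trace is an invariant of `PSL`-classes.
-/

set_option autoImplicit false
set_option linter.unusedSectionVars false
set_option linter.unusedVariables false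

namespace Cfsg.Agent.Helper21.AradHerzog

open Matrix

variable {F : Type*} [Field F]

/-- A non-central element of `SL_d` moves some vector off its line. -/
theorem exists_li_of_not_center {d : ℕ} (A : SpecialLinearGroup (Fin d) F)
    (hA : A ∉ Subgroup.center (SpecialLinearGroup (Fin d) F)) :
    ∃ x : Fin d → F, LinearIndependent F ![x, (A : Matrix (Fin d) (Fin d) F) *ᵥ x] := by
  by_contra hcon
  push Not at hcon
  obtain ⟨a, ha⟩ := (Matrix.mulVecLin (A : Matrix (Fin d) (Fin d) F)).exists_eq_smul_id_of_forall_notLinearIndependent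
    (fun v => hcon v)
  apply hA
  rw [Matrix.SpecialLinearGroup.mem_center_iff]
  have hAa : Matrix.scalar (Fin d) a = (A : Matrix (Fin d) (Fin d) F) := by
    ext i j
    have h1 := congrFun (LinearMap.congr_fun ha (Pi.single j 1)) i
    rw [Matrix.mulVecLin_apply, Matrix.mulVec_single_one] at h1
    have h2 : (A : Matrix (Fin d) (Fin d) F) i j = a * (Pi.single j (1 : F) : Fin d → F) i := h1
    rw [Matrix.scalar_apply, Matrix.diagonal_apply, h2, Pi.single_apply]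
    split_ifs <;> simp
  refine ⟨a, ?_, hAa⟩
  have hdet := A.prop
  rw [← hAa] at hdet
  simpa using hdet

theorem exists_third {d : ℕ} (hd : 3 ≤ d) (x y : Fin d → F) (h : LinearIndependent F ![x, y]) :
    ∃ w, LinearIndependent F ![w, x, y] := by
  have hne : Submodule.span F (Set.range ![x, y]) ≠ ⊤ := by
    intro htop
    have h1 := finrank_span_eq_card h
    rw [htop, finrank_top] at h1
    simp at h1
    omega
  obtain ⟨w, hw⟩ : ∃ w, w ∉ Submodule.span F (Set.range ![x, y]) := by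
    by_contra hcon
    push Not at hcon
    exact hne (Submodule.eq_top_iff'.2 hcon)
  exact ⟨w, linearIndependent_finCons.2 ⟨h, hw⟩⟩

theorem exists_dual_triple {d : ℕ} (hd : 3 ≤ d) (f : Fin 3 → (Fin d → F))
    (hf : LinearIndependent F f) :
    ∃ M : Matrix (Fin d) (Fin d) F,
      ∀ i : Fin 3, M *ᵥ f i = Pi.single (Fin.castLE hd i) 1 := by
  have he : LinearIndependent F
      (fun i : Fin 3 => (Pi.single (Fin.castLE hd i) (1 : F) : Fin d → F)) := by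
    have h1 := (Pi.basisFun F (Fin d)).linearIndependent.comp (Fin.castLE hd)
      (Fin.castLE_injective hd)
    convert h1 using 1
    funext i
    simp [Pi.basisFun_apply]
  obtain ⟨g, hg⟩ := Cfsg.Agent.Helper38.exists_linearEquiv_map f _ hf he
  refine ⟨LinearMap.toMatrix' g.toLinearMap, fun i => ?_⟩
  rw [← Matrix.toLin'_apply, Matrix.toLin'_toMatrix']
  exact hg i

/-- The key existence statement. -/
theorem exists_pair {d : ℕ} (hd : 3 ≤ d) (A B : SpecialLinearGroup (Fin d) F)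
    (hA : A ∉ Subgroup.center (SpecialLinearGroup (Fin d) F))
    (hB : B ∉ Subgroup.center (SpecialLinearGroup (Fin d) F)) :
    ∃ (H : SpecialLinearGroup (Fin d) F) (x φ : Fin d → F), φ ⬝ᵥ x = 0 ∧
      φ ⬝ᵥ ((A : Matrix (Fin d) (Fin d) F) *ᵥ x) = 0 ∧
      φ ⬝ᵥ ((↑(H * B * H⁻¹) : Matrix (Fin d) (Fin d) F) *ᵥ
          ((A : Matrix (Fin d) (Fin d) F) *ᵥ x)) -
        φ ⬝ᵥ ((A : Matrix (Fin d) (Fin d) F) *ᵥ
          ((↑(H * B * H⁻¹) : Matrix (Fin d) (Fin d) F) *ᵥ x)) ≠ 0 := by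
  obtain ⟨x, hx⟩ := exists_li_of_not_center A hA
  obtain ⟨w, hw⟩ := exists_third hd x ((A : Matrix (Fin d) (Fin d) F) *ᵥ x) hx
  obtain ⟨M, hM⟩ := exists_dual_triple hd ![w, x, (A : Matrix (Fin d) (Fin d) F) *ᵥ x] hw
  have hM0 : M *ᵥ w = Pi.single (Fin.castLE hd 0) 1 := hM 0
  have hM1 : M *ᵥ x = Pi.single (Fin.castLE hd 1) 1 := hM 1
  have hM2 : M *ᵥ ((A : Matrix (Fin d) (Fin d) F) *ᵥ x) = Pi.single (Fin.castLE hd 2) 1 := hM 2
  obtain ⟨φ, hφ⟩ : ∃ φ : Fin d → F, φ = M (Fin.castLE hd 0) := ⟨_, rfl⟩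
  obtain ⟨ψ, hψ⟩ : ∃ ψ : Fin d → F, ψ = M (Fin.castLE hd 2) := ⟨_, rfl⟩
  have dotφ : ∀ y, φ ⬝ᵥ y = (M *ᵥ y) (Fin.castLE hd 0) := fun y => by rw [hφ]; rfl
  have dotψ : ∀ y, ψ ⬝ᵥ y = (M *ᵥ y) (Fin.castLE hd 2) := fun y => by rw [hψ]; rfl
  have n01 : (Fin.castLE hd 0 : Fin d) ≠ Fin.castLE hd 1 := fun h => by
    have := Fin.castLE_injective hd h
    exact absurd this (by decide)
  have n02 : (Fin.castLE hd 0 : Fin d) ≠ Fin.castLE hd 2 := fun h => by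
    have := Fin.castLE_injective hd h
    exact absurd this (by decide)
  have n12 : (Fin.castLE hd 1 : Fin d) ≠ Fin.castLE hd 2 := fun h => by
    have := Fin.castLE_injective hd h
    exact absurd this (by decide)
  have φw : φ ⬝ᵥ w = 1 := by rw [dotφ, hM0, Pi.single_eq_same]
  have φx : φ ⬝ᵥ x = 0 := by rw [dotφ, hM1, Pi.single_eq_of_ne n01]
  have φAx : φ ⬝ᵥ ((A : Matrix (Fin d) (Fin d) F) *ᵥ x) = 0 := by
    rw [dotφ, hM2, Pi.single_eq_of_ne n02]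
  have ψw : ψ ⬝ᵥ w = 0 := by rw [dotψ, hM0, Pi.single_eq_of_ne n02.symm]
  have ψx : ψ ⬝ᵥ x = 0 := by rw [dotψ, hM1, Pi.single_eq_of_ne n12.symm]
  have ψAx : ψ ⬝ᵥ ((A : Matrix (Fin d) (Fin d) F) *ᵥ x) = 1 := by
    rw [dotψ, hM2, Pi.single_eq_same]
  obtain ⟨v, hv⟩ := exists_li_of_not_center B hB
  have hxw : LinearIndependent F ![x, w] := by
    have h1 := hw.comp (![1, 0] : Fin 2 → Fin 3) (by decide)
    convert h1 using 1
    funext i
    fin_cases i <;> rfl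
  obtain ⟨h, hh⟩ := Cfsg.Agent.Helper38.exists_sl_map
    ![v, (B : Matrix (Fin d) (Fin d) F) *ᵥ v] ![x, w] hv hxw (by simp; omega)
  have hh0 : (h : Matrix (Fin d) (Fin d) F) *ᵥ v = x := hh 0
  have hh1 : (h : Matrix (Fin d) (Fin d) F) *ᵥ ((B : Matrix (Fin d) (Fin d) F) *ᵥ v) = w := hh 1
  have hinv : (↑(h⁻¹) : Matrix (Fin d) (Fin d) F) *ᵥ x = v := by
    rw [← hh0, mulVec_mulVec, ← Matrix.SpecialLinearGroup.coe_mul, inv_mul_cancel,
      Matrix.SpecialLinearGroup.coe_one, one_mulVec]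
  obtain ⟨B', hB'⟩ : ∃ B' : SpecialLinearGroup (Fin d) F, B' = h * B * h⁻¹ := ⟨_, rfl⟩
  have hB'x : (B' : Matrix (Fin d) (Fin d) F) *ᵥ x = w := by
    rw [hB', Matrix.SpecialLinearGroup.coe_mul, Matrix.SpecialLinearGroup.coe_mul, ← mulVec_mulVec,
      ← mulVec_mulVec, hinv, hh1]
  by_cases hc : φ ⬝ᵥ ((B' : Matrix (Fin d) (Fin d) F) *ᵥ ((A : Matrix (Fin d) (Fin d) F) *ᵥ x)) -
      φ ⬝ᵥ ((A : Matrix (Fin d) (Fin d) F) *ᵥ ((B' : Matrix (Fin d) (Fin d) F) *ᵥ x)) = 0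
  · refine ⟨tv x ψ ψx 1 * h, x, φ, φx, φAx, ?_⟩
    have e : tv x ψ ψx 1 * h * B * (tv x ψ ψx 1 * h)⁻¹ = tv x ψ ψx 1 * B' * tv x ψ ψx (-1) := by
      rw [← tv_inv, hB']
      group
    have ecoe : (↑(tv x ψ ψx 1 * B' * tv x ψ ψx (-1)) : Matrix (Fin d) (Fin d) F) =
        (1 + (1 : F) • vecMulVec x ψ) * (B' : Matrix (Fin d) (Fin d) F) *
          (1 + -(1 : F) • vecMulVec x ψ) := by
      rw [Matrix.SpecialLinearGroup.coe_mul, Matrix.SpecialLinearGroup.coe_mul, tv_coe, tv_coe]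
    rw [e, ecoe, tv_conj_mulVec x ψ ψx, tv_conj_mulVec x ψ ψx, hB'x, ψw, ψx, ψAx]
    rw [hB'x] at hc
    have key : φ ⬝ᵥ ((B' : Matrix (Fin d) (Fin d) F) *ᵥ ((A : Matrix (Fin d) (Fin d) F) *ᵥ x) +
          (1 * ψ ⬝ᵥ ((B' : Matrix (Fin d) (Fin d) F) *ᵥ
            ((A : Matrix (Fin d) (Fin d) F) *ᵥ x))) • x - ((1 : F) * 1) • w -
          ((1 : F) * 1 * 1 * 0) • x) -
        φ ⬝ᵥ ((A : Matrix (Fin d) (Fin d) F) *ᵥ
          (w + ((1 : F) * 0) • x - ((1 : F) * 0) • w - ((1 : F) * 1 * 0 * 0) • x)) = -1 := by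
      simp only [one_mul, mul_zero, mul_one, zero_smul, one_smul, sub_zero, add_zero,
        dotProduct_add, dotProduct_sub, dotProduct_smul, smul_eq_mul, φx, φw]
      linear_combination hc
    rw [key]
    exact neg_ne_zero.2 one_ne_zero
  · exact ⟨h, x, φ, φx, φAx, by rw [← hB']; exact hc⟩

/-- Along the transvections `1 + t • x ⊗ φ` the trace of `A * (S B S⁻¹)` takes every value. -/
theorem exists_trace_of_pair {d : ℕ} (A Bc : SpecialLinearGroup (Fin d) F) (x φ : Fin d → F)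
    (h0 : φ ⬝ᵥ x = 0) (hA : φ ⬝ᵥ ((A : Matrix (Fin d) (Fin d) F) *ᵥ x) = 0)
    (hc : φ ⬝ᵥ ((Bc : Matrix (Fin d) (Fin d) F) *ᵥ ((A : Matrix (Fin d) (Fin d) F) *ᵥ x)) -
      φ ⬝ᵥ ((A : Matrix (Fin d) (Fin d) F) *ᵥ ((Bc : Matrix (Fin d) (Fin d) F) *ᵥ x)) ≠ 0)
    (r : F) :
    ∃ S : SpecialLinearGroup (Fin d) F,
      trace (↑(A * (S * Bc * S⁻¹)) : Matrix (Fin d) (Fin d) F) = r := by
  refine ⟨tv x φ h0 ((r - trace (↑(A * Bc) : Matrix (Fin d) (Fin d) F)) /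
    (φ ⬝ᵥ ((Bc : Matrix (Fin d) (Fin d) F) *ᵥ ((A : Matrix (Fin d) (Fin d) F) *ᵥ x)) -
      φ ⬝ᵥ ((A : Matrix (Fin d) (Fin d) F) *ᵥ ((Bc : Matrix (Fin d) (Fin d) F) *ᵥ x)))), ?_⟩
  rw [tv_inv, Matrix.SpecialLinearGroup.coe_mul, Matrix.SpecialLinearGroup.coe_mul, Matrix.SpecialLinearGroup.coe_mul,
    tv_coe, tv_coe, trace_tv_conj x φ h0 _ _ _ hA, Matrix.SpecialLinearGroup.coe_mul]
  field_simp
  ring

/-- For non-central `A, B ∈ SL_d(F)`, `d ≥ 3`: conjugates of `B` with `tr (A B₁) = 0` and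
`tr (A B₂) ≠ 0`. -/
theorem exists_trace_zero_ne {d : ℕ} (hd : 3 ≤ d) (A B : SpecialLinearGroup (Fin d) F)
    (hA : A ∉ Subgroup.center (SpecialLinearGroup (Fin d) F))
    (hB : B ∉ Subgroup.center (SpecialLinearGroup (Fin d) F)) :
    ∃ H1 H2 : SpecialLinearGroup (Fin d) F,
      trace (↑(A * (H1 * B * H1⁻¹)) : Matrix (Fin d) (Fin d) F) = 0 ∧
      trace (↑(A * (H2 * B * H2⁻¹)) : Matrix (Fin d) (Fin d) F) ≠ 0 := by
  obtain ⟨H, x, φ, h0, hAx, hc⟩ := exists_pair hd A B hA hB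
  obtain ⟨S1, hS1⟩ := exists_trace_of_pair A (H * B * H⁻¹) x φ h0 hAx hc 0
  obtain ⟨S2, hS2⟩ := exists_trace_of_pair A (H * B * H⁻¹) x φ h0 hAx hc 1
  refine ⟨S1 * H, S2 * H, ?_, ?_⟩
  · have e : S1 * H * B * (S1 * H)⁻¹ = S1 * (H * B * H⁻¹) * S1⁻¹ := by group
    rw [e, hS1]
  · have e : S2 * H * B * (S2 * H)⁻¹ = S2 * (H * B * H⁻¹) * S2⁻¹ := by group
    rw [e, hS2]
    exact one_ne_zero

/-- Vanishing of the trace is an invariant of conjugacy classes of `PSL_d(F)`. -/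
theorem trace_zero_iff_of_isConj {d : ℕ} (hd : 0 < d) (M1 M2 : SpecialLinearGroup (Fin d) F)
    (h : IsConj (QuotientGroup.mk M1 : Matrix.ProjectiveSpecialLinearGroup (Fin d) F)
      (QuotientGroup.mk M2)) :
    trace (M1 : Matrix (Fin d) (Fin d) F) = 0 ↔ trace (M2 : Matrix (Fin d) (Fin d) F) = 0 := by
  obtain ⟨c, hc⟩ := isConj_iff.1 h
  obtain ⟨C, rfl⟩ := QuotientGroup.mk_surjective c
  have h1 : (QuotientGroup.mk (C * M1 * C⁻¹) : Matrix.ProjectiveSpecialLinearGroup (Fin d) F) =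
      QuotientGroup.mk M2 := hc
  rw [QuotientGroup.eq] at h1
  obtain ⟨r, hr, hscal⟩ := Matrix.SpecialLinearGroup.mem_center_iff.1 h1
  have hr0 : r ≠ 0 := by
    rintro rfl
    rw [Fintype.card_fin, zero_pow (by omega)] at hr
    exact zero_ne_one hr
  have hM2 : M2 = C * M1 * C⁻¹ * ((C * M1 * C⁻¹)⁻¹ * M2) := by group
  have htr : trace (M2 : Matrix (Fin d) (Fin d) F) = r * trace (M1 : Matrix (Fin d) (Fin d) F) := by
    conv_lhs => rw [hM2]
    rw [Matrix.SpecialLinearGroup.coe_mul, ← hscal, Matrix.scalar_apply, ← Matrix.smul_one_eq_diagonal,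
      Matrix.mul_smul, Matrix.mul_one, trace_smul, Matrix.SpecialLinearGroup.coe_mul,
      Matrix.SpecialLinearGroup.coe_mul, trace_mul_cycle, ← Matrix.SpecialLinearGroup.coe_mul, inv_mul_cancel,
      Matrix.SpecialLinearGroup.coe_one, Matrix.one_mul, smul_eq_mul]
  rw [htr]
  constructor
  · intro h0
    rw [h0, mul_zero]
  · intro h0
    rcases mul_eq_zero.1 h0 with h | h
    · exact absurd h hr0
    · exact h

end Cfsg.Agent.Helper21.AradHerzog
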