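import Mathlib.GroupTheory.Sylow
import Mathlib.GroupTheory.Subgroup.Centralizer
import Mathlib.Algebra.Group.End

set_option autoImplicit false

/-!
# Basic Sylow / conjugation lemmas (helper21)
-/

namespace Cfsg.Agent.Helper21

/-- Membership in a conjugate subgroup `H.map (conj g)`. -/
theorem mem_map_conj_iff {G : Type*} [Group G] (H : Subgroup G) (g x : G) :
    x ∈ H.map (MulAut.conj g).toMonoidHom ↔ g⁻¹ * x * g ∈ H := by
  constructor
  · rintro ⟨y, hy, rfl⟩
    have : g⁻¹ * ((MulAut.conj g).toMonoidHom y) * g = y := by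
      simp [MulAut.conj_apply, mul_assoc]
    rw [this]; exact hy
  · intro h
    refine ⟨g⁻¹ * x * g, h, ?_⟩
    simp [MulAut.conj_apply, mul_assoc]

/-- A `p`-subgroup of a finite group is conjugate into any given Sylow `p`-subgroup. -/
theorem exists_conj_mem_sylow {G : Type*} [Group G] [Finite G] {p : ℕ} [Fact p.Prime]
    (P : Sylow p G) {R : Subgroup G} (hR : IsPGroup p R) :
    ∃ g : G, ∀ r ∈ R, g * r * g⁻¹ ∈ (P : Subgroup G) := by
  obtain ⟨Q, hQ⟩ := hR.exists_le_sylow
  obtain ⟨g, rfl⟩ := MulAction.exists_smul_eq G Q P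
  refine ⟨g, fun r hr => ?_⟩
  rw [Sylow.coe_subgroup_smul, Subgroup.mem_pointwise_smul_iff_inv_smul_mem]
  have : (MulAut.conj g)⁻¹ • (g * r * g⁻¹) = r := by
    simp [MulAut.smul_def, mul_assoc]
  rw [this]
  exact hQ hr

/-- A `p`-subgroup `R` of a subgroup `H` of a finite group is `H`-conjugate into any given Sylow
`p`-subgroup of `H`. -/
theorem exists_conj_mem_sylow_of_le {G : Type*} [Group G] [Finite G] {p : ℕ} [Fact p.Prime]
    {H : Subgroup G} (P : Sylow p H) {R : Subgroup G} (hR : IsPGroup p R) (hRH : R ≤ H) :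
    ∃ h ∈ H, ∀ r ∈ R, h * r * h⁻¹ ∈ (P : Subgroup H).map H.subtype := by
  have hR' : IsPGroup p (R.subgroupOf H) := hR.comap_subtype
  obtain ⟨h, hh⟩ := exists_conj_mem_sylow P hR'
  refine ⟨h, h.2, fun r hr => ?_⟩
  have := hh ⟨r, hRH hr⟩ (by rw [Subgroup.mem_subgroupOf]; exact hr)
  exact ⟨_, this, by simp⟩

/-- If conjugation by `g` maps the finite subgroup `W` into itself then `g` normalizes `W`. -/
theorem mem_normalizer_of_conj_mem {G : Type*} [Group G] [Finite G] (W : Subgroup G) (g : G)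
    (h : ∀ w ∈ W, g * w * g⁻¹ ∈ W) : g ∈ Subgroup.normalizer (W : Set G) := by
  rw [Subgroup.mem_normalizer_iff]
  intro w
  refine ⟨h w, fun hw => ?_⟩
  let f : W → W := fun a => ⟨g * a.1 * g⁻¹, h a.1 a.2⟩
  have hinj : Function.Injective f := by
    intro a b hab
    have : g * a.1 * g⁻¹ = g * b.1 * g⁻¹ := congrArg Subtype.val hab
    apply Subtype.ext
    simpa using this
  obtain ⟨b, hb⟩ := Finite.surjective_of_injective hinj ⟨g * w * g⁻¹, hw⟩
  have : g * b.1 * g⁻¹ = g * w * g⁻¹ := congrArg Subtype.val hb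
  have hbw : b.1 = w := by simpa using this
  rw [← hbw]; exact b.2

end Cfsg.Agent.Helper21
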