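import Mathlib
import Cfsg.Prelude.Def_Blocks
import Cfsg.Agent.Helper75.Eigen
import Cfsg.Agent.Helper81.CharBasic

/-!
# Groups with an involution whose centralizer is dihedral of order 8 (helper21)

Part A: integrality and parity of character values at elements of order dividing four, and the
arithmetic behind Brauer's order formula.
-/

set_option autoImplicit false

namespace Cfsg.Agent.Helper21.DEight

open scoped ComplexConjugate

/-- A sum of fourth roots of unity is a Gaussian integer `a + b i` with `a + b` congruent to the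
number of summands modulo two. -/
theorem deMultiset4 (s : Multiset ℂ) :
    (∀ μ ∈ s, μ ^ 4 = 1) →
    ∃ a b : ℤ, s.sum = (a : ℂ) + (b : ℂ) * Complex.I ∧
      (2 : ℤ) ∣ (Multiset.card s : ℤ) - a - b := by
  induction s using Multiset.induction_on with
  | empty =>
    intro _
    exact ⟨0, 0, by simp, by simp⟩
  | cons μ s ih =>
    intro h
    obtain ⟨a, b, hab, hpar⟩ := ih (fun ν hν => h ν (Multiset.mem_cons_of_mem hν))
    have hμ : μ ^ 4 = 1 := h μ (Multiset.mem_cons_self μ s)
    have hfac : (μ - 1) * (μ + 1) * (μ - Complex.I) * (μ + Complex.I) = 0 := by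
      have hI : Complex.I ^ 2 = -1 := Complex.I_sq
      linear_combination hμ - (μ ^ 2 - 1) * hI
    rw [Multiset.sum_cons, Multiset.card_cons, hab]
    obtain ⟨k, hk⟩ := hpar
    rcases mul_eq_zero.mp hfac with h3 | h3
    · rcases mul_eq_zero.mp h3 with h3 | h3
      · rcases mul_eq_zero.mp h3 with h3 | h3
        · refine ⟨a + 1, b, ?_, ⟨k, ?_⟩⟩
          · rw [sub_eq_zero.mp h3]; push_cast; ring
          · push_cast; linarith
        · refine ⟨a - 1, b, ?_, ⟨k + 1, ?_⟩⟩
          · rw [eq_neg_of_add_eq_zero_left h3]; push_cast; ring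
          · push_cast; linarith
      · refine ⟨a, b + 1, ?_, ⟨k, ?_⟩⟩
        · rw [sub_eq_zero.mp h3]; push_cast; ring
        · push_cast; linarith
    · refine ⟨a, b - 1, ?_, ⟨k + 1, ?_⟩⟩
      · rw [eq_neg_of_add_eq_zero_left h3]; push_cast; ring
      · push_cast; linarith

/-- The value of an irreducible character at an element `g` with `g ^ 4 = 1` at which the
character is real is a rational integer congruent to the degree modulo two. -/
theorem deIrr_order4 {G : Type*} [Group G] [Finite G] (χ : Cfsg.IrrCharacter G) (g : G)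
    (hg : g ^ 4 = 1) (hreal : conj ((χ : G → ℂ) g) = (χ : G → ℂ) g) :
    ∃ m : ℤ, (χ : G → ℂ) g = (m : ℂ) ∧ (2 : ℤ) ∣ (Cfsg.charDegree (χ : G → ℂ) : ℤ) - m := by
  revert hreal
  obtain ⟨χ, n, ρ, -, rfl⟩ := χ
  intro hreal
  have hf : (ρ g) ^ 4 = 1 := by rw [← map_pow, hg, map_one]
  obtain ⟨s, hs1, hs2, hs3⟩ := Cfsg.Agent.Helper75.exists_eigen_multiset (ρ g) 4 (by norm_num) hf
  obtain ⟨a, b, hab, hpar⟩ := deMultiset4 s hs1
  have hdeg : Cfsg.charDegree ρ.character = n := by
    unfold Cfsg.charDegree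
    rw [Representation.char_one]
    simp
  have hchar : ρ.character g = s.sum := by
    unfold Representation.character
    have h := hs3 1
    rw [pow_one] at h
    rw [h]
    congr 1
    simp
  have hreal' : conj (ρ.character g) = ρ.character g := hreal
  rw [hchar, hab] at hreal'
  have hb : b = 0 := by
    have h1 := congrArg Complex.im hreal'
    simp at h1
    have h2 : (b : ℝ) = 0 := by linarith
    exact_mod_cast h2
  subst hb
  refine ⟨a, ?_, ?_⟩
  · show ρ.character g = _
    rw [hchar, hab]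
    simp
  · show (2 : ℤ) ∣ (Cfsg.charDegree ρ.character : ℤ) - a
    rw [hdeg]
    have hcard : (Multiset.card s : ℤ) = n := by
      rw [hs2]
      simp
    rw [hcard] at hpar
    simpa using hpar

/-- The arithmetic behind the order formula for a dihedral Sylow subgroup of order eight. -/
theorem deArith (N x m : ℕ) (δ : ℤ) (hδ : δ = 1 ∨ δ = -1) (hx : 0 < x) (hxδ : (x : ℤ) ≠ δ)
    (hm : Odd m) (hN : N = 8 * m)
    (h : (N : ℚ) * ((x : ℚ) - δ) ^ 2 = 256 * (x : ℚ) * ((x : ℚ) + δ)) :
    N = 168 ∨ N = 360 := by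
  have hZ : (N : ℤ) * ((x : ℤ) - δ) ^ 2 = 256 * (x : ℤ) * ((x : ℤ) + δ) := by
    exact_mod_cast h
  obtain ⟨j, hj⟩ := hm
  subst hN
  set d : ℤ := (x : ℤ) - δ with hd
  have hxd : (x : ℤ) = d + δ := by rw [hd]; ring
  have hδ2 : δ * δ = 1 := by rcases hδ with rfl | rfl <;> norm_num
  have hd0 : d ≠ 0 := by
    intro h0
    apply hxδ
    rw [hxd, h0, zero_add]
  have hdpos : 0 < d := by
    have h1 : (1 : ℤ) ≤ x := by exact_mod_cast hx
    rcases hδ with rfl | rfl
    · have : 0 ≤ d := by rw [hd]; linarith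
      exact lt_of_le_of_ne this (Ne.symm hd0)
    · rw [hd]; linarith
  have hmain : (m : ℤ) * d ^ 2 = 32 * (d ^ 2 + 3 * δ * d + 2) := by
    have h1 : ((8 * m : ℕ) : ℤ) = 8 * (m : ℤ) := by push_cast; ring
    rw [h1, hxd] at hZ
    have h2 : 8 * ((m : ℤ) * d ^ 2) = 8 * (32 * (d ^ 2 + 3 * δ * d + 2)) := by
      linear_combination hZ + 512 * hδ2
    exact mul_left_cancel₀ (by norm_num) h2
  have hdvd : d ∣ 64 := by
    refine ⟨((m : ℤ) - 32) * d - 96 * δ, ?_⟩
    linear_combination -hmain
  have hle : d ≤ 64 := Int.le_of_dvd (by norm_num) hdvd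
  have hmj : (m : ℤ) = 2 * j + 1 := by exact_mod_cast hj
  rw [hmj] at hmain
  have hgoal : (m : ℤ) = 21 ∨ (m : ℤ) = 45 := by
    rw [hmj]
    interval_cases d <;> rcases hδ with rfl | rfl <;> omega
  rcases hgoal with h1 | h1
  · left
    have : m = 21 := by exact_mod_cast h1
    omega
  · right
    have : m = 45 := by exact_mod_cast h1
    omega

end Cfsg.Agent.Helper21.DEight
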