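import Mathlib
import Cfsg.Agent.Helper55.DihedralSylow
import Cfsg.Agent.Helper2.PComplement2

/-!
# Dihedral Sylow 2-subgroups: basic tools (helper21)

* `dsIso`: the isomorphism `⟨σ, τ⟩ ≃* DihedralGroup m` from generators and relations.
* `dsRetract`: a group with a normal 2-complement retracts onto a Sylow 2-subgroup.
* `dsPow_dvd_orderOf_iff`: homomorphisms with odd kernel preserve the 2-part of the order.
-/

set_option autoImplicit false

namespace Cfsg.Agent.Helper21.DihOrd

open DihedralGroup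

section iso

variable {G : Type*} [Group G]

/-- the candidate isomorphism -/
def dsFun (σ τ : G) (m : ℕ) : DihedralGroup m → G
  | DihedralGroup.r i => σ ^ i.val
  | DihedralGroup.sr i => τ * σ ^ i.val

theorem dsPow_val_add {σ : G} {m : ℕ} [NeZero m] (hm : orderOf σ = m) (i j : ZMod m) :
    σ ^ (i + j).val = σ ^ i.val * σ ^ j.val := by
  subst hm
  rw [ZMod.val_add, ← pow_add, pow_mod_orderOf]

theorem dsPow_val_sub {σ : G} {m : ℕ} [NeZero m] (hm : orderOf σ = m) (i j : ZMod m) :
    σ ^ (j - i).val = (σ ^ i.val)⁻¹ * σ ^ j.val := by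
  have := dsPow_val_add hm i (j - i)
  rw [add_sub_cancel] at this
  rw [this]; group

theorem dsFun_mul {σ τ : G} {m : ℕ} [NeZero m] (hm : orderOf σ = m) (hτ : τ * τ = 1)
    (hrel : τ * σ * τ⁻¹ = σ⁻¹) (g g' : DihedralGroup m) :
    dsFun σ τ m (g * g') = dsFun σ τ m g * dsFun σ τ m g' := by
  have hτi : τ⁻¹ = τ := inv_eq_of_mul_eq_one_left hτ
  have hc1 : σ * τ = τ * σ⁻¹ := by
    have h1 : τ * σ = σ⁻¹ * τ := by
      have : τ * σ * τ⁻¹ * τ = σ⁻¹ * τ := by rw [hrel]
      simpa using this
    calc σ * τ = σ * (σ⁻¹ * τ) * σ⁻¹ := by rw [← h1]; group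
      _ = τ * σ⁻¹ := by group
  have hc : ∀ k : ℕ, σ ^ k * τ = τ * (σ ^ k)⁻¹ := by
    intro k
    induction k with
    | zero => simp
    | succ k ih =>
      rw [pow_succ, mul_assoc, hc1, ← mul_assoc, ih]
      group
  cases g with
  | r i =>
    cases g' with
    | r j =>
      rw [DihedralGroup.r_mul_r]
      exact dsPow_val_add hm i j
    | sr j =>
      rw [DihedralGroup.r_mul_sr]
      show τ * σ ^ (j - i).val = σ ^ i.val * (τ * σ ^ j.val)
      rw [dsPow_val_sub hm, ← mul_assoc, ← mul_assoc, hc]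
  | sr i =>
    cases g' with
    | r j =>
      rw [DihedralGroup.sr_mul_r]
      show τ * σ ^ (i + j).val = τ * σ ^ i.val * σ ^ j.val
      rw [dsPow_val_add hm, mul_assoc]
    | sr j =>
      rw [DihedralGroup.sr_mul_sr]
      show σ ^ (j - i).val = τ * σ ^ i.val * (τ * σ ^ j.val)
      rw [dsPow_val_sub hm]
      calc (σ ^ i.val)⁻¹ * σ ^ j.val
          = (τ * τ) * (σ ^ i.val)⁻¹ * σ ^ j.val := by rw [hτ, one_mul]
        _ = τ * (τ * (σ ^ i.val)⁻¹) * σ ^ j.val := by group
        _ = τ * (σ ^ i.val * τ) * σ ^ j.val := by rw [hc]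
        _ = τ * σ ^ i.val * (τ * σ ^ j.val) := by group

/-- The isomorphism of a subgroup generated by `σ` of order `m` and an involution `τ` inverting it
(and not a power of it) with the dihedral group. -/
theorem dsIso {σ τ : G} {m : ℕ} [NeZero m] (hm : orderOf σ = m) (hτ : τ * τ = 1)
    (hrel : τ * σ * τ⁻¹ = σ⁻¹) (hτσ : τ ∉ Subgroup.zpowers σ) (S : Subgroup G)
    (hgen : Subgroup.closure ({σ, τ} : Set G) = S) :
    ∃ e : ↥S ≃* DihedralGroup m, (∀ i : ZMod m, Helper55.dRot e i = σ ^ i.val) ∧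
      ∀ i : ZMod m, Helper55.dRef e i = τ * σ ^ i.val := by
  let F : DihedralGroup m →* G := MonoidHom.mk' (dsFun σ τ m) (dsFun_mul hm hτ hrel)
  have hinj : Function.Injective F := by
    rw [injective_iff_map_eq_one]
    intro g hg
    cases g with
    | r i =>
      have h1 : σ ^ i.val = 1 := hg
      have h2 : orderOf σ ∣ i.val := orderOf_dvd_of_pow_eq_one h1
      rw [hm] at h2
      have h3 : i.val = 0 := Nat.eq_zero_of_dvd_of_lt h2 (ZMod.val_lt i)
      rw [(ZMod.val_eq_zero i).mp h3]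
      rfl
    | sr i =>
      exfalso
      have h1 : τ * σ ^ i.val = 1 := hg
      apply hτσ
      have h2 : τ = (σ ^ i.val)⁻¹ := eq_inv_of_mul_eq_one_left h1
      rw [h2]
      exact Subgroup.inv_mem _ (Subgroup.pow_mem _ (Subgroup.mem_zpowers _) _)
  have hrange : F.range = S := by
    rw [← hgen]
    apply le_antisymm
    · rintro _ ⟨g, rfl⟩
      have hσ : σ ∈ Subgroup.closure ({σ, τ} : Set G) := Subgroup.subset_closure (by simp)
      have hτ' : τ ∈ Subgroup.closure ({σ, τ} : Set G) := Subgroup.subset_closure (by simp)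
      cases g with
      | r i => exact Subgroup.pow_mem _ hσ _
      | sr i => exact Subgroup.mul_mem _ hτ' (Subgroup.pow_mem _ hσ _)
    · rw [Subgroup.closure_le]
      rintro z (rfl | hz)
      · refine ⟨DihedralGroup.r 1, ?_⟩
        show z ^ (1 : ZMod m).val = z
        rw [ZMod.val_one_eq_one_mod, ← hm, pow_mod_orderOf, pow_one]
      · have hz' : z = τ := hz
        subst hz'
        refine ⟨DihedralGroup.sr 0, ?_⟩
        show z * σ ^ (0 : ZMod m).val = z
        rw [ZMod.val_zero, pow_zero, mul_one]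
  refine ⟨((MonoidHom.ofInjective hinj).trans (MulEquiv.subgroupCongr hrange)).symm, ?_, ?_⟩
  · intro i; rfl
  · intro i; rfl

end iso

section retract

variable {H : Type*} [Group H] [Finite H]

/-- A group with a normal `2`-complement retracts onto any Sylow `2`-subgroup, with kernel of odd
order. -/
theorem dsRetract (h : Cfsg.HasNormalPComplement 2 H) (S : Sylow 2 H) :
    ∃ f : H →* ↥(S : Subgroup H), (∀ s : ↥(S : Subgroup H), f (s : H) = s) ∧
      Odd (Nat.card f.ker) := by
  have : Fact (Nat.Prime 2) := ⟨Nat.prime_two⟩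
  obtain ⟨N, hN, hc⟩ := Cfsg.Agent.Helper2.exists_normal_complement_of_hasNormalPComplement h S
  have hc' : (S : Subgroup H).IsComplement' N := hc.symm
  let q : H ⧸ N ≃* ↥(S : Subgroup H) := hc'.QuotientMulEquiv
  refine ⟨q.toMonoidHom.comp (QuotientGroup.mk' N), ?_, ?_⟩
  · intro s
    show q (QuotientGroup.mk (s : H)) = s
    have h1 : q.symm s = QuotientGroup.mk (s : H) := rfl
    rw [← h1, MulEquiv.apply_symm_apply]
  · have hker : (q.toMonoidHom.comp (QuotientGroup.mk' N)).ker = N := by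
      ext x
      rw [MonoidHom.mem_ker]
      show q (QuotientGroup.mk x) = 1 ↔ x ∈ N
      rw [MulEquiv.map_eq_one_iff, QuotientGroup.eq_one_iff]
    rw [hker]
    have h2 : Nat.card N = (S : Subgroup H).index := hc.index_eq_card.symm
    rw [h2, ← Nat.not_even_iff_odd, even_iff_two_dvd]
    exact S.not_dvd_index

end retract

section oddker

variable {H K : Type*} [Group H] [Group K]

/-- A homomorphism with kernel of odd order preserves divisibility of element orders by powers
of two. -/
theorem dsPow_dvd_orderOf_iff (f : H →* K) (hf : Odd (Nat.card f.ker)) (g : H) (k : ℕ) :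
    2 ^ k ∣ orderOf (f g) ↔ 2 ^ k ∣ orderOf g := by
  constructor
  · intro h
    exact h.trans (orderOf_map_dvd f g)
  · intro h
    have h1 : g ^ orderOf (f g) ∈ f.ker := by
      rw [MonoidHom.mem_ker, map_pow, pow_orderOf_eq_one]
    have h2 : (g ^ orderOf (f g)) ^ Nat.card f.ker = 1 := by
      have := Subgroup.orderOf_dvd_natCard _ h1
      exact orderOf_dvd_iff_pow_eq_one.mp this
    rw [← pow_mul] at h2
    have h3 : orderOf g ∣ orderOf (f g) * Nat.card f.ker := orderOf_dvd_of_pow_eq_one h2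
    have h4 : Nat.Coprime (2 ^ k) (Nat.card f.ker) :=
      Nat.Coprime.pow_left k (Nat.coprime_two_left.mpr hf)
    exact h4.dvd_of_dvd_mul_right (h.trans h3)

/-- Elements in a kernel of odd order have odd order. -/
theorem dsOdd_of_mem_ker (f : H →* K) (hf : Odd (Nat.card f.ker)) {g : H} (hg : f g = 1) :
    ¬ 2 ∣ orderOf g := by
  intro h
  have h1 : orderOf g ∣ Nat.card f.ker := Subgroup.orderOf_dvd_natCard _ (MonoidHom.mem_ker.mpr hg)
  have h2 : 2 ∣ Nat.card f.ker := h.trans h1
  rw [← even_iff_two_dvd, ← Nat.not_odd_iff_even] at h2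
  exact h2 hf

/-- If the target is a `2`-group, elements of odd order lie in the kernel. -/
theorem dsMem_ker_of_odd [Finite K] (f : H →* K) {n : ℕ} (hK : Nat.card K = 2 ^ n) {g : H}
    (hg : ¬ 2 ∣ orderOf g) : f g = 1 := by
  rw [← orderOf_eq_one_iff]
  have h1 : orderOf (f g) ∣ orderOf g := orderOf_map_dvd f g
  have h2 : orderOf (f g) ∣ 2 ^ n := hK ▸ orderOf_dvd_natCard (f g)
  obtain ⟨j, -, hj⟩ := (Nat.dvd_prime_pow Nat.prime_two).mp h2
  rw [hj] at h1 ⊢
  rcases Nat.eq_zero_or_pos j with rfl | hpos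
  · rfl
  · exact absurd ((dvd_pow_self 2 hpos.ne').trans h1) hg

end oddker

end Cfsg.Agent.Helper21.DihOrd
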