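import Mathlib
import Cfsg.Prelude.Def_Local
import Cfsg.Agent.Helper21.DihOrdA

/-!
# Dihedral Sylow 2-subgroups: the centralizer of the central involution (helper21)

For a finite group `G` with a dihedral Sylow `2`-subgroup `P ≃ D_{2^n}` (`n ≥ 3`) and central
involution `J` of `P`: the centralizer `C(J)` has a normal `2`-complement, which gives a
homomorphism `f : C(J) → D_{2^n}` extending the identification of `P`, with kernel of odd order.
Consequences: control of fusion of rotations, and the structure of the centralizers of rotations.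
-/

set_option autoImplicit false

namespace Cfsg.Agent.Helper21.DihOrd

open DihedralGroup Cfsg.Agent.Helper55

section basics

variable {G : Type*} [Group G] {n : ℕ}

/-- The central involution of the dihedral subgroup. -/
noncomputable def dsJ (n : ℕ) {S : Subgroup G} (e : ↥S ≃* DihedralGroup (2 ^ (n - 1))) : G :=
  dRot e (((2 ^ (n - 2) : ℕ)) : ZMod (2 ^ (n - 1)))

theorem dsHalf_add_self (hn : 2 ≤ n) :
    (((2 ^ (n - 2) : ℕ)) : ZMod (2 ^ (n - 1))) + ((2 ^ (n - 2) : ℕ) : ZMod (2 ^ (n - 1))) = 0 := by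
  rw [← Nat.cast_add, ← two_mul, ← pow_succ']
  have : n - 2 + 1 = n - 1 := by omega
  rw [this, ZMod.natCast_self]

theorem dsHalf_ne_zero (hn : 2 ≤ n) : (((2 ^ (n - 2) : ℕ)) : ZMod (2 ^ (n - 1))) ≠ 0 := by
  intro h
  rw [ZMod.natCast_eq_zero_iff] at h
  have h1 := Nat.le_of_dvd (pow_pos (by norm_num) _) h
  have h2 : 2 ^ (n - 2) < 2 ^ (n - 1) := Nat.pow_lt_pow_right (by norm_num) (by omega)
  omega

variable {S : Subgroup G} (e : ↥S ≃* DihedralGroup (2 ^ (n - 1)))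

theorem dsRot_pow (i : ZMod (2 ^ (n - 1))) (k : ℕ) : dRot e i ^ k = dRot e (k • i) := by
  induction k with
  | zero => rw [pow_zero, zero_smul, dRot_zero]
  | succ k ih => rw [pow_succ, ih, dRot_mul_dRot, succ_nsmul]

theorem dsRot_ne_one {i : ZMod (2 ^ (n - 1))} (hi : i ≠ 0) : dRot e i ≠ 1 := by
  intro h
  rw [← dRot_zero e] at h
  exact hi (dRot_injective e h)

theorem dsJ_mul_self (hn : 2 ≤ n) : dsJ n e * dsJ n e = 1 := by
  unfold dsJ; rw [dRot_mul_dRot, dsHalf_add_self hn, dRot_zero]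

theorem dsJ_ne_one (hn : 2 ≤ n) : dsJ n e ≠ 1 := dsRot_ne_one e (dsHalf_ne_zero hn)

theorem orderOf_dsJ (hn : 2 ≤ n) : orderOf (dsJ n e) = 2 := by
  have : Fact (Nat.Prime 2) := ⟨Nat.prime_two⟩
  exact orderOf_eq_prime (by rw [pow_two]; exact dsJ_mul_self e hn) (dsJ_ne_one e hn)

theorem dsJ_mem : dsJ n e ∈ S := dRot_mem e _

theorem dsRot_eq_J (hn : 2 ≤ n) {i : ZMod (2 ^ (n - 1))} (h : orderOf (dRot e i) = 2) :
    dRot e i = dsJ n e :=
  dRot_unique_of_orderOf e h (orderOf_dsJ e hn)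

theorem dsJ_comm_of_mem (hn : 2 ≤ n) {p : G} (hp : p ∈ S) : dsJ n e * p = p * dsJ n e := by
  rcases mem_cases e hp with ⟨j, rfl⟩ | ⟨i, rfl⟩
  · unfold dsJ; rw [dRot_mul_dRot, dRot_mul_dRot, add_comm]
  · unfold dsJ; rw [dRot_mul_dRef, dRef_mul_dRot]
    congr 1
    have := dsHalf_add_self hn
    rw [sub_eq_iff_eq_add, add_assoc, this, add_zero]

theorem dsP_le_centJ (hn : 2 ≤ n) : S ≤ Subgroup.centralizer ({dsJ n e} : Set G) := by
  intro p hp
  rw [Subgroup.mem_centralizer_iff]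
  intro h hh
  rw [Set.mem_singleton_iff] at hh
  subst hh
  exact dsJ_comm_of_mem e hn hp

/-- Every nontrivial rotation has the central involution as a power. -/
theorem dsJ_eq_pow [Finite G] (hn : 2 ≤ n) (hS : IsPGroup 2 S) {i : ZMod (2 ^ (n - 1))}
    (hi : i ≠ 0) : ∃ k : ℕ, dsJ n e = dRot e i ^ k := by
  have : Fact (Nat.Prime 2) := ⟨Nat.prime_two⟩
  obtain ⟨k, hk⟩ := hS ⟨dRot e i, dRot_mem e i⟩
  have hk' : dRot e i ^ 2 ^ k = 1 := by
    have := congrArg Subtype.val hk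
    simpa using this
  obtain ⟨a, -, ha⟩ := (Nat.dvd_prime_pow Nat.prime_two).mp (orderOf_dvd_of_pow_eq_one hk')
  have ha0 : a ≠ 0 := by
    rintro rfl
    rw [pow_zero, orderOf_eq_one_iff] at ha
    exact dsRot_ne_one e hi ha
  refine ⟨2 ^ (a - 1), ?_⟩
  have h2 : orderOf (dRot e i ^ 2 ^ (a - 1)) = 2 := by
    apply orderOf_eq_prime
    · rw [← pow_mul, ← pow_succ]
      have : a - 1 + 1 = a := by omega
      rw [this, ← ha, pow_orderOf_eq_one]
    · intro h
      have h3 := orderOf_dvd_of_pow_eq_one h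
      rw [ha] at h3
      have h4 := (Nat.pow_dvd_pow_iff_le_right (by norm_num : 1 < 2)).mp h3
      omega
  rw [dsRot_pow] at h2 ⊢
  exact (dsRot_eq_J e hn h2).symm

theorem dsCent_le [Finite G] (hn : 2 ≤ n) (hS : IsPGroup 2 S) {i : ZMod (2 ^ (n - 1))}
    (hi : i ≠ 0) :
    Subgroup.centralizer ({dRot e i} : Set G) ≤ Subgroup.centralizer ({dsJ n e} : Set G) := by
  obtain ⟨k, hk⟩ := dsJ_eq_pow e hn hS hi
  intro y hy
  rw [Subgroup.mem_centralizer_iff] at hy ⊢
  intro h hh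
  rw [Set.mem_singleton_iff] at hh
  subst hh
  have h1 : Commute (dRot e i) y := hy _ rfl
  rw [hk]
  exact (h1.pow_left k).eq

end basics

section ctx

variable {G : Type*} [Group G] [Finite G] {n : ℕ} (hn : 3 ≤ n) (P : Sylow 2 G)
  (e : ↥(P : Subgroup G) ≃* DihedralGroup (2 ^ (n - 1)))

include hn in
/-- The retraction of `C(J)` onto the dihedral group. -/
theorem dsRetJ : ∃ f : ↥(Subgroup.centralizer ({dsJ n e} : Set G)) →* DihedralGroup (2 ^ (n - 1)),
    (∀ (p : G) (hp : p ∈ (P : Subgroup G)) (hc : p ∈ Subgroup.centralizer ({dsJ n e} : Set G)),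
      f ⟨p, hc⟩ = e ⟨p, hp⟩) ∧ Odd (Nat.card f.ker) := by
  have : Fact (Nat.Prime 2) := ⟨Nat.prime_two⟩
  have hle : (P : Subgroup G) ≤ Subgroup.centralizer ({dsJ n e} : Set G) :=
    dsP_le_centJ e (by omega)
  let PC : Sylow 2 ↥(Subgroup.centralizer ({dsJ n e} : Set G)) := P.subtype hle
  let eC : ↥(PC : Subgroup ↥(Subgroup.centralizer ({dsJ n e} : Set G))) ≃*
      DihedralGroup (2 ^ (n - 1)) := (Subgroup.subgroupOfEquivOfLe hle).trans e
  have hrot : ∀ j, ((dRot eC j : ↥(Subgroup.centralizer ({dsJ n e} : Set G))) : G) = dRot e j :=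
    fun j => rfl
  have href : ∀ i, ((dRef eC i : ↥(Subgroup.centralizer ({dsJ n e} : Set G))) : G) = dRef e i :=
    fun i => rfl
  have hno : ∀ (i : ZMod (2 ^ (n - 1))) (c : ↥(Subgroup.centralizer ({dsJ n e} : Set G)))
      (j : ZMod (2 ^ (n - 1))), c * dRef eC i * c⁻¹ ≠ dRot eC j := by
    intro i c j h
    have h1 : (c : G) * dRef e i * (c : G)⁻¹ = dRot e j := by
      have h0 := congrArg Subtype.val h
      rw [hrot] at h0
      rw [← h0, ← href]
      rfl
    have h2 : orderOf (dRot e j) = 2 := by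
      rw [← h1]
      have := (MulAut.conj (c : G)).orderOf_eq (dRef e i)
      rw [MulAut.conj_apply] at this
      rw [this, orderOf_dRef]
    have h3 := dsRot_eq_J e (by omega) h2
    rw [h3] at h1
    have hc' : dsJ n e * (c : G) = (c : G) * dsJ n e :=
      (Subgroup.mem_centralizer_iff.mp c.2) _ rfl
    have h4 : dRef e i = dsJ n e := by
      calc dRef e i = (c : G)⁻¹ * ((c : G) * dRef e i * (c : G)⁻¹) * (c : G) := by group
        _ = (c : G)⁻¹ * dsJ n e * (c : G) := by rw [h1]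
        _ = dsJ n e := by rw [mul_assoc, hc', ← mul_assoc, inv_mul_cancel, one_mul]
    exact dRef_ne_dRot e i _ h4
  have npc := Helper55.npc_of_no_fusion PC eC hno
  obtain ⟨f₀, hf₀, hodd⟩ := dsRetract npc PC
  refine ⟨eC.toMonoidHom.comp f₀, ?_, ?_⟩
  · intro p hp hc
    have h1 : f₀ ⟨p, hc⟩ = (⟨⟨p, hc⟩, hp⟩ : ↥(PC : Subgroup ↥(Subgroup.centralizer
        ({dsJ n e} : Set G)))) := hf₀ ⟨⟨p, hc⟩, hp⟩
    show eC (f₀ ⟨p, hc⟩) = e ⟨p, hp⟩
    rw [h1]
    rfl
  · have : (eC.toMonoidHom.comp f₀).ker = f₀.ker := by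
      ext x
      simp [MonoidHom.mem_ker]
    rw [this]
    exact hodd

variable (f : ↥(Subgroup.centralizer ({dsJ n e} : Set G)) →* DihedralGroup (2 ^ (n - 1)))
  (hf : ∀ (p : G) (hp : p ∈ (P : Subgroup G))
    (hc : p ∈ Subgroup.centralizer ({dsJ n e} : Set G)), f ⟨p, hc⟩ = e ⟨p, hp⟩)
  (hodd : Odd (Nat.card f.ker))

omit [Finite G] in
include hf in
theorem dsF_rot (i : ZMod (2 ^ (n - 1)))
    (hc : dRot e i ∈ Subgroup.centralizer ({dsJ n e} : Set G)) : f ⟨dRot e i, hc⟩ = r i := by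
  rw [hf _ (dRot_mem e i), e_dRot]

omit [Finite G] in
include hf in
theorem dsF_ref (i : ZMod (2 ^ (n - 1)))
    (hc : dRef e i ∈ Subgroup.centralizer ({dsJ n e} : Set G)) : f ⟨dRef e i, hc⟩ = sr i := by
  rw [hf _ (dRef_mem e i), e_dRef]

include hn hf in
/-- Fusion of rotations is controlled by the Sylow subgroup. -/
theorem dsFusion {i : ZMod (2 ^ (n - 1))} (hi : i ≠ 0) (c : G) (j : ZMod (2 ^ (n - 1)))
    (h : c * dRot e i * c⁻¹ = dRot e j) : j = i ∨ j = -i := by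
  have hn2 : 2 ≤ n := by omega
  obtain ⟨k, hk⟩ := dsJ_eq_pow e hn2 P.isPGroup' hi
  have hconj : c * dsJ n e * c⁻¹ = dsJ n e := by
    have h1 : c * dsJ n e * c⁻¹ = dRot e j ^ k := by
      rw [hk, ← h, conj_pow]
    rw [h1]
    rw [dsRot_pow]
    apply dsRot_eq_J e hn2
    rw [← dsRot_pow, ← h1]
    have := (MulAut.conj c).orderOf_eq (dsJ n e)
    rw [MulAut.conj_apply] at this
    rw [this, orderOf_dsJ e hn2]
  have hcC : c ∈ Subgroup.centralizer ({dsJ n e} : Set G) := by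
    rw [Subgroup.mem_centralizer_iff]
    intro y hy
    rw [Set.mem_singleton_iff] at hy
    subst hy
    calc dsJ n e * c = (c * dsJ n e * c⁻¹) * c := by rw [hconj]
      _ = c * dsJ n e := by group
  have hle := dsP_le_centJ e hn2
  have hi' := hle (dRot_mem e i)
  have hj' := hle (dRot_mem e j)
  have h2 : (⟨c, hcC⟩ : ↥(Subgroup.centralizer ({dsJ n e} : Set G))) * ⟨dRot e i, hi'⟩ *
      (⟨c, hcC⟩)⁻¹ = ⟨dRot e j, hj'⟩ := Subtype.ext h
  have h3 := congrArg f h2
  rw [map_mul, map_mul, map_inv, dsF_rot P e f hf, dsF_rot P e f hf] at h3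
  rcases hfc : f ⟨c, hcC⟩ with l | l
  · rw [hfc] at h3
    left
    simp at h3
    exact h3.symm
  · rw [hfc] at h3
    right
    simp at h3
    rw [← h3]

end ctx

end Cfsg.Agent.Helper21.DihOrd
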