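import Mathlib
import Cfsg.Agent.Helper21.DihOrdB

/-!
# Groups with an involution whose centralizer is dihedral of order 8 (helper21)

Part B: group-theoretic facts when the centralizer of the central involution of a dihedral Sylow
`2`-subgroup of order eight is that Sylow subgroup.
-/

set_option autoImplicit false

namespace Cfsg.Agent.Helper21.DEight

open DihedralGroup Cfsg.Agent.Helper55 Cfsg.Agent.Helper21.DihOrd

theorem deD4_center : ∀ x : DihedralGroup 4, (∀ y : DihedralGroup 4, x * y = y * x) →
    x = 1 ∨ x = r 2 := by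
  decide

theorem deD4_cases : ∀ i : ZMod 4, i = 0 ∨ i = 1 ∨ i = 2 ∨ i = 3 := by
  decide

theorem deD4_card_r : Fintype.card {x : DihedralGroup 4 // x * r 1 = r 1 * x} = 4 := by
  decide

theorem deD4_card_sr : ∀ i : ZMod 4,
    Fintype.card {x : DihedralGroup 4 // x * sr i = sr i * x} = 4 := by
  decide

section gen

variable {G : Type*} [Group G]

/-- The centralizer of a set, when contained in a subgroup `H` identified with a group `D`, is in
bijection with a centralizer in `D`. -/
theorem deCardCentGen {D : Type*} [Group D] (H : Subgroup G) (e : ↥H ≃* D) (T : Set G)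
    (hT : Subgroup.centralizer T ≤ H) (y : D)
    (hy : ∀ p : ↥H, (p : G) ∈ Subgroup.centralizer T ↔ e p * y = y * e p) :
    Nat.card ↥(Subgroup.centralizer T) = Nat.card {x : D // x * y = y * x} := by
  apply Nat.card_congr
  refine ⟨fun c => ⟨e ⟨c.1, hT c.2⟩, (hy ⟨c.1, hT c.2⟩).mp c.2⟩,
    fun x => ⟨(e.symm x.1 : G), (hy (e.symm x.1)).mpr (by
      rw [MulEquiv.apply_symm_apply]; exact x.2)⟩, ?_, ?_⟩
  · intro c
    apply Subtype.ext
    show ((e.symm (e ⟨c.1, hT c.2⟩) : ↥H) : G) = c.1
    rw [MulEquiv.symm_apply_apply]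
  · intro x
    apply Subtype.ext
    show e ⟨(e.symm x.1 : G), _⟩ = x.1
    have : (⟨(e.symm x.1 : G), (e.symm x.1).2⟩ : ↥H) = e.symm x.1 := rfl
    rw [this, MulEquiv.apply_symm_apply]

end gen

section ctx

variable {G : Type*} [Group G] [Finite G] (P : Sylow 2 G)
  (e : ↥(P : Subgroup G) ≃* DihedralGroup (2 ^ (3 - 1)))
  (hC : Subgroup.centralizer ({dsJ 3 e} : Set G) ≤ (P : Subgroup G))

omit [Finite G] in
theorem deJ_eq : dsJ 3 e = dRot e 2 := rfl

include hC in
omit [Finite G] in
theorem deCentJ_eq : Subgroup.centralizer ({dsJ 3 e} : Set G) = (P : Subgroup G) :=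
  le_antisymm hC (dsP_le_centJ e (by norm_num))

include hC in
omit [Finite G] in
theorem deCardCentJ : Nat.card ↥(Subgroup.centralizer ({dsJ 3 e} : Set G)) = 8 := by
  rw [deCentJ_eq P e hC, Nat.card_congr e.toEquiv, DihedralGroup.nat_card]
  norm_num

include hC in
theorem deCardCentRot : Nat.card ↥(Subgroup.centralizer ({dRot e 1} : Set G)) = 4 := by
  have hle : Subgroup.centralizer ({dRot e 1} : Set G) ≤ (P : Subgroup G) :=
    (dsCent_le e (by norm_num) P.isPGroup' (i := 1) (by decide)).trans hC
  rw [deCardCentGen (P : Subgroup G) e _ hle (r 1) ?_, Nat.card_eq_fintype_card]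
  · exact deD4_card_r
  · intro p
    rw [Subgroup.mem_centralizer_iff]
    constructor
    · intro h
      have h1 := h (dRot e 1) rfl
      have h2 : (⟨dRot e 1, dRot_mem e 1⟩ : ↥(P : Subgroup G)) * p =
          p * ⟨dRot e 1, dRot_mem e 1⟩ := Subtype.ext h1
      have h3 := congrArg e h2
      rw [map_mul, map_mul, e_dRot] at h3
      exact h3.symm
    · intro h y hy
      rw [Set.mem_singleton_iff] at hy
      subst hy
      have h2 : e (⟨dRot e 1, dRot_mem e 1⟩ * p) = e (p * ⟨dRot e 1, dRot_mem e 1⟩) := by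
        rw [map_mul, map_mul, e_dRot]
        exact h.symm
      exact congrArg Subtype.val (e.injective h2)

include hC in
omit [Finite G] in
theorem deCardCentRef (i : ZMod (2 ^ (3 - 1))) :
    Nat.card ↥(Subgroup.centralizer ({dsJ 3 e, dRef e i} : Set G)) = 4 := by
  have hle : Subgroup.centralizer ({dsJ 3 e, dRef e i} : Set G) ≤ (P : Subgroup G) :=
    (Subgroup.centralizer_le (by
      intro x hx
      rw [Set.mem_singleton_iff] at hx
      rw [hx]
      exact Set.mem_insert _ _)).trans hC
  rw [deCardCentGen (P : Subgroup G) e _ hle (sr i) ?_, Nat.card_eq_fintype_card]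
  · exact deD4_card_sr i
  · intro p
    rw [Subgroup.mem_centralizer_iff]
    constructor
    · intro h
      have h1 := h (dRef e i) (Set.mem_insert_of_mem _ rfl)
      have h2 : (⟨dRef e i, dRef_mem e i⟩ : ↥(P : Subgroup G)) * p =
          p * ⟨dRef e i, dRef_mem e i⟩ := Subtype.ext h1
      have h3 := congrArg e h2
      rw [map_mul, map_mul, e_dRef] at h3
      exact h3.symm
    · intro h y hy
      rcases hy with hy | hy
      · rw [hy]
        exact dsJ_comm_of_mem e (by norm_num) p.2
      · rw [Set.mem_singleton_iff] at hy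
        subst hy
        have h2 : e (⟨dRef e i, dRef_mem e i⟩ * p) = e (p * ⟨dRef e i, dRef_mem e i⟩) := by
          rw [map_mul, map_mul, e_dRef]
          exact h.symm
        exact congrArg Subtype.val (e.injective h2)

include hC in
omit [Finite G] in
/-- An element whose class has odd size is trivial or conjugate to the central involution. -/
theorem deOddIndex (g : G) (h : ¬ 2 ∣ (Subgroup.centralizer ({g} : Set G)).index) :
    g = 1 ∨ IsConj (dsJ 3 e) g := by
  have : Fact (Nat.Prime 2) := ⟨Nat.prime_two⟩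
  have hfix := P.isPGroup'.nonempty_fixed_point_of_prime_not_dvd_card
    (G ⧸ Subgroup.centralizer ({g} : Set G)) (by rwa [Subgroup.index] at h)
  obtain ⟨q, hq⟩ := hfix
  induction q using QuotientGroup.induction_on with
  | H c =>
    rw [MulAction.mem_fixedPoints] at hq
    have hcomm : ∀ p ∈ (P : Subgroup G), p * (c * g * c⁻¹) = (c * g * c⁻¹) * p := by
      intro p hp
      have h1 := hq ⟨p, hp⟩
      have h2 : ((p * c : G) : G ⧸ Subgroup.centralizer ({g} : Set G)) = (c : G ⧸ _) := h1
      rw [QuotientGroup.eq] at h2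
      rw [Subgroup.mem_centralizer_iff] at h2
      have h3 := h2 g rfl
      have h4 : c * g * c⁻¹ * p⁻¹ = p⁻¹ * (c * g * c⁻¹) := by
        calc c * g * c⁻¹ * p⁻¹ = c * (g * ((p * c)⁻¹ * c)) * c⁻¹ := by group
          _ = c * ((p * c)⁻¹ * c * g) * c⁻¹ := by rw [h3]
          _ = p⁻¹ * (c * g * c⁻¹) := by group
      calc p * (c * g * c⁻¹) = p * (c * g * c⁻¹ * p⁻¹) * p := by group
        _ = p * (p⁻¹ * (c * g * c⁻¹)) * p := by rw [h4]
        _ = c * g * c⁻¹ * p := by group
    have hmem : c * g * c⁻¹ ∈ (P : Subgroup G) := by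
      apply hC
      rw [Subgroup.mem_centralizer_iff]
      intro y hy
      rw [Set.mem_singleton_iff] at hy
      subst hy
      exact hcomm _ (dsJ_mem e)
    have hcen : ∀ y : DihedralGroup 4, e ⟨c * g * c⁻¹, hmem⟩ * y = y * e ⟨c * g * c⁻¹, hmem⟩ := by
      intro y
      have h1 := hcomm (e.symm y : G) (e.symm y).2
      have h2 : (e.symm y : ↥(P : Subgroup G)) * ⟨c * g * c⁻¹, hmem⟩ =
          ⟨c * g * c⁻¹, hmem⟩ * e.symm y := Subtype.ext h1
      have h3 := congrArg e h2
      rw [map_mul, map_mul, MulEquiv.apply_symm_apply] at h3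
      exact h3.symm
    rcases deD4_center _ hcen with h1 | h1
    · left
      have h2 : (⟨c * g * c⁻¹, hmem⟩ : ↥(P : Subgroup G)) = 1 := by
        apply e.injective
        rw [h1, map_one]
      have h3 : c * g * c⁻¹ = 1 := congrArg Subtype.val h2
      calc g = c⁻¹ * (c * g * c⁻¹) * c := by group
        _ = 1 := by rw [h3]; group
    · right
      have h2 : (⟨c * g * c⁻¹, hmem⟩ : ↥(P : Subgroup G)) = e.symm (r 2) := by
        apply e.injective
        rw [h1, MulEquiv.apply_symm_apply]
      have h3 : c * g * c⁻¹ = dsJ 3 e := congrArg Subtype.val h2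
      rw [isConj_iff]
      refine ⟨c⁻¹, ?_⟩
      rw [← h3]
      group

include e in
/-- The order of the group is eight times an odd number. -/
theorem deCardG : ∃ m : ℕ, Odd m ∧ Nat.card G = 8 * m := by
  have : Fact (Nat.Prime 2) := ⟨Nat.prime_two⟩
  refine ⟨(P : Subgroup G).index, ?_, ?_⟩
  · rw [← Nat.not_even_iff_odd, even_iff_two_dvd]
    exact P.not_dvd_index
  · rw [← Subgroup.index_mul_card (P : Subgroup G), Nat.card_congr e.toEquiv,
      DihedralGroup.nat_card]
    norm_num
    ring

end ctx

end Cfsg.Agent.Helper21.DEight
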