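import Mathlib
import Cfsg.Agent.Helper21.DihOrdB

/-!
# Dihedral Sylow 2-subgroups: centralizers of rotations (helper21)
-/

set_option autoImplicit false

namespace Cfsg.Agent.Helper21.DihOrd

open DihedralGroup Cfsg.Agent.Helper55

theorem dsCard_dihedral {n : ℕ} (hn : 1 ≤ n) : Nat.card (DihedralGroup (2 ^ (n - 1))) = 2 ^ n := by
  rw [DihedralGroup.nat_card, ← pow_succ']
  congr 1
  omega

section ctx

variable {G : Type*} [Group G] [Finite G] {n : ℕ} (hn : 3 ≤ n) (P : Sylow 2 G)
  (e : ↥(P : Subgroup G) ≃* DihedralGroup (2 ^ (n - 1)))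
  (f : ↥(Subgroup.centralizer ({dsJ n e} : Set G)) →* DihedralGroup (2 ^ (n - 1)))
  (hf : ∀ (p : G) (hp : p ∈ (P : Subgroup G))
    (hc : p ∈ Subgroup.centralizer ({dsJ n e} : Set G)), f ⟨p, hc⟩ = e ⟨p, hp⟩)
  (hodd : Odd (Nat.card f.ker))

include hn hf hodd in
/-- The centralizer of a nontrivial rotation has a normal `2`-complement consisting of its
elements of odd order, of index `2^n` (central involution) or `2^(n-1)` (otherwise). -/
theorem dsCentStruct {i : ZMod (2 ^ (n - 1))} (hi : i ≠ 0) :
    ∃ K : Subgroup ↥(Subgroup.centralizer ({dRot e i} : Set G)), K.Normal ∧ Odd (Nat.card K) ∧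
      (∀ y, y ∈ K ↔ ¬ 2 ∣ orderOf y) ∧
      Nat.card K * (if i + i = 0 then 2 ^ n else 2 ^ (n - 1)) =
        Nat.card ↥(Subgroup.centralizer ({dRot e i} : Set G)) := by
  have hn2 : 2 ≤ n := by omega
  have hle := dsCent_le e hn2 P.isPGroup' hi
  set g := f.comp (Subgroup.inclusion hle) with hg
  have hgker : g.ker = f.ker.comap (Subgroup.inclusion hle) := (MonoidHom.comap_ker f _).symm
  have hKodd : Odd (Nat.card g.ker) := by
    have h1 : Nat.card g.ker ∣ Nat.card f.ker := by
      rw [hgker]
      exact Subgroup.card_comap_dvd_of_injective _ _ (Subgroup.inclusion_injective hle)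
    exact Odd.of_dvd_nat hodd h1
  have hcardD := dsCard_dihedral (n := n) (by omega)
  refine ⟨g.ker, MonoidHom.normal_ker g, hKodd, ?_, ?_⟩
  · intro y
    rw [MonoidHom.mem_ker]
    constructor
    · intro h
      exact dsOdd_of_mem_ker g hKodd h
    · intro h
      exact dsMem_ker_of_odd g hcardD h
  · rw [← Subgroup.card_mul_index g.ker, Subgroup.index_ker]
    congr 1
    have hx : dRot e i ∈ Subgroup.centralizer ({dRot e i} : Set G) := by
      rw [Subgroup.mem_centralizer_iff]
      intro h hh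
      rw [Set.mem_singleton_iff] at hh
      rw [hh]
    have hgP : ∀ (p : G) (hp : p ∈ (P : Subgroup G))
        (hc : p ∈ Subgroup.centralizer ({dRot e i} : Set G)), g ⟨p, hc⟩ = e ⟨p, hp⟩ :=
      fun p hp hc => hf p hp (hle hc)
    split_ifs with h2
    · have hr : g.range = ⊤ := by
        rw [eq_top_iff]
        intro d _
        have hmem : ((e.symm d : ↥(P : Subgroup G)) : G) ∈
            Subgroup.centralizer ({dRot e i} : Set G) := by
          rw [Subgroup.mem_centralizer_iff]
          intro h hh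
          rw [Set.mem_singleton_iff] at hh
          subst hh
          rcases mem_cases e (e.symm d).2 with ⟨j, hj⟩ | ⟨j, hj⟩
          · rw [hj, dRot_mul_dRot, dRot_mul_dRot, add_comm]
          · rw [hj, dRot_mul_dRef, dRef_mul_dRot]
            congr 1
            rw [sub_eq_iff_eq_add, add_assoc, h2, add_zero]
        refine ⟨⟨_, hmem⟩, ?_⟩
        rw [hgP _ (e.symm d).2]
        simp
      rw [hr, Subgroup.card_top, hcardD]
    · have hr : g.range = Subgroup.zpowers (r 1) := by
        ext d
        constructor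
        · rintro ⟨y, rfl⟩
          have hcomm : g y * g ⟨dRot e i, hx⟩ = g ⟨dRot e i, hx⟩ * g y := by
            rw [← map_mul, ← map_mul]
            congr 1
            apply Subtype.ext
            exact ((Subgroup.mem_centralizer_iff.mp y.2) _ rfl).symm
          rw [hgP _ (dRot_mem e i), e_dRot] at hcomm
          rcases hy : g y with l | l
          · exact Cfsg.Agent.S0107.r_mem_zpowers _ l
          · rw [hy] at hcomm
            exfalso
            simp at hcomm
            apply h2
            have h3 : l + i + i = l := by rw [hcomm]; ring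
            have h4 : i + i = (l + i + i) - l := by ring
            rw [h4, h3, sub_self]
        · intro hd
          obtain ⟨k, rfl⟩ := Subgroup.mem_zpowers_iff.mp hd
          rw [r_zpow]
          have hmem : dRot e ((1 : ZMod (2 ^ (n - 1))) * k) ∈
              Subgroup.centralizer ({dRot e i} : Set G) := by
            rw [Subgroup.mem_centralizer_iff]
            intro h hh
            rw [Set.mem_singleton_iff] at hh
            subst hh
            rw [dRot_mul_dRot, dRot_mul_dRot, add_comm]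
          exact ⟨⟨_, hmem⟩, by rw [hgP _ (dRot_mem e _), e_dRot]⟩
      rw [hr, Nat.card_zpowers, orderOf_r_one]

include hn hf hodd in
/-- The number of elements of odd order in the centralizer of a nontrivial rotation. -/
theorem dsOddCount {i : ZMod (2 ^ (n - 1))} (hi : i ≠ 0) :
    Nat.card {y : ↥(Subgroup.centralizer ({dRot e i} : Set G)) // ¬ 2 ∣ orderOf y} *
      (if i + i = 0 then 2 ^ n else 2 ^ (n - 1)) =
        Nat.card ↥(Subgroup.centralizer ({dRot e i} : Set G)) := by
  obtain ⟨K, -, -, hK, hcard⟩ := dsCentStruct hn P e f hf hodd hi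
  rw [← hcard]
  congr 1
  exact Nat.card_congr (Equiv.subtypeEquivRight fun y => (hK y).symm)

include hn hf hodd in
/-- Elements of odd order centralizing a nontrivial rotation lie in the `2'`-core of its
centralizer. -/
theorem dsOddCore {i : ZMod (2 ^ (n - 1))} (hi : i ≠ 0) {y : G}
    (hy : y ∈ Subgroup.centralizer ({dRot e i} : Set G)) (hyo : ¬ 2 ∣ orderOf y) :
    y ∈ Cfsg.centralizerPPrimeCore 2 (dRot e i) := by
  obtain ⟨K, hKn, hKodd, hK, -⟩ := dsCentStruct hn P e f hf hodd hi
  unfold Cfsg.centralizerPPrimeCore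
  rw [Subgroup.mem_map]
  refine ⟨⟨y, hy⟩, ?_, rfl⟩
  unfold Cfsg.pPrimeCore
  refine Subgroup.mem_sSup_of_mem (s := K)
    (show K ∈ {N : Subgroup ↥(Subgroup.centralizer ({dRot e i} : Set G)) |
      N.Normal ∧ (Nat.card N).Coprime 2} from ⟨hKn, Nat.coprime_two_right.mpr hKodd⟩) ?_
  rw [hK, Subgroup.orderOf_mk]
  exact hyo

include hn hf hodd in
/-- Involutions of `C(J)` other than `J` map to reflections. -/
theorem dsF_invol (s : ↥(Subgroup.centralizer ({dsJ n e} : Set G))) (hs : orderOf s = 2)
    (hsJ : (s : G) ≠ dsJ n e) : ∃ l, f s = sr l := by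
  have hn2 : 2 ≤ n := by omega
  have hs2 : s * s = 1 := by
    have := pow_orderOf_eq_one s
    rwa [hs, pow_two] at this
  rcases hfs : f s with l | l
  · exfalso
    have h1 : f s * f s = 1 := by rw [← map_mul, hs2, map_one]
    rw [hfs, r_mul_r] at h1
    have h2 : l + l = 0 := by
      have : (r (l + l) : DihedralGroup (2 ^ (n - 1))) = r 0 := h1
      exact DihedralGroup.r.inj this
    have hl0 : l ≠ 0 := by
      rintro rfl
      have h3 : f s = 1 := hfs
      have := dsOdd_of_mem_ker f hodd h3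
      rw [hs] at this
      exact this dvd_rfl
    -- `dRot e l` is an involution, hence equals `J`
    have h4 : orderOf (dRot e l) = 2 := by
      have : Fact (Nat.Prime 2) := ⟨Nat.prime_two⟩
      apply orderOf_eq_prime
      · rw [pow_two, dRot_mul_dRot, h2, dRot_zero]
      · exact dsRot_ne_one e hl0
    have h5 := dsRot_eq_J e hn2 h4
    have hJc : dsJ n e ∈ Subgroup.centralizer ({dsJ n e} : Set G) :=
      dsP_le_centJ e hn2 (dsJ_mem e)
    have h6 : f ⟨dsJ n e, hJc⟩ = r l := by
      have := dsF_rot P e f hf l (h5 ▸ hJc)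
      rw [← this]
      congr 1
      exact Subtype.ext h5.symm
    have h7 : f (s * ⟨dsJ n e, hJc⟩) = 1 := by
      rw [map_mul, hfs, h6, r_mul_r, h2]
      rfl
    have h8 := dsOdd_of_mem_ker f hodd h7
    have hcomm : (⟨dsJ n e, hJc⟩ : ↥(Subgroup.centralizer ({dsJ n e} : Set G))) * s =
        s * ⟨dsJ n e, hJc⟩ := by
      apply Subtype.ext
      exact (Subgroup.mem_centralizer_iff.mp s.2) _ rfl
    have hJ2 : (⟨dsJ n e, hJc⟩ : ↥(Subgroup.centralizer ({dsJ n e} : Set G))) * ⟨dsJ n e, hJc⟩
        = 1 := Subtype.ext (dsJ_mul_self e hn2)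
    have h9 : (s * ⟨dsJ n e, hJc⟩) ^ 2 = 1 := by
      rw [pow_two]
      calc s * ⟨dsJ n e, hJc⟩ * (s * ⟨dsJ n e, hJc⟩)
          = s * (⟨dsJ n e, hJc⟩ * s) * ⟨dsJ n e, hJc⟩ := by group
        _ = s * (s * ⟨dsJ n e, hJc⟩) * ⟨dsJ n e, hJc⟩ := by rw [hcomm]
        _ = (s * s) * (⟨dsJ n e, hJc⟩ * ⟨dsJ n e, hJc⟩) := by group
        _ = 1 := by rw [hs2, hJ2, one_mul]
    have h10 : orderOf (s * ⟨dsJ n e, hJc⟩) ∣ 2 := orderOf_dvd_of_pow_eq_one h9
    rcases (Nat.dvd_prime Nat.prime_two).mp h10 with h11 | h11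
    · rw [orderOf_eq_one_iff] at h11
      apply hsJ
      have h12 : s = (⟨dsJ n e, hJc⟩ : ↥(Subgroup.centralizer ({dsJ n e} : Set G)))⁻¹ :=
        eq_inv_of_mul_eq_one_left h11
      have h13 : (⟨dsJ n e, hJc⟩ : ↥(Subgroup.centralizer ({dsJ n e} : Set G)))⁻¹ =
          ⟨dsJ n e, hJc⟩ := inv_eq_of_mul_eq_one_left hJ2
      rw [h12, h13]
    · rw [h11] at h8
      exact h8 dvd_rfl
  · exact ⟨l, rfl⟩

include hn in
/-- One class of involutions. -/
theorem dsOneClass (h0 : IsConj (dsJ n e) (dRef e 0)) (h1 : IsConj (dsJ n e) (dRef e (-1)))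
    (y : G) : orderOf y = 2 ↔ IsConj (dsJ n e) y := by
  have hn2 : 2 ≤ n := by omega
  constructor
  · intro hy
    have h2m : 2 ∣ 2 ^ (n - 1) := dvd_pow_self 2 (by omega)
    obtain ⟨g, ⟨j, hj⟩ | ⟨i, hi⟩⟩ := exists_conj_dRot_or_dRef P e y hy
    · have h2 : orderOf (dRot e j) = 2 := by
        rw [← hj]
        have := (MulAut.conj g).orderOf_eq y
        rw [MulAut.conj_apply] at this
        rw [this, hy]
      have h3 := dsRot_eq_J e hn2 h2
      rw [h3] at hj
      exact (isConj_iff.mpr ⟨g, hj⟩).symm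
    · have hyi : IsConj y (dRef e i) := isConj_iff.mpr ⟨g, hi⟩
      rcases exists_two_mul_or h2m i with ⟨k, rfl⟩ | ⟨k, rfl⟩
      · have h4 : IsConj (dRef e 0) (dRef e (2 * k)) := by
          rw [isConj_iff]
          refine ⟨dRot e (-k), ?_⟩
          rw [dRot_conj_dRef]
          congr 1
          ring
        exact (h0.trans h4).trans hyi.symm
      · have h4 : IsConj (dRef e (-1)) (dRef e (2 * k + 1)) := by
          rw [isConj_iff]
          refine ⟨dRot e (-k - 1), ?_⟩
          rw [dRot_conj_dRef]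
          congr 1
          ring
        exact (h1.trans h4).trans hyi.symm
  · intro h
    obtain ⟨c, hc⟩ := isConj_iff.mp h
    rw [← hc]
    have := (MulAut.conj c).orderOf_eq (dsJ n e)
    rw [MulAut.conj_apply] at this
    rw [this, orderOf_dsJ e hn2]

end ctx

end Cfsg.Agent.Helper21.DihOrd
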