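import Mathlib
import Cfsg.Agent.Helper21.DihOrdC
import Cfsg.Agent.Helper82.SectionDecomp

/-!
# Dihedral Sylow 2-subgroups: counting elements by the 2-part of their order (helper21)
-/

set_option autoImplicit false

namespace Cfsg.Agent.Helper21.DihOrd

open DihedralGroup Cfsg.Agent.Helper55

section lvl

variable {G : Type*} [Group G]

/-- The `2`-part of the order of `g` is exactly `2^k`. -/
def dsLvl (k : ℕ) (g : G) : Prop := 2 ^ k ∣ orderOf g ∧ ¬ 2 ^ (k + 1) ∣ orderOf g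

theorem dsOrderOf_conj (g c : G) : orderOf (c * g * c⁻¹) = orderOf g := by
  have := (MulAut.conj c).orderOf_eq g
  rwa [MulAut.conj_apply] at this

theorem dsLvl_conj (k : ℕ) (g c : G) : dsLvl k (c * g * c⁻¹) ↔ dsLvl k g := by
  unfold dsLvl
  rw [dsOrderOf_conj]

theorem dsLvl_pow_two {x : G} {a : ℕ} (hx : orderOf x = 2 ^ a) (k : ℕ) : dsLvl k x ↔ a = k := by
  unfold dsLvl
  rw [hx, Nat.pow_dvd_pow_iff_le_right (by norm_num), Nat.pow_dvd_pow_iff_le_right (by norm_num)]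
  omega

theorem dsLvl_mul {x y : G} (hc : Commute x y) {a : ℕ} (hx : orderOf x = 2 ^ a)
    (hy : ¬ 2 ∣ orderOf y) (k : ℕ) : dsLvl k (x * y) ↔ a = k := by
  have hco : (orderOf x).Coprime (orderOf y) := by
    rw [hx]
    exact Nat.Coprime.pow_left a ((Nat.Prime.coprime_iff_not_dvd Nat.prime_two).mpr hy)
  have h1 := hc.orderOf_mul_eq_mul_orderOf_of_coprime hco
  have h2 : ∀ j, 2 ^ j ∣ orderOf (x * y) ↔ j ≤ a := by
    intro j
    rw [h1, hx]
    constructor
    · intro h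
      have h3 : (2 ^ j).Coprime (orderOf y) :=
        Nat.Coprime.pow_left j ((Nat.Prime.coprime_iff_not_dvd Nat.prime_two).mpr hy)
      exact (Nat.pow_dvd_pow_iff_le_right (by norm_num)).mp (h3.dvd_of_dvd_mul_right h)
    · intro h
      exact (pow_dvd_pow 2 h).trans (dvd_mul_right _ _)
  unfold dsLvl
  rw [h2, h2]
  omega

/-- A `2`-element is conjugate into any Sylow `2`-subgroup. -/
theorem dsConjP [Finite G] (P : Sylow 2 G) (g : G) (hg : ∃ k : ℕ, orderOf g = 2 ^ k) :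
    ∃ c : G, c * g * c⁻¹ ∈ (P : Subgroup G) := by
  have : Fact (Nat.Prime 2) := ⟨Nat.prime_two⟩
  obtain ⟨k, hk⟩ := hg
  have hpg : IsPGroup 2 (Subgroup.zpowers g) :=
    IsPGroup.of_card (n := k) (by rw [Nat.card_zpowers, hk])
  obtain ⟨Q, hQ⟩ := hpg.exists_le_sylow
  obtain ⟨c, hc⟩ := MulAction.exists_smul_eq G Q P
  refine ⟨c, ?_⟩
  rw [← hc, Sylow.coe_subgroup_smul]
  have := Subgroup.smul_mem_pointwise_smul _ (MulAut.conj c) _ (hQ (Subgroup.mem_zpowers g))
  simpa [MulAut.smul_def] using this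

/-- Representatives of the classes of `2`-elements, inside a Sylow `2`-subgroup and containing a
given element. -/
theorem dsReps [Finite G] (P : Sylow 2 G) (J : G) (hJP : J ∈ (P : Subgroup G)) :
    ∃ X : Finset G, J ∈ X ∧ (∀ u ∈ X, u ∈ (P : Subgroup G)) ∧
      (∀ u ∈ X, ∃ k : ℕ, orderOf u = 2 ^ k) ∧
      ∀ g : G, (∃ k : ℕ, orderOf g = 2 ^ k) → ∃! u, u ∈ X ∧ IsConj g u := by
  classical
  have := Fintype.ofFinite G
  have : Fact (Nat.Prime 2) := ⟨Nat.prime_two⟩
  have hJ2 : ∃ k : ℕ, orderOf J = 2 ^ k := by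
    obtain ⟨k, hk⟩ := P.isPGroup' ⟨J, hJP⟩
    have hk' : J ^ 2 ^ k = 1 := by
      have := congrArg Subtype.val hk
      simpa using this
    obtain ⟨a, -, ha⟩ := (Nat.dvd_prime_pow Nat.prime_two).mp (orderOf_dvd_of_pow_eq_one hk')
    exact ⟨a, ha⟩
  have hφ : ∀ u : G, ∃ v : G, IsConj u v ∧
      ((∃ k : ℕ, orderOf u = 2 ^ k) → v ∈ (P : Subgroup G)) := by
    intro u
    by_cases h : ∃ k : ℕ, orderOf u = 2 ^ k
    · obtain ⟨c, hc⟩ := dsConjP P u h
      exact ⟨c * u * c⁻¹, isConj_iff.mpr ⟨c, rfl⟩, fun _ => hc⟩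
    · exact ⟨u, IsConj.refl u, fun h' => absurd h' h⟩
  choose φ hφ using hφ
  obtain ⟨r, hr⟩ : ∃ r : G → G, ∀ g, r g = if IsConj g J then J
      else φ (Quotient.out (ConjClasses.mk g)) := ⟨_, fun _ => rfl⟩
  have hout : ∀ g : G, IsConj g (Quotient.out (ConjClasses.mk g)) := by
    intro g
    have h1 : ConjClasses.mk (Quotient.out (ConjClasses.mk g)) = ConjClasses.mk g :=
      Quotient.out_eq _
    exact (ConjClasses.mk_eq_mk_iff_isConj.mp h1).symm
  have hrconj : ∀ g, IsConj g (r g) := by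
    intro g
    rw [hr]
    by_cases h : IsConj g J
    · rw [if_pos h]; exact h
    · rw [if_neg h]; exact (hout g).trans (hφ _).1
  have hrclass : ∀ g g', IsConj g g' → r g = r g' := by
    intro g g' h
    rw [hr, hr]
    by_cases h1 : IsConj g J
    · rw [if_pos h1, if_pos (h.symm.trans h1)]
    · rw [if_neg h1, if_neg (fun h2 => h1 (h.trans h2)),
        ConjClasses.mk_eq_mk_iff_isConj.mpr h]
  have hord : ∀ g g' : G, IsConj g g' → orderOf g' = orderOf g := by
    intro g g' h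
    obtain ⟨c, hc⟩ := isConj_iff.mp h
    rw [← hc]
    exact dsOrderOf_conj g c
  have hrP : ∀ g, (∃ k : ℕ, orderOf g = 2 ^ k) → r g ∈ (P : Subgroup G) := by
    intro g hg
    rw [hr]
    by_cases h : IsConj g J
    · rw [if_pos h]; exact hJP
    · rw [if_neg h]
      apply (hφ _).2
      obtain ⟨k, hk⟩ := hg
      exact ⟨k, by rw [hord g _ (hout g), hk]⟩
  refine ⟨(Finset.univ.filter (fun g : G => ∃ k : ℕ, orderOf g = 2 ^ k)).image r, ?_, ?_, ?_, ?_⟩
  · rw [Finset.mem_image]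
    refine ⟨J, ?_, ?_⟩
    · rw [Finset.mem_filter]; exact ⟨Finset.mem_univ _, hJ2⟩
    · rw [hr, if_pos (IsConj.refl J)]
  · intro u hu
    obtain ⟨g, hg, rfl⟩ := Finset.mem_image.mp hu
    rw [Finset.mem_filter] at hg
    exact hrP g hg.2
  · intro u hu
    obtain ⟨g, hg, rfl⟩ := Finset.mem_image.mp hu
    rw [Finset.mem_filter] at hg
    obtain ⟨k, hk⟩ := hg.2
    exact ⟨k, by rw [hord g (r g) (hrconj g), hk]⟩
  · intro g hg
    refine ⟨r g, ⟨?_, hrconj g⟩, ?_⟩
    · rw [Finset.mem_image]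
      refine ⟨g, ?_, rfl⟩
      rw [Finset.mem_filter]; exact ⟨Finset.mem_univ _, hg⟩
    · rintro u ⟨hu, hgu⟩
      obtain ⟨g', -, rfl⟩ := Finset.mem_image.mp hu
      exact (hrclass g g' (hgu.trans (hrconj g').symm)).symm

/-- The number of elements of level `k`, along the `2`-sections. -/
theorem dsLvlSum [Finite G] (X : Finset G) (hX : ∀ x ∈ X, ∃ k : ℕ, orderOf x = 2 ^ k)
    (hXrep : ∀ g : G, (∃ k : ℕ, orderOf g = 2 ^ k) → ∃! x, x ∈ X ∧ IsConj g x) (k : ℕ) :
    (Nat.card {g : G // dsLvl k g} : ℂ) = (Nat.card G : ℂ) *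
      ∑ x ∈ X.filter (fun x => orderOf x = 2 ^ k),
        (Nat.card (Subgroup.centralizer ({x} : Set G)) : ℂ)⁻¹ *
          (Nat.card {y : ↥(Subgroup.centralizer ({x} : Set G)) // ¬ 2 ∣ orderOf y} : ℂ) := by
  classical
  letI := Fintype.ofFinite G
  have : Fact (Nat.Prime 2) := ⟨Nat.prime_two⟩
  have hF : ∀ g c : G, (if dsLvl k (c * g * c⁻¹) then (1 : ℂ) else 0)
      = if dsLvl k g then 1 else 0 := by
    intro g c
    simp only [dsLvl_conj]
  have h1 := Helper82.sum_eq_sum_sections (p := 2) X hX hXrep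
    (F := fun g => if dsLvl k g then (1 : ℂ) else 0) hF
  have h2 : ∑ g : G, (if dsLvl k g then (1 : ℂ) else 0) = (Nat.card {g : G // dsLvl k g} : ℂ) := by
    rw [Finset.sum_boole, Nat.card_eq_fintype_card, Fintype.card_subtype]
  rw [← h2, h1]
  congr 1
  rw [Finset.sum_filter]
  refine Finset.sum_congr rfl fun x hx => ?_
  obtain ⟨a, ha⟩ := hX x hx
  letI := Fintype.ofFinite ↥(Subgroup.centralizer ({x} : Set G))
  have h4 : orderOf x = 2 ^ k ↔ a = k := by
    rw [ha]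
    exact (Nat.pow_right_injective (le_refl 2)).eq_iff
  have h3 : ∀ y : ↥(Subgroup.centralizer ({x} : Set G)),
      (if ¬ 2 ∣ orderOf y then (if dsLvl k (x * (y : G)) then (1 : ℂ) else 0) else 0)
        = if orderOf x = 2 ^ k then (if ¬ 2 ∣ orderOf y then 1 else 0) else 0 := by
    intro y
    by_cases hy : 2 ∣ orderOf y
    · simp [hy]
    · have hc : Commute x (y : G) := (Subgroup.mem_centralizer_iff.mp y.2) x rfl
      have hy' : ¬ 2 ∣ orderOf (y : G) := by rwa [Subgroup.orderOf_coe]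
      have h5 := dsLvl_mul hc ha hy' k
      simp only [hy, not_false_eq_true, if_true, h5, h4]
  simp only [h3]
  by_cases hk : orderOf x = 2 ^ k
  · simp only [hk, if_true]
    congr 1
    rw [finsum_eq_sum_of_fintype, Finset.sum_boole, Nat.card_eq_fintype_card,
      Fintype.card_subtype]
  · simp [hk]

end lvl

end Cfsg.Agent.Helper21.DihOrd
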