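import Mathlib
import Cfsg.Agent.Helper21.DihOrdD

/-!
# Dihedral Sylow 2-subgroups: the class function `η` and its sum over pairs of reflections
(helper21)
-/

set_option autoImplicit false

namespace Cfsg.Agent.Helper21.DihOrd

open DihedralGroup

section eta

variable {G : Type*} [Group G]

open Classical in
/-- The class function `η`: `-2δ` on elements whose order has `2`-part `2^(n-1)`, `-4δ` on those
with `2`-part `2^(n-2)`, and `0` elsewhere. -/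
noncomputable def dsEta (n : ℕ) (δ : ℂ) (g : G) : ℂ :=
  if dsLvl (n - 1) g then -2 * δ else if dsLvl (n - 2) g then -4 * δ else 0

theorem dsEta_congr {H : Type*} [Group H] (n : ℕ) (δ : ℂ) {g : G} {h : H}
    (hgh : ∀ k, dsLvl k g ↔ dsLvl k h) : dsEta n δ g = dsEta n δ h := by
  classical
  unfold dsEta
  rw [if_congr (hgh (n - 1)) rfl (if_congr (hgh (n - 2)) rfl rfl)]

theorem dsEta_of_orderOf {H : Type*} [Group H] (n : ℕ) (δ : ℂ) {g : G} {h : H}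
    (hgh : orderOf g = orderOf h) : dsEta n δ g = dsEta n δ h := by
  apply dsEta_congr
  intro k
  unfold dsLvl
  rw [hgh]

theorem dsEta_conj (n : ℕ) (δ : ℂ) (g c : G) : dsEta n δ (c * g * c⁻¹) = dsEta n δ g :=
  dsEta_of_orderOf n δ (dsOrderOf_conj g c)

/-- `η` is invariant under homomorphisms with kernel of odd order. -/
theorem dsEta_map {K : Type*} [Group K] (n : ℕ) (δ : ℂ) (f : G →* K)
    (hf : Odd (Nat.card f.ker)) (g : G) : dsEta n δ (f g) = dsEta n δ g := by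
  apply dsEta_congr
  intro k
  unfold dsLvl
  rw [dsPow_dvd_orderOf_iff f hf, dsPow_dvd_orderOf_iff f hf]

end eta

section dihedral

variable {n : ℕ}

theorem dsCast4 (v : ℕ) : ((v : ZMod 4) = 0 ↔ 4 ∣ v) ∧ ((v : ZMod 4) = 2 ↔ (2 ∣ v ∧ ¬ 4 ∣ v)) ∧
    (((v : ZMod 4) = 1 ∨ (v : ZMod 4) = 3) ↔ ¬ 2 ∣ v) := by
  have h := Nat.mod_lt v (by norm_num : 0 < 4)
  have h4 : 4 ∣ v ↔ v % 4 = 0 := Nat.dvd_iff_mod_eq_zero
  have h2 : 2 ∣ v ↔ (v % 4 = 0 ∨ v % 4 = 2) := by omega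
  rw [← ZMod.natCast_mod v 4, h4, h2]
  interval_cases (v % 4) <;> decide

theorem dsFour_dvd (hn : 3 ≤ n) : 4 ∣ 2 ^ (n - 1) := by
  have : (4 : ℕ) = 2 ^ 2 := by norm_num
  rw [this]
  exact pow_dvd_pow 2 (by omega)

/-- The reduction mod `4`. -/
noncomputable def dsPi4 (hn : 3 ≤ n) : ZMod (2 ^ (n - 1)) →+* ZMod 4 :=
  ZMod.castHom (dsFour_dvd hn) (ZMod 4)

theorem dsPi4_eq (hn : 3 ≤ n) (d : ZMod (2 ^ (n - 1))) :
    dsPi4 hn d = ((d.val : ℕ) : ZMod 4) := by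
  unfold dsPi4
  rw [ZMod.castHom_apply, ZMod.natCast_val]

theorem dsOrder_r (d : ZMod (2 ^ (n - 1))) :
    ∃ b : ℕ, b ≤ n - 1 ∧ orderOf (r d) = 2 ^ (n - 1 - b) ∧
      ∀ j, j ≤ n - 1 → (j ≤ b ↔ 2 ^ j ∣ d.val) := by
  have hdvd : Nat.gcd (2 ^ (n - 1)) d.val ∣ 2 ^ (n - 1) := Nat.gcd_dvd_left _ _
  obtain ⟨b, hb, hbe⟩ := (Nat.dvd_prime_pow Nat.prime_two).mp hdvd
  refine ⟨b, hb, ?_, ?_⟩
  · rw [DihedralGroup.orderOf_r, hbe, Nat.pow_div hb (by norm_num)]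
  · intro j hj
    rw [← Nat.pow_dvd_pow_iff_le_right (by norm_num : 1 < 2), ← hbe, Nat.dvd_gcd_iff]
    constructor
    · exact fun h => h.2
    · exact fun h => ⟨pow_dvd_pow 2 hj, h⟩

theorem dsLvl_r_top (hn : 3 ≤ n) (d : ZMod (2 ^ (n - 1))) :
    dsLvl (n - 1) (r d) ↔ (dsPi4 hn d = 1 ∨ dsPi4 hn d = 3) := by
  obtain ⟨b, hb, hord, hj⟩ := dsOrder_r d
  rw [dsLvl_pow_two hord, dsPi4_eq, (dsCast4 d.val).2.2]
  have h1 := hj 1 (by omega)
  rw [pow_one] at h1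
  rw [← h1]
  omega

theorem dsLvl_r_sub (hn : 3 ≤ n) (d : ZMod (2 ^ (n - 1))) :
    dsLvl (n - 2) (r d) ↔ dsPi4 hn d = 2 := by
  obtain ⟨b, hb, hord, hj⟩ := dsOrder_r d
  rw [dsLvl_pow_two hord, dsPi4_eq, (dsCast4 d.val).2.1]
  have h1 := hj 1 (by omega)
  have h2 := hj 2 (by omega)
  rw [pow_one] at h1
  have h4 : (2 : ℕ) ^ 2 = 4 := by norm_num
  rw [h4] at h2
  rw [← h1, ← h2]
  omega

/-- The values of `η` on rotations, as a function on `ZMod 4`. -/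
noncomputable def dsLev4 (δ : ℂ) (c : ZMod 4) : ℂ :=
  if c = 1 ∨ c = 3 then -2 * δ else if c = 2 then -4 * δ else 0

theorem dsLev4_add (δ : ℂ) (c : ZMod 4) : dsLev4 δ c + dsLev4 δ (c - 2) = -4 * δ := by
  unfold dsLev4
  have h : ∀ c : ZMod 4, c = 0 ∨ c = 1 ∨ c = 2 ∨ c = 3 := by decide
  rcases h c with rfl | rfl | rfl | rfl
  · have e1 : (0 : ZMod 4) - 2 = 2 := by decide
    rw [e1]
    rw [if_neg (by decide), if_neg (by decide), if_neg (by decide), if_pos rfl]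
    ring
  · have e1 : (1 : ZMod 4) - 2 = 3 := by decide
    rw [e1]
    rw [if_pos (by decide), if_pos (by decide)]
    ring
  · have e1 : (2 : ZMod 4) - 2 = 0 := by decide
    rw [e1]
    rw [if_neg (by decide), if_pos rfl, if_neg (by decide), if_neg (by decide)]
    ring
  · have e1 : (3 : ZMod 4) - 2 = 1 := by decide
    rw [e1]
    rw [if_pos (by decide), if_pos (by decide)]
    ring

theorem dsEta_r (hn : 3 ≤ n) (δ : ℂ) (d : ZMod (2 ^ (n - 1))) :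
    dsEta n δ (r d) = dsLev4 δ (dsPi4 hn d) := by
  unfold dsEta dsLev4
  simp only [dsLvl_r_top hn, dsLvl_r_sub hn]

end dihedral

section pairsum

variable {n : ℕ} {H : Type*} [Group H]

/-- The sum of `η` over products of pairs of "reflections". -/
theorem dsPairSum (hn : 3 ≤ n) (f : H →* DihedralGroup (2 ^ (n - 1)))
    (hodd : Odd (Nat.card f.ker)) (R : Finset H) (hR : ∀ s ∈ R, ∃ l, f s = sr l) (σ : H)
    (hσ : f σ = r 1) (hσR : ∀ s, s ∈ R ↔ σ * s * σ⁻¹ ∈ R) (δ : ℂ) :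
    ∑ s ∈ R, ∑ t ∈ R, dsEta n δ (s * t) = -2 * δ * (R.card : ℂ) ^ 2 := by
  have hinner : ∀ s ∈ R, ∑ t ∈ R, dsEta n δ (s * t) = -2 * δ * (R.card : ℂ) := by
    intro s hs
    obtain ⟨a, ha⟩ := hR s hs
    have h1 : ∑ t ∈ R, dsEta n δ (s * (σ * t * σ⁻¹)) = ∑ t ∈ R, dsEta n δ (s * t) :=
      Finset.sum_equiv (MulAut.conj σ).toEquiv (fun t => hσR t) (fun t _ => rfl)
    have h2 : ∀ t ∈ R, dsEta n δ (s * t) + dsEta n δ (s * (σ * t * σ⁻¹)) = -4 * δ := by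
      intro t ht
      obtain ⟨b, hb⟩ := hR t ht
      rw [← dsEta_map n δ f hodd (s * t), ← dsEta_map n δ f hodd (s * (σ * t * σ⁻¹))]
      have e1 : f (s * t) = r (b - a) := by rw [map_mul, ha, hb, sr_mul_sr]
      have e2 : f (s * (σ * t * σ⁻¹)) = r (b - a - 2) := by
        rw [map_mul, map_mul, map_mul, map_inv, ha, hb, hσ]
        simp
        ring
      rw [e1, e2, dsEta_r hn, dsEta_r hn]
      have e3 : dsPi4 hn (b - a - 2) = dsPi4 hn (b - a) - 2 := by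
        rw [map_sub]
        congr 1
        rw [map_ofNat]
      rw [e3]
      exact dsLev4_add δ _
    have h3 : ∑ t ∈ R, (dsEta n δ (s * t) + dsEta n δ (s * (σ * t * σ⁻¹)))
        = (R.card : ℂ) * (-4 * δ) := by
      rw [Finset.sum_congr rfl h2, Finset.sum_const, nsmul_eq_mul]
    rw [Finset.sum_add_distrib, h1] at h3
    linear_combination (1 / 2 : ℂ) * h3
  rw [Finset.sum_congr rfl hinner, Finset.sum_const, nsmul_eq_mul]
  ring

end pairsum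

end Cfsg.Agent.Helper21.DihOrd
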