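/-
Helper library of seat helper21: the order formula for groups with Klein four Sylow 2-subgroups
in which the product of two involutions is never a 2-singular element other than an involution
(character-theoretic part; uses S0948 and S0925).
-/
import Mathlib
import Cfsg.Agent.S0948
import Cfsg.Agent.S0925
import Cfsg.Agent.Helper81.ClassAlgebra
import Cfsg.Agent.Helper81.Blocks
import Cfsg.Agent.Helper80.CharIrr
import Cfsg.Agent.Helper78.Counting

set_option autoImplicit false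

namespace Cfsg.Agent.Helper21.KF

open Cfsg
open scoped ComplexConjugate Classical

universe u

variable {G : Type u} [Group G]

section fin

variable [Fintype G]

/-- The finset of involutions. -/
noncomputable def invF (G : Type u) [Group G] [Fintype G] : Finset G :=
  Finset.univ.filter (fun y : G => orderOf y = 2)

theorem mem_invF {y : G} : y ∈ invF G ↔ orderOf y = 2 := by simp [invF]

/-- The number of ways of writing `g` as a product of two involutions. -/
noncomputable def pairCount (g : G) : ℕ :=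
  ((invF G ×ˢ invF G).filter (fun p : G × G => p.1 * p.2 = g)).card

/-- `pairCount` minus twice the indicator function of the involutions. -/
noncomputable def thetaF (g : G) : ℂ := (pairCount g : ℂ) - (if orderOf g = 2 then 2 else 0)

omit [Fintype G] in
theorem orderOf_conj_eq' (h g : G) : orderOf (h * g * h⁻¹) = orderOf g :=
  orderOf_injective (MulAut.conj h).toMonoidHom (MulAut.conj h).injective g

theorem pairCount_conj (g h : G) : pairCount (h * g * h⁻¹) = pairCount g := by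
  unfold pairCount
  refine Finset.card_nbij' (fun p => (h⁻¹ * p.1 * h, h⁻¹ * p.2 * h))
    (fun p => (h * p.1 * h⁻¹, h * p.2 * h⁻¹)) ?_ ?_ ?_ ?_
  · intro p hp
    simp only [Finset.coe_filter, Set.mem_ofPred_eq, Finset.mem_product, mem_invF] at hp ⊢
    obtain ⟨⟨h1, h2⟩, h3⟩ := hp
    refine ⟨⟨?_, ?_⟩, ?_⟩
    · have := orderOf_conj_eq' h⁻¹ p.1
      rw [inv_inv] at this
      rw [this]; exact h1
    · have := orderOf_conj_eq' h⁻¹ p.2
      rw [inv_inv] at this
      rw [this]; exact h2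
    · have : h⁻¹ * p.1 * h * (h⁻¹ * p.2 * h) = h⁻¹ * (p.1 * p.2) * h := by group
      rw [this, h3]; group
  · intro p hp
    simp only [Finset.coe_filter, Set.mem_ofPred_eq, Finset.mem_product, mem_invF] at hp ⊢
    obtain ⟨⟨h1, h2⟩, h3⟩ := hp
    refine ⟨⟨?_, ?_⟩, ?_⟩
    · rw [orderOf_conj_eq']; exact h1
    · rw [orderOf_conj_eq']; exact h2
    · have : h * p.1 * h⁻¹ * (h * p.2 * h⁻¹) = h * (p.1 * p.2) * h⁻¹ := by group
      rw [this, h3]
  · intro p _
    apply Prod.ext <;> simp [mul_assoc]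
  · intro p _
    apply Prod.ext <;> simp [mul_assoc]

theorem thetaF_isClassFunction : IsClassFunction G (thetaF : G → ℂ) := by
  intro g h
  simp only [thetaF, pairCount_conj, orderOf_conj_eq']

theorem sum_pairCount_mul (F : G → ℂ) :
    ∑ g : G, (pairCount g : ℂ) * F g = ∑ s ∈ invF G, ∑ r ∈ invF G, F (s * r) := by
  have h1 : ∀ g : G, (pairCount g : ℂ) =
      ∑ p ∈ invF G ×ˢ invF G, if p.1 * p.2 = g then (1 : ℂ) else 0 := by
    intro g
    rw [pairCount, Finset.card_filter]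
    push_cast
    rfl
  simp_rw [h1, Finset.sum_mul]
  rw [Finset.sum_comm, Finset.sum_product]
  refine Finset.sum_congr rfl fun s _ => Finset.sum_congr rfl fun r _ => ?_
  simp

omit [Fintype G] in
theorem irr_eq_of_isConj (χ : IrrCharacter G) {t s : G} (h : IsConj t s) :
    (χ : G → ℂ) s = (χ : G → ℂ) t := by
  obtain ⟨c, rfl⟩ := isConj_iff.mp h
  exact Helper81.irr_conj χ t c

theorem inv_eq_self_of_mem_invF {y : G} (hy : y ∈ invF G) : y⁻¹ = y := by
  rw [mem_invF] at hy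
  have h1 : y * y = 1 := by rw [← pow_two, ← hy, pow_orderOf_eq_one]
  exact inv_eq_of_mul_eq_one_left h1

theorem sum_inv_pair (χ : IrrCharacter G) (t : G) (hJ : ∀ y : G, orderOf y = 2 ↔ IsConj t y) :
    ∑ s ∈ invF G, ∑ r ∈ invF G, (χ : G → ℂ) (s * r)⁻¹ =
      centralChar (χ : G → ℂ) t * (((invF G).card : ℂ) * (χ : G → ℂ) t) := by
  have hJ' : invF G = Helper81.classFinset t := by
    ext y; rw [mem_invF, Helper81.mem_classFinset, hJ]
  have h1 : ∀ s ∈ invF G, ∑ r ∈ invF G, (χ : G → ℂ) (s * r)⁻¹ =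
      centralChar (χ : G → ℂ) t * (χ : G → ℂ) s := by
    intro s hs
    rw [Helper81.centralChar_mul χ t s, ← hJ']
    refine Finset.sum_congr rfl fun r hr => ?_
    rw [mul_inv_rev, inv_eq_self_of_mem_invF hr, inv_eq_self_of_mem_invF hs]
  rw [Finset.sum_congr rfl h1, ← Finset.mul_sum]
  congr 1
  rw [Finset.sum_congr rfl (fun s hs => irr_eq_of_isConj χ ((hJ s).mp (mem_invF.mp hs)))]
  simp

theorem sum_dF (χ : IrrCharacter G) (t : G) (hJ : ∀ y : G, orderOf y = 2 ↔ IsConj t y) :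
    ∑ g : G, (if orderOf g = 2 then (2 : ℂ) else 0) * (χ : G → ℂ) g⁻¹ =
      2 * ((invF G).card : ℂ) * (χ : G → ℂ) t := by
  have h1 : ∀ g : G, (if orderOf g = 2 then (2 : ℂ) else 0) * (χ : G → ℂ) g⁻¹ =
      if orderOf g = 2 then 2 * (χ : G → ℂ) t else 0 := by
    intro g
    by_cases hg : orderOf g = 2
    · rw [if_pos hg, if_pos hg, inv_eq_self_of_mem_invF (mem_invF.mpr hg),
        irr_eq_of_isConj χ ((hJ g).mp hg)]
    · rw [if_neg hg, if_neg hg, zero_mul]
  simp_rw [h1]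
  rw [← Finset.sum_filter]
  show ∑ g ∈ invF G, 2 * (χ : G → ℂ) t = _
  rw [Finset.sum_const, nsmul_eq_mul]
  ring

theorem classInner_thetaF (χ : IrrCharacter G) (t : G)
    (hJ : ∀ y : G, orderOf y = 2 ↔ IsConj t y) :
    classInner (thetaF : G → ℂ) (χ : G → ℂ) = (Nat.card G : ℂ)⁻¹ *
      (centralChar (χ : G → ℂ) t * (((invF G).card : ℂ) * (χ : G → ℂ) t)
        - 2 * ((invF G).card : ℂ) * (χ : G → ℂ) t) := by
  unfold classInner
  congr 1
  have hc : ∀ g, conj ((χ : G → ℂ) g) = (χ : G → ℂ) g⁻¹ := fun g =>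
    (Helper80.isCharacter_inv (Helper80.isCharacter_of_irr χ.2) g).symm
  simp_rw [hc, thetaF, sub_mul, Finset.sum_sub_distrib]
  rw [sum_pairCount_mul (fun g => (χ : G → ℂ) g⁻¹), sum_inv_pair χ t hJ, sum_dF χ t hJ]

end fin

/-- **Order formula.**  Let `G` have a Klein four Sylow 2-subgroup and one class of involutions,
and suppose that `thetaF` vanishes on the 2-section of an involution `t` (that is: an element
with 2-part an involution is a product of two involutions in exactly two ways if it is an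
involution, and in no way otherwise).  Then the number `J` of involutions and the degrees
`f₂, f₃, f₄` of the nonprincipal characters of the principal 2-block satisfy
`J (1 + 1/f₂ + ε/f₃ - 1/f₄) = 8` and `1 + f₂ + ε f₃ = f₄`. -/
theorem order_formula [Finite G] (P : Sylow 2 G) (hP : IsKleinFour (P : Subgroup G))
    (hone : ∀ s t : G, orderOf s = 2 → orderOf t = 2 → IsConj s t) (t : G) (ht : orderOf t = 2)
    (hvan : ∀ u z : G, IsPPart 2 u z → IsConj t z →
      @thetaF G _ (Fintype.ofFinite G) u = 0) :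
    ∃ (f₂ f₃ f₄ : ℕ) (ε : ℤ), 0 < f₂ ∧ 0 < f₃ ∧ 0 < f₄ ∧ (ε = 1 ∨ ε = -1) ∧
      (4 : ℤ) ∣ (f₂ : ℤ) - 1 ∧ (4 : ℤ) ∣ (f₃ : ℤ) - ε ∧ (4 : ℤ) ∣ (f₄ : ℤ) + 1 ∧
      1 + (f₂ : ℤ) + ε * f₃ - f₄ = 0 ∧
      ((Subgroup.centralizer ({t} : Set G)).index : ℤ) *
        (f₂ * f₃ * f₄ + f₃ * f₄ + ε * f₂ * f₄ - f₂ * f₃) = 8 * f₂ * f₃ * f₄ := by
  letI : Fintype G := Fintype.ofFinite G
  haveI : Fact (Nat.Prime 2) := ⟨Nat.prime_two⟩
  obtain ⟨M, hM⟩ := Helper78.exists_isPModular 2 Nat.prime_two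
  obtain ⟨ζ₂, ζ₃, ζ₄, ε, hε, h21, h31, h23, h24, h34, hB, hval, hd2, hd3, hd4, hrel⟩ :=
    Cfsg.Agent.S0948.result M hM P hP hone
  obtain ⟨hv2, hv3, hv4⟩ := hval t ht
  have hJ : ∀ y : G, orderOf y = 2 ↔ IsConj t y := by
    intro y
    constructor
    · intro hy; exact hone t y ht hy
    · intro hy
      obtain ⟨c, rfl⟩ := isConj_iff.mp hy
      rw [orderOf_conj_eq']; exact ht
  have hB0 : IsPBlock M (principalBlock M G) := ⟨Helper81.trivIrr G, rfl⟩
  have hpp : IsPPart 2 t t :=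
    ⟨1, mul_one t, Commute.one_right t, ⟨1, by rw [ht, pow_one]⟩, by rw [orderOf_one]; norm_num⟩
  have h0 : ∑ᶠ χ ∈ principalBlock M G, classInner (thetaF : G → ℂ) (χ : G → ℂ) * (χ : G → ℂ) t
      = 0 :=
    (Cfsg.Agent.S0925.result 2 M hM).1 thetaF thetaF_isClassFunction t ⟨1, by rw [ht, pow_one]⟩
      hvan (principalBlock M G) hB0 t t hpp (IsConj.refl t)
  have htriv : ∀ χ : IrrCharacter G, (χ : G → ℂ) = (fun _ => 1) ↔ χ = Helper81.trivIrr G := by
    intro χ
    constructor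
    · intro h; exact Subtype.ext h
    · intro h; rw [h]; rfl
  have hset : principalBlock M G =
      (({Helper81.trivIrr G, ζ₂, ζ₃, ζ₄} : Finset (IrrCharacter G)) : Set (IrrCharacter G)) := by
    rw [hB]
    ext χ
    simp only [Set.mem_setOf_eq, Finset.coe_insert, Finset.coe_singleton, Set.mem_insert_iff,
      Set.mem_singleton_iff, htriv]
  have hv4' : ζ₄ ≠ Helper81.trivIrr G := by
    intro h
    have h1 : (ζ₄ : G → ℂ) t = 1 := by rw [h]; rfl
    rw [hv4] at h1
    norm_num at h1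
  have h21' : Helper81.trivIrr G ≠ ζ₂ := fun h => h21 ((htriv ζ₂).mpr h.symm)
  have h31' : Helper81.trivIrr G ≠ ζ₃ := fun h => h31 ((htriv ζ₃).mpr h.symm)
  rw [hset, finsum_mem_coe_finset, Finset.sum_insert, Finset.sum_insert, Finset.sum_insert,
    Finset.sum_singleton] at h0
  rotate_left
  · simp only [Finset.mem_singleton]; exact h34
  · simp only [Finset.mem_insert, Finset.mem_singleton, not_or]; exact ⟨h23, h24⟩
  · simp only [Finset.mem_insert, Finset.mem_singleton, not_or]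
    exact ⟨h21', h31', fun h => hv4' h.symm⟩
  rw [classInner_thetaF _ t hJ, classInner_thetaF _ t hJ, classInner_thetaF _ t hJ,
    classInner_thetaF _ t hJ] at h0
  have hcardJ : ((invF G).card : ℂ) = ((Subgroup.centralizer ({t} : Set G)).index : ℂ) := by
    have hJ' : invF G = Helper81.classFinset t := by
      ext y; rw [mem_invF, Helper81.mem_classFinset, hJ]
    rw [hJ', Helper81.card_classFinset]
  have hidx : ((Subgroup.centralizer ({t} : Set G)).index : ℂ) ≠ 0 := by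
    have : (Subgroup.centralizer ({t} : Set G)).index ≠ 0 := Subgroup.index_ne_zero_of_finite
    exact_mod_cast this
  have hN : (Nat.card G : ℂ) ≠ 0 := by
    have : Nat.card G ≠ 0 := Nat.card_pos.ne'
    exact_mod_cast this
  set f₂ := charDegree (ζ₂ : G → ℂ) with hf₂
  set f₃ := charDegree (ζ₃ : G → ℂ) with hf₃
  set f₄ := charDegree (ζ₄ : G → ℂ) with hf₄
  have hp2 : 0 < f₂ := Helper81.charDegree_pos ζ₂
  have hp3 : 0 < f₃ := Helper81.charDegree_pos ζ₃
  have hp4 : 0 < f₄ := Helper81.charDegree_pos ζ₄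
  have e2 : (ζ₂ : G → ℂ) 1 = (f₂ : ℂ) := Helper81.irr_one_eq_charDegree ζ₂
  have e3 : (ζ₃ : G → ℂ) 1 = (f₃ : ℂ) := Helper81.irr_one_eq_charDegree ζ₃
  have e4 : (ζ₄ : G → ℂ) 1 = (f₄ : ℂ) := Helper81.irr_one_eq_charDegree ζ₄
  have c2 : (f₂ : ℂ) ≠ 0 := by exact_mod_cast hp2.ne'
  have c3 : (f₃ : ℂ) ≠ 0 := by exact_mod_cast hp3.ne'
  have c4 : (f₄ : ℂ) ≠ 0 := by exact_mod_cast hp4.ne'
  have hrel1 := hrel 1 (by rw [orderOf_one]; exact odd_one)
  rw [e2, e3, e4] at hrel1
  have hrelZ : 1 + (f₂ : ℤ) + ε * f₃ - f₄ = 0 := by exact_mod_cast hrel1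
  refine ⟨f₂, f₃, f₄, ε, hp2, hp3, hp4, hε, hd2, hd3, hd4, hrelZ, ?_⟩
  simp only [centralChar, e2, e3, e4, hv2, hv3, hv4, hcardJ, Helper81.trivIrr_apply] at h0
  set J := (Subgroup.centralizer ({t} : Set G)).index with hJdef
  have key : (J : ℂ) * ((f₂ : ℂ) * f₃ * f₄ + f₃ * f₄ + (ε : ℂ) * f₂ * f₄ - f₂ * f₃)
      = 8 * f₂ * f₃ * f₄ := by
    rcases hε with rfl | rfl
    · push_cast at h0 ⊢
      field_simp at h0
      have h1 : (J : ℂ) * ((J : ℂ) * ((f₂ : ℂ) * f₃ * f₄ + f₃ * f₄ + f₂ * f₄ - f₂ * f₃)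
          - 8 * f₂ * f₃ * f₄) = 0 := by linear_combination h0
      rcases mul_eq_zero.mp h1 with h2 | h2
      · exact absurd h2 hidx
      · linear_combination h2
    · push_cast at h0 ⊢
      field_simp at h0
      have h1 : (J : ℂ) * ((J : ℂ) * ((f₂ : ℂ) * f₃ * f₄ + f₃ * f₄ - f₂ * f₄ - f₂ * f₃)
          - 8 * f₂ * f₃ * f₄) = 0 := by linear_combination h0
      rcases mul_eq_zero.mp h1 with h2 | h2
      · exact absurd h2 hidx
      · linear_combination h2
  exact_mod_cast key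

end Cfsg.Agent.Helper21.KF
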