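import Mathlib
import Cfsg.Agent.Helper21.DihOrdF
import Cfsg.Agent.Helper21.KFChar

/-!
# Dihedral Sylow 2-subgroups: partition of the pairs of involutions (helper21)

The pairs `(s, t)` of involutions with `η (s * t) ≠ 0` are partitioned according to the involution
of `⟨s * t⟩`.
-/

set_option autoImplicit false

namespace Cfsg.Agent.Helper21.DihOrd

open DihedralGroup Cfsg.Agent.Helper55 Cfsg.Agent.Helper21.KF

section generic

variable {G : Type*} [Group G]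

/-- The involution of `⟨s * t⟩` for involutions `s`, `t` with `s * t` of even order. -/
theorem dsZ_spec [Finite G] {s t : G} (hs : orderOf s = 2) (ht : orderOf t = 2)
    (hev : 2 ∣ orderOf (s * t)) :
    orderOf ((s * t) ^ (orderOf (s * t) / 2)) = 2 ∧
    Commute s ((s * t) ^ (orderOf (s * t) / 2)) ∧ s ≠ (s * t) ^ (orderOf (s * t) / 2) ∧
    Commute t ((s * t) ^ (orderOf (s * t) / 2)) ∧ t ≠ (s * t) ^ (orderOf (s * t) / 2) := by
  have : Fact (Nat.Prime 2) := ⟨Nat.prime_two⟩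
  have hs2 : s * s = 1 := by
    have := pow_orderOf_eq_one s
    rwa [hs, pow_two] at this
  have ht2 : t * t = 1 := by
    have := pow_orderOf_eq_one t
    rwa [ht, pow_two] at this
  have hsi : s⁻¹ = s := inv_eq_of_mul_eq_one_left hs2
  have hti : t⁻¹ = t := inv_eq_of_mul_eq_one_left ht2
  have hs1 : s ≠ 1 := by
    rintro rfl
    rw [orderOf_one] at hs
    omega
  have ht1 : t ≠ 1 := by
    rintro rfl
    rw [orderOf_one] at ht
    omega
  set d := s * t with hd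
  set N := orderOf d with hN
  have hNpos : 0 < N := orderOf_pos d
  obtain ⟨k, hk⟩ := hev
  have hk0 : k ≠ 0 := by
    rintro rfl
    omega
  have hdiv : N / 2 = k := by rw [hk]; exact Nat.mul_div_cancel_left k (by norm_num)
  rw [hdiv]
  have hdinv : d⁻¹ = t * s := by rw [hd, mul_inv_rev, hsi, hti]
  have hz2 : d ^ k * d ^ k = 1 := by
    rw [← pow_add, ← two_mul, ← hk, hN, pow_orderOf_eq_one]
  have hz1 : d ^ k ≠ 1 := pow_ne_one_of_lt_orderOf hk0 (by rw [← hN, hk]; omega)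
  have hzi : (d ^ k)⁻¹ = d ^ k := inv_eq_of_mul_eq_one_left hz2
  have hsd : s * d * s⁻¹ = d⁻¹ := by
    rw [hdinv, hd, hsi]
    calc s * (s * t) * s = (s * s) * t * s := by group
      _ = t * s := by rw [hs2, one_mul]
  have htd : t * d * t⁻¹ = d⁻¹ := by
    rw [hdinv, hd, hti]
    calc t * (s * t) * t = t * s * (t * t) := by group
      _ = t * s := by rw [ht2, mul_one]
  have hsz : s * d ^ k * s⁻¹ = d ^ k := by
    rw [← conj_pow, hsd, inv_pow, hzi]
  have htz : t * d ^ k * t⁻¹ = d ^ k := by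
    rw [← conj_pow, htd, inv_pow, hzi]
  have hcs : Commute s (d ^ k) := by
    show s * d ^ k = d ^ k * s
    calc s * d ^ k = (s * d ^ k * s⁻¹) * s := by group
      _ = d ^ k * s := by rw [hsz]
  have hct : Commute t (d ^ k) := by
    show t * d ^ k = d ^ k * t
    calc t * d ^ k = (t * d ^ k * t⁻¹) * t := by group
      _ = d ^ k * t := by rw [htz]
  -- if `d` is inverted by something commuting with it, then `d` has order `2`
  have hN2 : ∀ x : G, x * d * x⁻¹ = d⁻¹ → Commute x d → k = 1 := by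
    intro x hx hc
    have h1 : d⁻¹ = d := by
      rw [← hx]
      calc x * d * x⁻¹ = d * x * x⁻¹ := by rw [hc.eq]
        _ = d := by group
    have h2 : d ^ 2 = 1 := by
      rw [pow_two]
      nth_rewrite 1 [← h1]
      exact inv_mul_cancel d
    have h3 : N ∣ 2 := orderOf_dvd_of_pow_eq_one h2
    have h4 := Nat.le_of_dvd (by norm_num) h3
    omega
  refine ⟨orderOf_eq_prime (by rw [pow_two]; exact hz2) hz1, hcs, ?_, hct, ?_⟩
  · intro h
    have hc : Commute s d := by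
      rw [h]
      exact (Commute.refl d).pow_left k
    have hk1 := hN2 s hsd hc
    rw [hk1, pow_one, hd] at h
    apply ht1
    have : s * t = s * 1 := by rw [mul_one]; exact h.symm
    exact mul_left_cancel this
  · intro h
    have hc : Commute t d := by
      rw [h]
      exact (Commute.refl d).pow_left k
    have hk1 := hN2 t htd hc
    rw [hk1, pow_one, hd] at h
    apply hs1
    have : s * t = 1 * t := by rw [one_mul]; exact h.symm
    exact mul_right_cancel this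

theorem dsEta_ne_zero_even {n : ℕ} (hn : 3 ≤ n) {δ : ℂ} {g : G} (h : dsEta n δ g ≠ 0) :
    2 ∣ orderOf g := by
  classical
  unfold dsEta at h
  by_cases h1 : dsLvl (n - 1) g
  · exact (dvd_pow_self 2 (by omega)).trans h1.1
  · rw [if_neg h1] at h
    by_cases h2 : dsLvl (n - 2) g
    · exact (dvd_pow_self 2 (by omega)).trans h2.1
    · rw [if_neg h2] at h
      exact absurd rfl h

open Classical in
/-- The involutions commuting with `z`, other than `z`. -/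
noncomputable def dsR [Fintype G] (z : G) : Finset G :=
  (invF G).filter (fun s => s ≠ z ∧ Commute s z)

theorem mem_dsR [Fintype G] {z s : G} :
    s ∈ dsR z ↔ orderOf s = 2 ∧ s ≠ z ∧ Commute s z := by
  classical
  unfold dsR
  rw [Finset.mem_filter, mem_invF]

theorem dsR_conj [Fintype G] (z c s : G) : s ∈ dsR z ↔ c * s * c⁻¹ ∈ dsR (c * z * c⁻¹) := by
  rw [mem_dsR, mem_dsR, dsOrderOf_conj, Commute.conj_iff]
  constructor
  · rintro ⟨h1, h2, h3⟩
    refine ⟨h1, fun h => h2 ?_, h3⟩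
    have := congrArg (fun x => c⁻¹ * x * c) h
    simpa [mul_assoc] using this
  · rintro ⟨h1, h2, h3⟩
    exact ⟨h1, fun h => h2 (by rw [h]), h3⟩

/-- Sums over `dsR` are invariant under conjugation. -/
theorem dsSumR_conj [Fintype G] (z c : G) (F : G → ℂ) (hF : ∀ g c : G, F (c * g * c⁻¹) = F g) :
    ∑ s ∈ dsR (c * z * c⁻¹), ∑ t ∈ dsR (c * z * c⁻¹), F (s * t) =
      ∑ s ∈ dsR z, ∑ t ∈ dsR z, F (s * t) := by
  symm
  refine Finset.sum_equiv (MulAut.conj c).toEquiv (fun s => dsR_conj z c s) ?_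
  intro s _
  refine Finset.sum_equiv (MulAut.conj c).toEquiv (fun t => dsR_conj z c t) ?_
  intro t _
  show F (s * t) = F (c * s * c⁻¹ * (c * t * c⁻¹))
  have : c * s * c⁻¹ * (c * t * c⁻¹) = c * (s * t) * c⁻¹ := by group
  rw [this, hF]

theorem dsSum_restrict {α : Type*} [DecidableEq α] (A B : Finset α) (hAB : A ⊆ B)
    (g : α → α → ℂ) :
    ∑ s ∈ B, ∑ t ∈ B, (if s ∈ A ∧ t ∈ A then g s t else 0) = ∑ s ∈ A, ∑ t ∈ A, g s t := by
  rw [← Finset.sum_product', ← Finset.sum_product', ← Finset.sum_filter]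
  apply Finset.sum_congr _ (fun _ _ => rfl)
  ext p
  rw [Finset.mem_filter, Finset.mem_product, Finset.mem_product]
  constructor
  · exact fun h => h.2
  · exact fun h => ⟨⟨hAB h.1, hAB h.2⟩, h⟩

end generic

section ctx

variable {G : Type*} [Group G] [Fintype G] {n : ℕ} (hn : 3 ≤ n) (P : Sylow 2 G)
  (e : ↥(P : Subgroup G) ≃* DihedralGroup (2 ^ (n - 1)))
  (f : ↥(Subgroup.centralizer ({dsJ n e} : Set G)) →* DihedralGroup (2 ^ (n - 1)))
  (hf : ∀ (p : G) (hp : p ∈ (P : Subgroup G))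
    (hc : p ∈ Subgroup.centralizer ({dsJ n e} : Set G)), f ⟨p, hc⟩ = e ⟨p, hp⟩)
  (hodd : Odd (Nat.card f.ker))

omit [Fintype G] in
theorem dsMem_centJ {s : G} (hsc : Commute s (dsJ n e)) :
    s ∈ Subgroup.centralizer ({dsJ n e} : Set G) := by
  rw [Subgroup.mem_centralizer_iff]
  intro h hh
  rw [Set.mem_singleton_iff] at hh
  subst hh
  exact hsc.eq.symm

include hn hf hodd in
theorem dsZ_eq_J {s t : G} (hs : orderOf s = 2) (ht : orderOf t = 2) (hsJ : s ≠ dsJ n e)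
    (htJ : t ≠ dsJ n e) (hsc : Commute s (dsJ n e)) (htc : Commute t (dsJ n e))
    (hev : 2 ∣ orderOf (s * t)) : (s * t) ^ (orderOf (s * t) / 2) = dsJ n e := by
  by_contra hne
  have hsC := dsMem_centJ P e hsc
  have htC := dsMem_centJ P e htc
  obtain ⟨hz2, -, -, -, -⟩ := dsZ_spec hs ht hev
  have hzC : (s * t) ^ (orderOf (s * t) / 2) ∈ Subgroup.centralizer ({dsJ n e} : Set G) :=
    Subgroup.pow_mem _ (Subgroup.mul_mem _ hsC htC) _
  obtain ⟨a, ha⟩ := dsF_invol hn P e f hf hodd ⟨s, hsC⟩ (by rw [Subgroup.orderOf_mk]; exact hs) hsJ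
  obtain ⟨b, hb⟩ := dsF_invol hn P e f hf hodd ⟨t, htC⟩ (by rw [Subgroup.orderOf_mk]; exact ht) htJ
  obtain ⟨l, hl⟩ := dsF_invol hn P e f hf hodd ⟨_, hzC⟩ (by rw [Subgroup.orderOf_mk]; exact hz2) hne
  have h1 : f ⟨_, hzC⟩ = (f ⟨s, hsC⟩ * f ⟨t, htC⟩) ^ (orderOf (s * t) / 2) := by
    rw [← map_mul, ← map_pow]
    rfl
  rw [ha, hb, sr_mul_sr, hl, ← zpow_natCast, r_zpow] at h1
  exact absurd h1 (by simp)

include hn hf hodd in
theorem dsZ_eq (hJ : ∀ y : G, orderOf y = 2 ↔ IsConj (dsJ n e) y) {s t z : G}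
    (hz : orderOf z = 2) (hs : s ∈ dsR z) (ht : t ∈ dsR z) (hev : 2 ∣ orderOf (s * t)) :
    (s * t) ^ (orderOf (s * t) / 2) = z := by
  obtain ⟨c, hc⟩ := isConj_iff.mp ((hJ z).mp hz)
  subst hc
  have hs' : c⁻¹ * s * c⁻¹⁻¹ ∈ dsR (c⁻¹ * (c * dsJ n e * c⁻¹) * c⁻¹⁻¹) :=
    (dsR_conj _ c⁻¹ s).mp hs
  have ht' : c⁻¹ * t * c⁻¹⁻¹ ∈ dsR (c⁻¹ * (c * dsJ n e * c⁻¹) * c⁻¹⁻¹) :=
    (dsR_conj _ c⁻¹ t).mp ht
  have e1 : c⁻¹ * (c * dsJ n e * c⁻¹) * c⁻¹⁻¹ = dsJ n e := by group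
  rw [e1, mem_dsR] at hs' ht'
  have e2 : c⁻¹ * s * c⁻¹⁻¹ * (c⁻¹ * t * c⁻¹⁻¹) = c⁻¹ * (s * t) * c⁻¹⁻¹ := by group
  have hev' : 2 ∣ orderOf (c⁻¹ * s * c⁻¹⁻¹ * (c⁻¹ * t * c⁻¹⁻¹)) := by
    rw [e2, dsOrderOf_conj]
    exact hev
  have key := dsZ_eq_J hn P e f hf hodd hs'.1 ht'.1 hs'.2.1 ht'.2.1 hs'.2.2 ht'.2.2 hev'
  rw [e2, dsOrderOf_conj, conj_pow] at key
  rw [← key]
  group

include hn hf hodd in
/-- The partition of the pairs of involutions. -/
theorem dsPartition (hJ : ∀ y : G, orderOf y = 2 ↔ IsConj (dsJ n e) y) (δ : ℂ) :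
    ∑ s ∈ invF G, ∑ t ∈ invF G, dsEta n δ (s * t) =
      ((invF G).card : ℂ) * ∑ s ∈ dsR (dsJ n e), ∑ t ∈ dsR (dsJ n e), dsEta n δ (s * t) := by
  classical
  have hB : ∀ s ∈ invF G, ∀ t ∈ invF G, dsEta n δ (s * t) =
      ∑ z ∈ invF G, if s ∈ dsR z ∧ t ∈ dsR z then dsEta n δ (s * t) else 0 := by
    intro s hs t ht
    rw [mem_invF] at hs ht
    by_cases h0 : dsEta n δ (s * t) = 0
    · simp [h0]
    · have hev := dsEta_ne_zero_even hn h0
      obtain ⟨hz2, hcs, hsz, hct, htz⟩ := dsZ_spec hs ht hev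
      rw [Finset.sum_eq_single ((s * t) ^ (orderOf (s * t) / 2))]
      · rw [if_pos ⟨mem_dsR.mpr ⟨hs, hsz, hcs⟩, mem_dsR.mpr ⟨ht, htz, hct⟩⟩]
      · intro z hz hne
        rw [if_neg]
        rintro ⟨h1, h2⟩
        exact hne (dsZ_eq hn P e f hf hodd hJ (mem_invF.mp hz) h1 h2 hev).symm
      · intro h
        exact absurd (mem_invF.mpr hz2) h
  have hsub : ∀ z : G, dsR z ⊆ invF G := fun z s hs => mem_invF.mpr (mem_dsR.mp hs).1
  calc ∑ s ∈ invF G, ∑ t ∈ invF G, dsEta n δ (s * t)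
      = ∑ s ∈ invF G, ∑ t ∈ invF G, ∑ z ∈ invF G,
          if s ∈ dsR z ∧ t ∈ dsR z then dsEta n δ (s * t) else 0 :=
        Finset.sum_congr rfl fun s hs => Finset.sum_congr rfl fun t ht => hB s hs t ht
    _ = ∑ s ∈ invF G, ∑ z ∈ invF G, ∑ t ∈ invF G,
          if s ∈ dsR z ∧ t ∈ dsR z then dsEta n δ (s * t) else 0 :=
        Finset.sum_congr rfl fun s _ => Finset.sum_comm
    _ = ∑ z ∈ invF G, ∑ s ∈ invF G, ∑ t ∈ invF G,
          if s ∈ dsR z ∧ t ∈ dsR z then dsEta n δ (s * t) else 0 := Finset.sum_comm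
    _ = ∑ z ∈ invF G, ∑ s ∈ dsR z, ∑ t ∈ dsR z, dsEta n δ (s * t) :=
        Finset.sum_congr rfl fun z _ => dsSum_restrict (dsR z) (invF G) (hsub z) _
    _ = ∑ z ∈ invF G, ∑ s ∈ dsR (dsJ n e), ∑ t ∈ dsR (dsJ n e), dsEta n δ (s * t) := by
        refine Finset.sum_congr rfl fun z hz => ?_
        obtain ⟨c, hc⟩ := isConj_iff.mp ((hJ z).mp (mem_invF.mp hz))
        rw [← hc]
        exact dsSumR_conj (dsJ n e) c (dsEta n δ) (fun g c => dsEta_conj n δ g c)
    _ = _ := by rw [Finset.sum_const, nsmul_eq_mul]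

end ctx

end Cfsg.Agent.Helper21.DihOrd
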