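import Mathlib
import Cfsg.Agent.Helper21.DihOrdG

/-!
# Dihedral Sylow 2-subgroups: the pair sum in the centralizer of the central involution (helper21)
-/

set_option autoImplicit false

namespace Cfsg.Agent.Helper21.DihOrd

open DihedralGroup Cfsg.Agent.Helper55 Cfsg.Agent.Helper21.KF

section ctx

variable {G : Type*} [Group G] [Fintype G] {n : ℕ} (hn : 3 ≤ n) (P : Sylow 2 G)
  (e : ↥(P : Subgroup G) ≃* DihedralGroup (2 ^ (n - 1)))
  (f : ↥(Subgroup.centralizer ({dsJ n e} : Set G)) →* DihedralGroup (2 ^ (n - 1)))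
  (hf : ∀ (p : G) (hp : p ∈ (P : Subgroup G))
    (hc : p ∈ Subgroup.centralizer ({dsJ n e} : Set G)), f ⟨p, hc⟩ = e ⟨p, hp⟩)
  (hodd : Odd (Nat.card f.ker))

open Classical in
/-- The involutions of `C(J)` other than `J`, as elements of the subgroup. -/
noncomputable def dsRH : Finset ↥(Subgroup.centralizer ({dsJ n e} : Set G)) :=
  Finset.univ.filter (fun s => orderOf s = 2 ∧ (s : G) ≠ dsJ n e)

theorem mem_dsRH {s : ↥(Subgroup.centralizer ({dsJ n e} : Set G))} :
    s ∈ dsRH P e ↔ orderOf s = 2 ∧ (s : G) ≠ dsJ n e := by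
  classical
  unfold dsRH
  rw [Finset.mem_filter]
  simp

theorem dsR_eq_map : dsR (dsJ n e) = (dsRH P e).map (Function.Embedding.subtype _) := by
  ext s
  rw [Finset.mem_map, mem_dsR]
  constructor
  · rintro ⟨h1, h2, h3⟩
    refine ⟨⟨s, dsMem_centJ P e h3⟩, ?_, rfl⟩
    rw [mem_dsRH, Subgroup.orderOf_mk]
    exact ⟨h1, h2⟩
  · rintro ⟨a, ha, rfl⟩
    rw [mem_dsRH] at ha
    refine ⟨?_, ha.2, ?_⟩
    · show orderOf (a : G) = 2
      rw [Subgroup.orderOf_coe]
      exact ha.1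
    · show (a : G) * dsJ n e = dsJ n e * (a : G)
      exact ((Subgroup.mem_centralizer_iff.mp a.2) _ rfl).symm

include hn hf hodd in
/-- The sum of `η` over the products of pairs of involutions of `C(J)` other than `J`. -/
theorem dsSumR (δ : ℂ) :
    ∑ s ∈ dsR (dsJ n e), ∑ t ∈ dsR (dsJ n e), dsEta n δ (s * t) =
      -2 * δ * ((dsR (dsJ n e)).card : ℂ) ^ 2 := by
  have hn2 : 2 ≤ n := by omega
  rw [dsR_eq_map P e, Finset.card_map, Finset.sum_map]
  have h1 : ∀ s ∈ dsRH P e,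
      ∑ t ∈ (dsRH P e).map (Function.Embedding.subtype _),
        dsEta n δ ((Function.Embedding.subtype _ s) * t) =
      ∑ t ∈ dsRH P e, dsEta n δ (s * t) := by
    intro s _
    rw [Finset.sum_map]
    refine Finset.sum_congr rfl fun t _ => ?_
    apply dsEta_of_orderOf
    exact Subgroup.orderOf_coe (s * t)
  rw [Finset.sum_congr rfl h1]
  have hσc : dRot e 1 ∈ Subgroup.centralizer ({dsJ n e} : Set G) :=
    dsP_le_centJ e hn2 (dRot_mem e 1)
  refine dsPairSum hn f hodd (dsRH P e) ?_ ⟨dRot e 1, hσc⟩ (dsF_rot P e f hf 1 hσc) ?_ δ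
  · intro s hs
    rw [mem_dsRH] at hs
    exact dsF_invol hn P e f hf hodd s hs.1 hs.2
  · intro s
    rw [mem_dsRH, mem_dsRH, dsOrderOf_conj]
    have hcomm : dRot e 1 * dsJ n e = dsJ n e * dRot e 1 :=
      (dsJ_comm_of_mem e hn2 (dRot_mem e 1)).symm
    constructor
    · rintro ⟨h1, h2⟩
      refine ⟨h1, fun h => h2 ?_⟩
      have h3 : dRot e 1 * (s : G) * (dRot e 1)⁻¹ = dsJ n e := h
      calc (s : G) = (dRot e 1)⁻¹ * (dRot e 1 * (s : G) * (dRot e 1)⁻¹) * dRot e 1 := by group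
        _ = (dRot e 1)⁻¹ * (dsJ n e * dRot e 1) := by rw [h3, mul_assoc]
        _ = dsJ n e := by rw [← hcomm]; group
    · rintro ⟨h1, h2⟩
      refine ⟨h1, fun h => h2 ?_⟩
      show dRot e 1 * (s : G) * (dRot e 1)⁻¹ = dsJ n e
      rw [h, hcomm]
      group

end ctx

end Cfsg.Agent.Helper21.DihOrd
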