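import Mathlib
import Cfsg.Agent.Helper21.DihOrdH

/-!
# Dihedral Sylow 2-subgroups: the number of involutions of `C(J)` (helper21)
-/

set_option autoImplicit false

namespace Cfsg.Agent.Helper21.DihOrd

open DihedralGroup Cfsg.Agent.Helper55 Cfsg.Agent.Helper21.KF

section ctx

variable {G : Type*} [Group G] [Fintype G] {n : ℕ} (hn : 3 ≤ n) (P : Sylow 2 G)
  (e : ↥(P : Subgroup G) ≃* DihedralGroup (2 ^ (n - 1)))
  (f : ↥(Subgroup.centralizer ({dsJ n e} : Set G)) →* DihedralGroup (2 ^ (n - 1)))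
  (hf : ∀ (p : G) (hp : p ∈ (P : Subgroup G))
    (hc : p ∈ Subgroup.centralizer ({dsJ n e} : Set G)), f ⟨p, hc⟩ = e ⟨p, hp⟩)
  (hodd : Odd (Nat.card f.ker))

omit [Fintype G] in
/-- The centralizer of `{J, x}` as the centralizer of `x` inside `C(J)`. -/
theorem dsCard_cent_pair (x : ↥(Subgroup.centralizer ({dsJ n e} : Set G))) :
    Nat.card ↥(Subgroup.centralizer ({x} : Set ↥(Subgroup.centralizer ({dsJ n e} : Set G)))) =
      Nat.card ↥(Subgroup.centralizer ({dsJ n e, (x : G)} : Set G)) := by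
  rw [← Subgroup.card_map_of_injective
    (Subgroup.subtype_injective (Subgroup.centralizer ({dsJ n e} : Set G)))]
  congr 2
  ext z
  rw [Subgroup.mem_map, Subgroup.mem_centralizer_iff]
  constructor
  · rintro ⟨y, hy, rfl⟩
    intro h hh
    rcases hh with rfl | hh
    · exact (Subgroup.mem_centralizer_iff.mp y.2) _ rfl
    · rw [Set.mem_singleton_iff] at hh
      subst hh
      have := (Subgroup.mem_centralizer_iff.mp hy) x rfl
      exact congrArg Subtype.val this
  · intro hz
    have hzJ : z ∈ Subgroup.centralizer ({dsJ n e} : Set G) := by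
      rw [Subgroup.mem_centralizer_iff]
      intro h hh
      rw [Set.mem_singleton_iff] at hh
      subst hh
      exact hz _ (Set.mem_insert _ _)
    refine ⟨⟨z, hzJ⟩, ?_, rfl⟩
    rw [Subgroup.mem_centralizer_iff]
    intro h hh
    rw [Set.mem_singleton_iff] at hh
    subst hh
    apply Subtype.ext
    exact hz _ (Set.mem_insert_of_mem _ rfl)

include hn hf in
/-- The involutions of `C(J)` with the parity of a given reflection form one class of `C(J)`. -/
theorem dsCardClassRef (h2 : 2 ∣ 2 ^ (n - 1)) (i₀ : ZMod (2 ^ (n - 1))) :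
    ((dsRH P e).filter (fun s => dihedralPar (2 ^ (n - 1)) h2 0 (f s) =
        dihedralPar (2 ^ (n - 1)) h2 0 (sr i₀))).card *
      Nat.card ↥(Subgroup.centralizer ({dsJ n e, dRef e i₀} : Set G)) =
        Nat.card ↥(Subgroup.centralizer ({dsJ n e} : Set G)) := by
  classical
  have : Fact (Nat.Prime 2) := ⟨Nat.prime_two⟩
  have hn2 : 2 ≤ n := by omega
  have hle : (P : Subgroup G) ≤ Subgroup.centralizer ({dsJ n e} : Set G) := dsP_le_centJ e hn2
  have hτc : dRef e i₀ ∈ Subgroup.centralizer ({dsJ n e} : Set G) := hle (dRef_mem e i₀)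
  have hpar : ∀ c s : ↥(Subgroup.centralizer ({dsJ n e} : Set G)),
      dihedralPar (2 ^ (n - 1)) h2 0 (f (c * s * c⁻¹)) = dihedralPar (2 ^ (n - 1)) h2 0 (f s) := by
    intro c s
    rw [map_mul, map_mul, map_inv, map_mul, map_mul, map_inv, mul_comm, ← mul_assoc,
      inv_mul_cancel, one_mul]
  have hA : (dsRH P e).filter (fun s => dihedralPar (2 ^ (n - 1)) h2 0 (f s) =
      dihedralPar (2 ^ (n - 1)) h2 0 (sr i₀)) =
      Helper81.classFinset (⟨dRef e i₀, hτc⟩ : ↥(Subgroup.centralizer ({dsJ n e} : Set G))) := by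
    ext s
    rw [Finset.mem_filter, mem_dsRH, Helper81.mem_classFinset]
    constructor
    · rintro ⟨⟨hs2, hsJ⟩, hsp⟩
      obtain ⟨c, hc⟩ := dsConjP (P.subtype hle) s ⟨1, by rw [pow_one]; exact hs2⟩
      have hp : ((c * s * c⁻¹ : ↥(Subgroup.centralizer ({dsJ n e} : Set G))) : G) ∈
          (P : Subgroup G) := hc
      rcases mem_cases e hp with ⟨j, hj⟩ | ⟨i, hi⟩
      · exfalso
        have ho : orderOf (dRot e j) = 2 := by
          rw [← hj, Subgroup.orderOf_coe, dsOrderOf_conj]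
          exact hs2
        have hJ' := dsRot_eq_J e hn2 ho
        rw [hJ'] at hj
        apply hsJ
        have hcJ : dsJ n e * (c : G) = (c : G) * dsJ n e :=
          (Subgroup.mem_centralizer_iff.mp c.2) _ rfl
        have hj' : (c : G) * (s : G) * (c : G)⁻¹ = dsJ n e := hj
        calc (s : G) = (c : G)⁻¹ * ((c : G) * (s : G) * (c : G)⁻¹) * (c : G) := by group
          _ = (c : G)⁻¹ * (dsJ n e * (c : G)) := by rw [hj', mul_assoc]
          _ = dsJ n e := by rw [hcJ]; group
      · have hfi : f (c * s * c⁻¹) = sr i := by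
          have : c * s * c⁻¹ = ⟨dRef e i, hle (dRef_mem e i)⟩ := Subtype.ext hi
          rw [this, dsF_ref P e f hf]
        have h3 : dihedralPar (2 ^ (n - 1)) h2 0 (sr i) =
            dihedralPar (2 ^ (n - 1)) h2 0 (sr i₀) := by
          rw [← hfi, hpar, hsp]
        rw [dihedralPar_sr, dihedralPar_sr, add_zero, add_zero] at h3
        have h4 : ZMod.castHom h2 (ZMod 2) (i - i₀) = 0 := by
          rw [map_sub, Multiplicative.ofAdd.injective h3, sub_self]
        obtain ⟨k, hk⟩ := exists_two_mul_of_castHom_eq_zero h2 (i - i₀) h4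
        have h5 : dRot e (-k) * dRef e i₀ * (dRot e (-k))⁻¹ = dRef e i := by
          rw [dRot_conj_dRef]
          congr 1
          have : i = (i - i₀) + i₀ := by ring
          rw [this, hk]
          ring
        rw [isConj_iff]
        refine ⟨c⁻¹ * ⟨dRot e (-k), hle (dRot_mem e _)⟩, ?_⟩
        apply Subtype.ext
        show (c : G)⁻¹ * dRot e (-k) * dRef e i₀ * ((c : G)⁻¹ * dRot e (-k))⁻¹ = (s : G)
        have hi' : (c : G) * (s : G) * (c : G)⁻¹ = dRef e i := hi
        calc (c : G)⁻¹ * dRot e (-k) * dRef e i₀ * ((c : G)⁻¹ * dRot e (-k))⁻¹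
            = (c : G)⁻¹ * (dRot e (-k) * dRef e i₀ * (dRot e (-k))⁻¹) * (c : G) := by group
          _ = (c : G)⁻¹ * ((c : G) * (s : G) * (c : G)⁻¹) * (c : G) := by rw [h5, hi']
          _ = (s : G) := by group
    · intro hconj
      obtain ⟨c, hc⟩ := isConj_iff.mp hconj
      have hcG : (c : G) * dRef e i₀ * (c : G)⁻¹ = (s : G) := congrArg Subtype.val hc
      refine ⟨⟨?_, ?_⟩, ?_⟩
      · rw [← hc, dsOrderOf_conj, Subgroup.orderOf_mk, orderOf_dRef]
      · intro h
        rw [← hcG] at h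
        have hcJ : dsJ n e * (c : G) = (c : G) * dsJ n e :=
          (Subgroup.mem_centralizer_iff.mp c.2) _ rfl
        have h6 : dRef e i₀ = dsJ n e := by
          calc dRef e i₀ = (c : G)⁻¹ * ((c : G) * dRef e i₀ * (c : G)⁻¹) * (c : G) := by group
            _ = (c : G)⁻¹ * (dsJ n e * (c : G)) := by rw [h, mul_assoc]
            _ = dsJ n e := by rw [hcJ]; group
        exact dRef_ne_dRot e i₀ _ h6
      · rw [← hc, hpar, dsF_ref P e f hf]
  rw [hA, Helper81.card_classFinset, dsCard_cent_pair P e ⟨dRef e i₀, hτc⟩ |>.symm]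
  exact Subgroup.index_mul_card _

include hn hf in
/-- The number of involutions of `C(J)` other than `J`. -/
theorem dsCardR :
    ((dsR (dsJ n e)).card : ℚ) =
      (Nat.card ↥(Subgroup.centralizer ({dsJ n e} : Set G)) : ℚ) /
          (Nat.card ↥(Subgroup.centralizer ({dsJ n e, dRef e 0} : Set G)) : ℚ) +
        (Nat.card ↥(Subgroup.centralizer ({dsJ n e} : Set G)) : ℚ) /
          (Nat.card ↥(Subgroup.centralizer ({dsJ n e, dRef e (-1)} : Set G)) : ℚ) := by
  classical
  have h2 : 2 ∣ 2 ^ (n - 1) := dvd_pow_self 2 (by omega)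
  have ha := dsCardClassRef hn P e f hf h2 0
  have hb := dsCardClassRef hn P e f hf h2 (-1)
  have hsplit := Finset.card_filter_add_card_filter_not (s := dsRH P e)
    (fun s => dihedralPar (2 ^ (n - 1)) h2 0 (f s) = dihedralPar (2 ^ (n - 1)) h2 0 (sr 0))
  have hneg : (dsRH P e).filter (fun s => ¬ dihedralPar (2 ^ (n - 1)) h2 0 (f s) =
      dihedralPar (2 ^ (n - 1)) h2 0 (sr 0)) =
      (dsRH P e).filter (fun s => dihedralPar (2 ^ (n - 1)) h2 0 (f s) =
        dihedralPar (2 ^ (n - 1)) h2 0 (sr (-1))) := by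
    apply Finset.filter_congr
    intro s _
    have e0 : dihedralPar (2 ^ (n - 1)) h2 0 (sr 0) = 1 := by
      rw [dihedralPar_sr, map_zero, add_zero]
      rfl
    have e1 : dihedralPar (2 ^ (n - 1)) h2 0 (sr (-1)) = Multiplicative.ofAdd 1 := by
      rw [dihedralPar_sr, map_neg, map_one, add_zero]
      rfl
    rw [e0, e1]
    constructor
    · exact fun h => c2_eq_of_ne_one _ h
    · intro h
      rw [h]
      exact c2_ofAdd_one_ne_one
  rw [hneg] at hsplit
  rw [dsR_eq_map P e, Finset.card_map, ← hsplit]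
  have hpa : (Nat.card ↥(Subgroup.centralizer ({dsJ n e, dRef e 0} : Set G)) : ℚ) ≠ 0 := by
    exact_mod_cast Nat.card_pos.ne'
  have hpb : (Nat.card ↥(Subgroup.centralizer ({dsJ n e, dRef e (-1)} : Set G)) : ℚ) ≠ 0 := by
    exact_mod_cast Nat.card_pos.ne'
  have e1 : (Nat.card ↥(Subgroup.centralizer ({dsJ n e} : Set G)) : ℚ) /
      (Nat.card ↥(Subgroup.centralizer ({dsJ n e, dRef e 0} : Set G)) : ℚ) =
      (((dsRH P e).filter (fun s => dihedralPar (2 ^ (n - 1)) h2 0 (f s) =
        dihedralPar (2 ^ (n - 1)) h2 0 (sr 0))).card : ℚ) := by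
    rw [div_eq_iff hpa]
    exact_mod_cast ha.symm
  have e2 : (Nat.card ↥(Subgroup.centralizer ({dsJ n e} : Set G)) : ℚ) /
      (Nat.card ↥(Subgroup.centralizer ({dsJ n e, dRef e (-1)} : Set G)) : ℚ) =
      (((dsRH P e).filter (fun s => dihedralPar (2 ^ (n - 1)) h2 0 (f s) =
        dihedralPar (2 ^ (n - 1)) h2 0 (sr (-1)))).card : ℚ) := by
    rw [div_eq_iff hpb]
    exact_mod_cast hb.symm
  rw [e1, e2]
  push_cast
  ring

end ctx

end Cfsg.Agent.Helper21.DihOrd
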