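import Mathlib
import Cfsg.Agent.Helper21.DihOrdF
import Cfsg.Agent.Helper73.GenSpan
import Cfsg.Agent.Helper79.Basic

/-!
# Dihedral Sylow 2-subgroups: `η` on the dihedral group is a generalized character (helper21)
-/

set_option autoImplicit false

namespace Cfsg.Agent.Helper21.DihOrd

open DihedralGroup

section dchar

variable {m : ℕ}

/-- The character of order `4` of `ZMod m` (for `4 ∣ m`). -/
noncomputable def dsC4 (m : ℕ) (d : ZMod m) : ℂ := Complex.I ^ d.val

theorem dsC4_add [NeZero m] (h4 : 4 ∣ m) (a b : ZMod m) :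
    dsC4 m (a + b) = dsC4 m a * dsC4 m b := by
  unfold dsC4
  rw [ZMod.val_add, ← pow_add]
  have hI : Complex.I ^ m = 1 := by
    obtain ⟨k, rfl⟩ := h4
    rw [pow_mul, Complex.I_pow_four, one_pow]
  conv_rhs => rw [← Nat.div_add_mod (a.val + b.val) m, pow_add, pow_mul, hI, one_pow, one_mul]

theorem dsC4_zero [NeZero m] : dsC4 m 0 = 1 := by
  unfold dsC4
  rw [ZMod.val_zero, pow_zero]

theorem dsC4_neg [NeZero m] (h4 : 4 ∣ m) (a : ZMod m) : dsC4 m a * dsC4 m (-a) = 1 := by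
  rw [← dsC4_add h4, add_neg_cancel, dsC4_zero]

/-- The two-dimensional matrix representation of the dihedral group. -/
noncomputable def dsMat (m : ℕ) : DihedralGroup m → Matrix (Fin 2) (Fin 2) ℂ
  | r d => !![dsC4 m d, 0; 0, dsC4 m (-d)]
  | sr d => !![0, dsC4 m (-d); dsC4 m d, 0]

theorem dsMat_mul [NeZero m] (h4 : 4 ∣ m) (x y : DihedralGroup m) :
    dsMat m (x * y) = dsMat m x * dsMat m y := by
  rcases x with a | a <;> rcases y with b | b
  · rw [r_mul_r]
    simp only [dsMat, Matrix.mul_fin_two, neg_add, dsC4_add h4]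
    simp
  · rw [r_mul_sr]
    simp only [dsMat, Matrix.mul_fin_two, sub_eq_add_neg, dsC4_add h4]
    simp [mul_comm]
    rw [dsC4_add h4]
  · rw [sr_mul_r]
    simp only [dsMat, Matrix.mul_fin_two, neg_add, dsC4_add h4]
    simp
  · rw [sr_mul_sr]
    simp only [dsMat, Matrix.mul_fin_two, sub_eq_add_neg, dsC4_add h4]
    simp [mul_comm]
    rw [dsC4_add h4]

theorem dsMat_one [NeZero m] : dsMat m 1 = 1 := by
  show dsMat m (r 0) = 1
  simp only [dsMat, neg_zero, dsC4_zero]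
  exact Matrix.one_fin_two.symm

/-- The matrix representation as a homomorphism. -/
noncomputable def dsMatHom [NeZero m] (h4 : 4 ∣ m) :
    DihedralGroup m →* Matrix (Fin 2) (Fin 2) ℂ where
  toFun := dsMat m
  map_one' := dsMat_one
  map_mul' := dsMat_mul h4

/-- The two-dimensional representation. -/
noncomputable def dsRep [NeZero m] (h4 : 4 ∣ m) :
    Representation ℂ (DihedralGroup m) (Fin 2 → ℂ) :=
  (Matrix.toLinAlgEquiv' (R := ℂ) (n := Fin 2)).toAlgHom.toRingHom.toMonoidHom.comp (dsMatHom h4)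

theorem dsKappa_isCharacter [NeZero m] (h4 : 4 ∣ m) :
    Cfsg.IsCharacter (DihedralGroup m) (fun x => (dsMat m x).trace) := by
  have h := Cfsg.Agent.Helper79.isCharacter_of_rep (dsRep h4)
  have e : (dsRep h4).character = fun x => (dsMat m x).trace := by
    funext x
    show LinearMap.trace ℂ _ (Matrix.toLin' (dsMat m x)) = _
    rw [Matrix.trace_toLin'_eq]
  rwa [e] at h

/-- The sign character of the dihedral group, as a function. -/
noncomputable def dsSignFun (m : ℕ) : DihedralGroup m → ℂˣ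
  | r _ => 1
  | sr _ => -1

theorem dsSignFun_mul (x y : DihedralGroup m) :
    dsSignFun m (x * y) = dsSignFun m x * dsSignFun m y := by
  rcases x with a | a <;> rcases y with b | b
  · rw [r_mul_r]; simp [dsSignFun]
  · rw [r_mul_sr]; simp [dsSignFun]
  · rw [sr_mul_r]; simp [dsSignFun]
  · rw [sr_mul_sr]; simp [dsSignFun]

/-- The sign character of the dihedral group. -/
noncomputable def dsSign (m : ℕ) : DihedralGroup m →* ℂˣ :=
  MonoidHom.mk' (dsSignFun m) dsSignFun_mul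

theorem dsSign_r (d : ZMod m) : ((dsSign m (r d) : ℂˣ) : ℂ) = 1 := rfl

theorem dsSign_sr (d : ZMod m) : ((dsSign m (sr d) : ℂˣ) : ℂ) = -1 := by
  show ((-1 : ℂˣ) : ℂ) = -1
  simp

theorem dsTrace_r (d : ZMod m) : (dsMat m (r d)).trace = dsC4 m d + dsC4 m (-d) := by
  simp [dsMat, Matrix.trace_fin_two_of]

theorem dsTrace_sr (d : ZMod m) : (dsMat m (sr d)).trace = 0 := by
  simp [dsMat, Matrix.trace_fin_two_of]

end dchar

section level

variable {n : ℕ}

theorem dsKappa_r (hn : 3 ≤ n) (δ : ℂ) (d : ZMod (2 ^ (n - 1))) :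
    δ * ((dsMat (2 ^ (n - 1)) (r d)).trace - 2) = dsLev4 δ (dsPi4 hn d) := by
  have h4 := dsFour_dvd hn
  rw [dsTrace_r, dsPi4_eq]
  have hinv : dsC4 (2 ^ (n - 1)) (-d) = (dsC4 (2 ^ (n - 1)) d)⁻¹ :=
    eq_inv_of_mul_eq_one_right (dsC4_neg h4 d)
  rw [hinv]
  unfold dsC4
  rw [Complex.I_pow_eq_pow_mod, ← ZMod.natCast_mod d.val 4]
  have hv := Nat.mod_lt d.val (by norm_num : 0 < 4)
  unfold dsLev4
  interval_cases (d.val % 4)
  · rw [if_neg (by decide), if_neg (by decide), pow_zero, inv_one]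
    ring
  · rw [if_pos (by decide), pow_one, Complex.inv_I]
    ring
  · rw [if_neg (by decide), if_pos (by decide), Complex.I_sq]
    have : (-1 : ℂ)⁻¹ = -1 := by norm_num
    rw [this]
    ring
  · rw [if_pos (by decide)]
    have : Complex.I ^ 3 = -Complex.I := by
      rw [pow_succ, Complex.I_sq]; ring
    rw [this, inv_neg, Complex.inv_I]
    ring

theorem dsLvl_sr (k : ℕ) (i : ZMod (2 ^ (n - 1))) :
    dsLvl k (sr i : DihedralGroup (2 ^ (n - 1))) ↔ 1 = k := by
  have h : orderOf (sr i : DihedralGroup (2 ^ (n - 1))) = 2 ^ 1 := by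
    rw [pow_one]
    exact orderOf_sr i
  exact dsLvl_pow_two h k

/-- `η` on the dihedral group as a combination of characters. -/
theorem dsEtaD_eq (hn : 3 ≤ n) (δ : ℂ) (x : DihedralGroup (2 ^ (n - 1))) :
    dsEta n δ x = δ * ((dsMat (2 ^ (n - 1)) x).trace - 1 - (dsSign (2 ^ (n - 1)) x : ℂ)) +
      (if n = 3 then -2 * δ * (1 - (dsSign (2 ^ (n - 1)) x : ℂ)) else 0) := by
  rcases x with d | i
  · rw [dsEta_r hn, ← dsKappa_r hn, dsSign_r]
    split_ifs <;> ring
  · classical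
    rw [dsTrace_sr, dsSign_sr]
    unfold dsEta
    rw [if_neg (by rw [dsLvl_sr]; omega), if_congr (dsLvl_sr (n - 2) i) rfl rfl]
    by_cases h3 : n = 3
    · rw [if_pos (by omega), if_pos h3]
      ring
    · rw [if_neg (by omega), if_neg h3]
      ring

end level

section onP

variable {G : Type*} [Group G] {n : ℕ} {S : Subgroup G}

/-- `η` restricted to a dihedral subgroup is a generalized character. -/
theorem dsEta_mem_genSpanZ (hn : 3 ≤ n) (e : ↥S ≃* DihedralGroup (2 ^ (n - 1))) (d : ℤ) :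
    (fun p : ↥S => dsEta n (d : ℂ) (p : G)) ∈ Cfsg.Agent.Helper73.genSpanZ ↥S := by
  have h4 := dsFour_dvd hn
  have hκ : (fun p : ↥S => (dsMat (2 ^ (n - 1)) (e p)).trace) ∈
      Cfsg.Agent.Helper73.genSpanZ ↥S :=
    Cfsg.Agent.Helper73.isCharacter_mem_genSpanZ
      (Cfsg.Agent.Helper79.isCharacter_comp (dsKappa_isCharacter h4) e.toMonoidHom)
  have h1 : (fun _ : ↥S => (1 : ℂ)) ∈ Cfsg.Agent.Helper73.genSpanZ ↥S :=
    Cfsg.Agent.Helper73.isCharacter_mem_genSpanZ Cfsg.Agent.Helper79.isCharacter_one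
  have hε : (fun p : ↥S => ((dsSign (2 ^ (n - 1)) (e p) : ℂˣ) : ℂ)) ∈
      Cfsg.Agent.Helper73.genSpanZ ↥S :=
    Cfsg.Agent.Helper73.isCharacter_mem_genSpanZ (Cfsg.Agent.Helper79.isCharacter_of_irr
      (Cfsg.Agent.Helper79.isIrrCharacter_of_hom ((dsSign (2 ^ (n - 1))).comp e.toMonoidHom)))
  have heq : (fun p : ↥S => dsEta n (d : ℂ) (p : G)) =
      d • ((fun p : ↥S => (dsMat (2 ^ (n - 1)) (e p)).trace) - (fun _ : ↥S => (1 : ℂ)) -
        (fun p : ↥S => ((dsSign (2 ^ (n - 1)) (e p) : ℂˣ) : ℂ))) +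
      (if n = 3 then (-2 * d) • ((fun _ : ↥S => (1 : ℂ)) -
        (fun p : ↥S => ((dsSign (2 ^ (n - 1)) (e p) : ℂˣ) : ℂ))) else 0) := by
    funext p
    have ho : orderOf (p : G) = orderOf (e p) := by
      rw [Subgroup.orderOf_coe, MulEquiv.orderOf_eq]
    rw [dsEta_of_orderOf n (d : ℂ) ho, dsEtaD_eq hn]
    split_ifs <;> simp
  rw [heq]
  refine Submodule.add_mem _ (Submodule.smul_mem _ _ (Submodule.sub_mem _
    (Submodule.sub_mem _ hκ h1) hε)) ?_
  split_ifs
  · exact Submodule.smul_mem _ _ (Submodule.sub_mem _ h1 hε)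
  · exact Submodule.zero_mem _

end onP

end Cfsg.Agent.Helper21.DihOrd
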