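import Mathlib
import Cfsg.Agent.Helper21.DihOrdJ
import Cfsg.Agent.Helper73.PRegular
import Cfsg.Agent.Helper33.PComplement

/-!
# Dihedral Sylow 2-subgroups: `η` is a generalized character (helper21)

By Brauer's characterization of characters.
-/

set_option autoImplicit false

namespace Cfsg.Agent.Helper21.DihOrd

open DihedralGroup

section brauer

variable {G : Type*} [Group G]

/-- A `2`-subgroup is conjugate into any Sylow `2`-subgroup. -/
theorem dsConjSubgroupP [Finite G] (P : Sylow 2 G) (T : Subgroup G) (hT : IsPGroup 2 T) :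
    ∃ c : G, ∀ x ∈ T, c * x * c⁻¹ ∈ (P : Subgroup G) := by
  have : Fact (Nat.Prime 2) := ⟨Nat.prime_two⟩
  obtain ⟨Q, hQ⟩ := hT.exists_le_sylow
  obtain ⟨c, hc⟩ := MulAction.exists_smul_eq G Q P
  refine ⟨c, fun x hx => ?_⟩
  rw [← hc, Sylow.coe_subgroup_smul]
  have := Subgroup.smul_mem_pointwise_smul _ (MulAut.conj c) _ (hQ hx)
  simpa [MulAut.smul_def] using this

/-- Generalized characters pull back along homomorphisms. -/
theorem dsGenSpanZ_comp {H K : Type*} [Group H] [Group K] {θ : K → ℂ}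
    (hθ : θ ∈ Cfsg.Agent.Helper73.genSpanZ K) (φ : H →* K) :
    (fun x => θ (φ x)) ∈ Cfsg.Agent.Helper73.genSpanZ H := by
  obtain ⟨χ, ψ, hχ, hψ, rfl⟩ := Cfsg.Agent.Helper73.isGeneralizedCharacter_of_mem_genSpanZ hθ
  have e : (fun x => (χ - ψ) (φ x)) = (fun x => χ (φ x)) - fun x => ψ (φ x) := rfl
  rw [e]
  exact sub_mem
    (Cfsg.Agent.Helper73.isCharacter_mem_genSpanZ (Cfsg.Agent.Helper79.isCharacter_comp hχ φ))
    (Cfsg.Agent.Helper73.isCharacter_mem_genSpanZ (Cfsg.Agent.Helper79.isCharacter_comp hψ φ))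

/-- `η` is a generalized character of a group with dihedral Sylow `2`-subgroups. -/
theorem dsEta_genSpanZ [Fintype G] {n : ℕ} (hn : 3 ≤ n) (P : Sylow 2 G)
    (e : ↥(P : Subgroup G) ≃* DihedralGroup (2 ^ (n - 1))) (d : ℤ) :
    (fun g : G => dsEta n (d : ℂ) g) ∈ Cfsg.Agent.Helper73.genSpanZ G := by
  have : Fact (Nat.Prime 2) := ⟨Nat.prime_two⟩
  apply Cfsg.Agent.Helper73.brauer_characterization_Z (fun g c => dsEta_conj n (d : ℂ) g c)
  intro E q hq hE
  obtain ⟨K, hKn, hKcop, j, hj⟩ :=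
    Cfsg.Agent.Helper73.exists_normal_pcomplement_of_isElementary hq Nat.prime_two hE
  haveI := hKn
  have npc : Cfsg.HasNormalPComplement 2 ↥E :=
    Cfsg.Agent.Helper33.hasNormalPComplement_of_normal K hKcop
      (fun g hg => Cfsg.Agent.Helper33.mem_of_coprime_order_of_index K hj hg)
  obtain ⟨S⟩ : Nonempty (Sylow 2 ↥E) := inferInstance
  obtain ⟨f₀, hf₀, hodd⟩ := dsRetract npc S
  have hT : IsPGroup 2 ((S : Subgroup ↥E).map E.subtype) := S.isPGroup'.map _
  obtain ⟨c, hc⟩ := dsConjSubgroupP P _ hT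
  let ψ : ↥(S : Subgroup ↥E) →* G :=
    (MulAut.conj c).toMonoidHom.comp (E.subtype.comp (S : Subgroup ↥E).subtype)
  have hψ : ∀ s, ψ s ∈ (P : Subgroup G) := fun s => hc _ (Subgroup.mem_map_of_mem _ s.2)
  let φ : ↥E →* ↥(P : Subgroup G) := (ψ.codRestrict _ hψ).comp f₀
  have hφker : φ.ker = f₀.ker := by
    ext x
    rw [MonoidHom.mem_ker, MonoidHom.mem_ker]
    show (ψ.codRestrict _ hψ) (f₀ x) = 1 ↔ f₀ x = 1
    constructor
    · intro h
      have h2 : c * ((f₀ x : ↥E) : G) * c⁻¹ = 1 := congrArg Subtype.val h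
      have h3 : ((f₀ x : ↥E) : G) = 1 := by
        have h4 : ((f₀ x : ↥E) : G) = c⁻¹ * (c * ((f₀ x : ↥E) : G) * c⁻¹) * c := by group
        rw [h4, h2]
        group
      exact Subtype.ext (Subtype.ext h3)
    · intro h
      rw [h, map_one]
  have hφodd : Odd (Nat.card φ.ker) := by
    rw [hφker]
    exact hodd
  have heq : (fun x : ↥E => dsEta n (d : ℂ) (x : G)) =
      fun x : ↥E => (fun p : ↥(P : Subgroup G) => dsEta n (d : ℂ) (p : G)) (φ x) := by
    funext x
    show dsEta n (d : ℂ) (x : G) = dsEta n (d : ℂ) ((φ x : ↥(P : Subgroup G)) : G)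
    rw [dsEta_of_orderOf n (d : ℂ) (Subgroup.orderOf_coe x),
      dsEta_of_orderOf n (d : ℂ) (Subgroup.orderOf_coe (φ x)), dsEta_map n (d : ℂ) φ hφodd]
  rw [heq]
  exact dsGenSpanZ_comp (dsEta_mem_genSpanZ hn e d) φ

end brauer

end Cfsg.Agent.Helper21.DihOrd
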