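import Mathlib
import Cfsg.Agent.Helper21.DihOrdD

/-!
# Dihedral Sylow 2-subgroups: the number of elements of the two top levels (helper21)
-/

set_option autoImplicit false

namespace Cfsg.Agent.Helper21.DihOrd

open DihedralGroup Cfsg.Agent.Helper55

section ctx

variable {G : Type*} [Group G] [Finite G] {n : ℕ} (hn : 3 ≤ n) (P : Sylow 2 G)
  (e : ↥(P : Subgroup G) ≃* DihedralGroup (2 ^ (n - 1)))
  (f : ↥(Subgroup.centralizer ({dsJ n e} : Set G)) →* DihedralGroup (2 ^ (n - 1)))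
  (hf : ∀ (p : G) (hp : p ∈ (P : Subgroup G))
    (hc : p ∈ Subgroup.centralizer ({dsJ n e} : Set G)), f ⟨p, hc⟩ = e ⟨p, hp⟩)
  (hodd : Odd (Nat.card f.ker))

omit [Finite G] in
theorem dsOrderOf_rot (i : ZMod (2 ^ (n - 1))) : orderOf (dRot e i) = addOrderOf i := by
  rw [orderOf_dRot, DihedralGroup.orderOf_r]
  conv_rhs => rw [← ZMod.natCast_zmod_val i]
  rw [ZMod.addOrderOf_coe _ (NeZero.ne _)]

omit [Finite G] in
/-- The number of rotations of order `2^k`. -/
theorem dsCardRotOrder (k : ℕ) (hk1 : 1 ≤ k) (hk : k ≤ n - 1) :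
    (Finset.univ.filter (fun i : ZMod (2 ^ (n - 1)) => orderOf (dRot e i) = 2 ^ k)).card
      = 2 ^ (k - 1) := by
  simp only [dsOrderOf_rot P e]
  rw [IsAddCyclic.card_addOrderOf_eq_totient (by rw [ZMod.card]; exact pow_dvd_pow 2 hk),
    Nat.totient_prime_pow Nat.prime_two (by omega)]
  simp

omit [Finite G] in
theorem dsRot_order_ge_four {i : ZMod (2 ^ (n - 1))} {k : ℕ} (hk2 : 2 ≤ k)
    (h : orderOf (dRot e i) = 2 ^ k) : i ≠ 0 ∧ i + i ≠ 0 := by
  have h6 : 2 ^ 2 ≤ 2 ^ k := Nat.pow_le_pow_right (by norm_num) hk2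
  constructor
  · rintro rfl
    rw [dRot_zero, orderOf_one] at h
    omega
  · intro h2
    have h3 : dRot e i ^ 2 = 1 := by rw [pow_two, dRot_mul_dRot, h2, dRot_zero]
    have h4 := orderOf_dvd_of_pow_eq_one h3
    rw [h] at h4
    have h5 := Nat.le_of_dvd (by norm_num) h4
    omega

include hn hf in
/-- The number of classes of elements of order `2^k ≥ 4`. -/
theorem dsCardReps (X : Finset G) (hXP : ∀ u ∈ X, u ∈ (P : Subgroup G))
    (hXrep : ∀ g : G, (∃ k : ℕ, orderOf g = 2 ^ k) → ∃! x, x ∈ X ∧ IsConj g x)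
    (k : ℕ) (hk2 : 2 ≤ k) (hk : k ≤ n - 1) :
    (X.filter (fun x => orderOf x = 2 ^ k)).card * 2 = 2 ^ (k - 1) := by
  classical
  rw [← dsCardRotOrder P e k (by omega) hk]
  have hdc := Finset.sum_card_bipartiteAbove_eq_sum_card_bipartiteBelow
    (s := Finset.univ.filter (fun i : ZMod (2 ^ (n - 1)) => orderOf (dRot e i) = 2 ^ k))
    (t := X.filter (fun x => orderOf x = 2 ^ k)) (r := fun i x => IsConj (dRot e i) x)
  have hL : ∀ i ∈ Finset.univ.filter (fun i : ZMod (2 ^ (n - 1)) => orderOf (dRot e i) = 2 ^ k),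
      ((X.filter (fun x => orderOf x = 2 ^ k)).bipartiteAbove
        (fun i x => IsConj (dRot e i) x) i).card = 1 := by
    intro i hi
    rw [Finset.mem_filter] at hi
    obtain ⟨x, ⟨hxX, hx⟩, huniq⟩ := hXrep (dRot e i) ⟨k, hi.2⟩
    rw [Finset.card_eq_one]
    refine ⟨x, ?_⟩
    ext x'
    rw [Finset.mem_singleton, Finset.mem_bipartiteAbove]
    constructor
    · rintro ⟨hx', hc⟩
      exact huniq x' ⟨(Finset.mem_filter.mp hx').1, hc⟩
    · rintro rfl
      refine ⟨Finset.mem_filter.mpr ⟨hxX, ?_⟩, hx⟩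
      obtain ⟨c, hc⟩ := isConj_iff.mp hx
      rw [← hc, dsOrderOf_conj]
      exact hi.2
  have hR : ∀ x ∈ X.filter (fun x => orderOf x = 2 ^ k),
      ((Finset.univ.filter (fun i : ZMod (2 ^ (n - 1)) => orderOf (dRot e i) = 2 ^ k)).bipartiteBelow
        (fun i x => IsConj (dRot e i) x) x).card = 2 := by
    intro x hx
    rw [Finset.mem_filter] at hx
    obtain ⟨hxX, hxo⟩ := hx
    rcases mem_cases e (hXP x hxX) with ⟨i₀, rfl⟩ | ⟨i₀, rfl⟩
    · obtain ⟨hi₀, hi₀'⟩ := dsRot_order_ge_four P e hk2 hxo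
      have hne : i₀ ≠ -i₀ := by
        intro h
        apply hi₀'
        nth_rewrite 1 [h]
        exact neg_add_cancel i₀
      rw [Finset.card_eq_two]
      refine ⟨i₀, -i₀, hne, ?_⟩
      ext i
      rw [Finset.mem_bipartiteBelow, Finset.mem_insert, Finset.mem_singleton]
      constructor
      · rintro ⟨hiI, hc⟩
        obtain ⟨c, hc⟩ := isConj_iff.mp hc
        have hi0 : i ≠ 0 := (dsRot_order_ge_four P e hk2 (Finset.mem_filter.mp hiI).2).1
        rcases dsFusion hn P e f hf hi0 c i₀ hc with h | h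
        · left; exact h.symm
        · right; rw [h, neg_neg]
      · rintro (rfl | rfl)
        · exact ⟨Finset.mem_filter.mpr ⟨Finset.mem_univ _, hxo⟩, IsConj.refl _⟩
        · refine ⟨Finset.mem_filter.mpr ⟨Finset.mem_univ _, ?_⟩, ?_⟩
          · rw [← dRot_inv, orderOf_inv]
            exact hxo
          · rw [isConj_iff]
            refine ⟨dRef e 0, ?_⟩
            rw [dRef_inv, dRef_mul_dRot, dRef_mul_dRef]
            congr 1
            ring
    · rw [orderOf_dRef] at hxo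
      exfalso
      have h6 : 2 ^ 2 ≤ 2 ^ k := Nat.pow_le_pow_right (by norm_num) hk2
      omega
  rw [Finset.sum_congr rfl hL, Finset.sum_congr rfl hR] at hdc
  simp only [Finset.sum_const, smul_eq_mul, mul_one] at hdc
  rw [hdc]

include hn hf hodd in
/-- The number of elements whose order has `2`-part exactly `2^k ≥ 4`. -/
theorem dsCardLvl (k : ℕ) (hk2 : 2 ≤ k) (hk : k ≤ n - 1) :
    Nat.card {g : G // dsLvl k g} * 2 ^ (n + 1 - k) = Nat.card G := by
  classical
  obtain ⟨X, hJX, hXP, hX, hXrep⟩ := dsReps P (dsJ n e) (dsJ_mem e)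
  have h1 := dsLvlSum X hX hXrep k
  have h2 : ∀ x ∈ X.filter (fun x => orderOf x = 2 ^ k),
      (Nat.card (Subgroup.centralizer ({x} : Set G)) : ℂ)⁻¹ *
        (Nat.card {y : ↥(Subgroup.centralizer ({x} : Set G)) // ¬ 2 ∣ orderOf y} : ℂ)
          = ((2 : ℂ) ^ (n - 1))⁻¹ := by
    intro x hx
    rw [Finset.mem_filter] at hx
    obtain ⟨hxX, hxo⟩ := hx
    rcases mem_cases e (hXP x hxX) with ⟨i₀, rfl⟩ | ⟨i₀, rfl⟩
    · obtain ⟨hi₀, hi₀'⟩ := dsRot_order_ge_four P e hk2 hxo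
      have h3 := dsOddCount hn P e f hf hodd hi₀
      rw [if_neg hi₀'] at h3
      have hpos : (Nat.card {y : ↥(Subgroup.centralizer ({dRot e i₀} : Set G)) //
          ¬ 2 ∣ orderOf y} : ℂ) ≠ 0 := by
        have : Nat.card {y : ↥(Subgroup.centralizer ({dRot e i₀} : Set G)) //
            ¬ 2 ∣ orderOf y} ≠ 0 := by
          intro h0
          rw [h0, zero_mul] at h3
          exact Nat.card_pos.ne' h3.symm
        exact_mod_cast this
      rw [← h3]
      push_cast
      field_simp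
    · rw [orderOf_dRef] at hxo
      exfalso
      have h6 : 2 ^ 2 ≤ 2 ^ k := Nat.pow_le_pow_right (by norm_num) hk2
      omega
  rw [Finset.sum_congr rfl h2, Finset.sum_const, nsmul_eq_mul] at h1
  have h3 := dsCardReps hn P e f hf X hXP hXrep k hk2 hk
  have h4 : (Nat.card {g : G // dsLvl k g} : ℂ) * 2 ^ (n + 1 - k) = (Nat.card G : ℂ) := by
    rw [h1]
    have h5 : ((X.filter (fun x => orderOf x = 2 ^ k)).card : ℂ) * 2 = 2 ^ (k - 1) := by
      exact_mod_cast h3
    have h6 : (2 : ℂ) ^ (n - 1) = 2 ^ (k - 1) * 2 ^ (n - k) := by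
      rw [← pow_add]
      congr 1
      omega
    have h7 : (2 : ℂ) ^ (n + 1 - k) = 2 * 2 ^ (n - k) := by
      rw [← pow_succ']
      congr 1
      omega
    rw [h6, h7, ← h5]
    have h8 : ((X.filter (fun x => orderOf x = 2 ^ k)).card : ℂ) ≠ 0 := by
      intro h0
      rw [h0, zero_mul] at h5
      exact (pow_ne_zero _ (by norm_num : (2 : ℂ) ≠ 0)) h5.symm
    field_simp
  exact_mod_cast h4

include hn hf hodd in
/-- With one class of involutions: the number of elements whose order has `2`-part `2`. -/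
theorem dsCardLvlOne (hJ : ∀ y : G, orderOf y = 2 ↔ IsConj (dsJ n e) y) :
    Nat.card {g : G // dsLvl 1 g} * 2 ^ n = Nat.card G := by
  classical
  obtain ⟨X, hJX, hXP, hX, hXrep⟩ := dsReps P (dsJ n e) (dsJ_mem e)
  have h1 := dsLvlSum X hX hXrep 1
  have hX1 : X.filter (fun x => orderOf x = 2 ^ 1) = {dsJ n e} := by
    ext x
    rw [Finset.mem_filter, Finset.mem_singleton, pow_one]
    constructor
    · rintro ⟨hxX, hxo⟩
      have hc : IsConj x (dsJ n e) := ((hJ x).mp hxo).symm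
      obtain ⟨u, -, huniq⟩ := hXrep x ⟨1, by rw [hxo, pow_one]⟩
      rw [huniq x ⟨hxX, IsConj.refl x⟩, huniq (dsJ n e) ⟨hJX, hc⟩]
    · rintro rfl
      exact ⟨hJX, orderOf_dsJ e (by omega)⟩
  rw [hX1, Finset.sum_singleton] at h1
  have h3 := dsOddCount hn P e f hf hodd (dsHalf_ne_zero (n := n) (by omega))
  rw [if_pos (dsHalf_add_self (by omega))] at h3
  change Nat.card {y : ↥(Subgroup.centralizer ({dsJ n e} : Set G)) // ¬ 2 ∣ orderOf y} * 2 ^ n
    = Nat.card ↥(Subgroup.centralizer ({dsJ n e} : Set G)) at h3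
  have hpos : (Nat.card {y : ↥(Subgroup.centralizer ({dsJ n e} : Set G)) //
      ¬ 2 ∣ orderOf y} : ℂ) ≠ 0 := by
    have : Nat.card {y : ↥(Subgroup.centralizer ({dsJ n e} : Set G)) // ¬ 2 ∣ orderOf y} ≠ 0 := by
      intro h0
      rw [h0, zero_mul] at h3
      exact Nat.card_pos.ne' h3.symm
    exact_mod_cast this
  have h4 : (Nat.card {g : G // dsLvl 1 g} : ℂ) * 2 ^ n = (Nat.card G : ℂ) := by
    rw [h1, ← h3]
    push_cast
    field_simp
  exact_mod_cast h4

end ctx

end Cfsg.Agent.Helper21.DihOrd
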