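import Mathlib
import Cfsg.Agent.Helper21.DihOrdE
import Cfsg.Agent.Helper21.DihOrdF
import Cfsg.Agent.S0942
import Cfsg.Agent.Helper16.PPart
import Cfsg.Agent.Helper81.CharBasic

/-!
# Dihedral Sylow 2-subgroups: principal block characters on 2-singular elements, and sums
against `η` (helper21)
-/

set_option autoImplicit false

namespace Cfsg.Agent.Helper21.DihOrd

open DihedralGroup Cfsg.Agent.Helper55

section ctx

variable {G : Type*} [Group G] [Finite G] {n : ℕ} (hn : 3 ≤ n) (P : Sylow 2 G)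
  (e : ↥(P : Subgroup G) ≃* DihedralGroup (2 ^ (n - 1)))
  (f : ↥(Subgroup.centralizer ({dsJ n e} : Set G)) →* DihedralGroup (2 ^ (n - 1)))
  (hf : ∀ (p : G) (hp : p ∈ (P : Subgroup G))
    (hc : p ∈ Subgroup.centralizer ({dsJ n e} : Set G)), f ⟨p, hc⟩ = e ⟨p, hp⟩)
  (hodd : Odd (Nat.card f.ker))

include hn hf hodd in
/-- A character of the principal `2`-block which is constant on the nontrivial rotations takes
the same constant value on all elements of even order. -/
theorem dsChi_const (hJ : ∀ y : G, orderOf y = 2 ↔ IsConj (dsJ n e) y)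
    (M : Ideal Cfsg.AlgInt) (hM : Cfsg.IsPModular 2 M) (χ : Cfsg.IrrCharacter G)
    (hχ : χ ∈ Cfsg.principalBlock M G) (δ : ℂ)
    (hval : ∀ i : ZMod (2 ^ (n - 1)), i ≠ 0 → (χ : G → ℂ) (dRot e i) = δ)
    (g : G) (hg : 2 ∣ orderOf g) : (χ : G → ℂ) g = δ := by
  have : Fact (Nat.Prime 2) := ⟨Nat.prime_two⟩
  have hn2 : 2 ≤ n := by omega
  obtain ⟨u, y, huy, hcomm, ⟨a, ha⟩, hy⟩ := Cfsg.Agent.Helper16.exists_isPPart 2 g (orderOf_pos g)
  have hu1 : u ≠ 1 := by
    rintro rfl
    rw [one_mul] at huy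
    rw [← huy] at hg
    exact hy hg
  have hrot : ∃ (c : G) (i : ZMod (2 ^ (n - 1))), i ≠ 0 ∧ c * u * c⁻¹ = dRot e i := by
    obtain ⟨c, hc⟩ := dsConjP P u ⟨a, ha⟩
    rcases mem_cases e hc with ⟨j, hj⟩ | ⟨i, hi⟩
    · refine ⟨c, j, ?_, hj⟩
      rintro rfl
      rw [dRot_zero] at hj
      apply hu1
      calc u = c⁻¹ * (c * u * c⁻¹) * c := by group
        _ = 1 := by rw [hj]; group
    · have ho : orderOf u = 2 := by
        rw [← dsOrderOf_conj u c, hi, orderOf_dRef]
      obtain ⟨c', hc'⟩ := isConj_iff.mp ((hJ u).mp ho)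
      refine ⟨c'⁻¹, _, dsHalf_ne_zero hn2, ?_⟩
      rw [← hc']
      show c'⁻¹ * (c' * dsJ n e * c'⁻¹) * c'⁻¹⁻¹ = dsJ n e
      group
  obtain ⟨c, i, hi, hci⟩ := hrot
  have h1 : (χ : G → ℂ) g = (χ : G → ℂ) (dRot e i * (c * y * c⁻¹)) := by
    rw [← Cfsg.Agent.Helper81.irr_conj χ g c, ← huy, ← hci]
    group
  rw [h1]
  have hyC : c * y * c⁻¹ ∈ Subgroup.centralizer ({dRot e i} : Set G) := by
    rw [Subgroup.mem_centralizer_iff]
    intro h hh
    rw [Set.mem_singleton_iff] at hh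
    subst hh
    rw [← hci]
    have h2 := hcomm.eq
    calc c * u * c⁻¹ * (c * y * c⁻¹) = c * (u * y) * c⁻¹ := by group
      _ = c * (y * u) * c⁻¹ := by rw [h2]
      _ = c * y * c⁻¹ * (c * u * c⁻¹) := by group
  have hyo : ¬ 2 ∣ orderOf (c * y * c⁻¹) := by
    rw [dsOrderOf_conj]
    exact hy
  have hcore := dsOddCore hn P e f hf hodd hi hyC hyo
  have hu2 : ∃ k : ℕ, orderOf (dRot e i) = 2 ^ k := ⟨a, by rw [← hci, dsOrderOf_conj, ha]⟩
  rw [Cfsg.Agent.S0942.result 2 M hM (dRot e i) hu2 _ hcore χ hχ]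
  exact hval i hi

omit [Finite G] in
/-- The sum of `η` against a function constant on the two top levels. -/
theorem dsSumEta [Fintype G] (hn : 3 ≤ n) (δ : ℂ) (F : G → ℂ) (a b : ℂ)
    (ha : ∀ g, dsLvl (n - 1) g → F g = a) (hb : ∀ g, dsLvl (n - 2) g → F g = b) :
    ∑ g : G, dsEta n δ g * F g = -2 * δ * a * (Nat.card {g : G // dsLvl (n - 1) g} : ℂ) +
      -4 * δ * b * (Nat.card {g : G // dsLvl (n - 2) g} : ℂ) := by
  classical
  have h1 : ∀ g : G, dsEta n δ g * F g = (if dsLvl (n - 1) g then -2 * δ * a else 0) +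
      (if dsLvl (n - 2) g then -4 * δ * b else 0) := by
    intro g
    unfold dsEta
    by_cases h : dsLvl (n - 1) g
    · have h' : ¬ dsLvl (n - 2) g := by
        intro h2
        apply h2.2
        have e1 : n - 2 + 1 = n - 1 := by omega
        rw [e1]
        exact h.1
      rw [if_pos h, if_pos h, if_neg h', ha g h]
      ring
    · rw [if_neg h, if_neg h]
      by_cases h2 : dsLvl (n - 2) g
      · rw [if_pos h2, if_pos h2, hb g h2]
        ring
      · rw [if_neg h2, if_neg h2]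
        ring
  rw [Finset.sum_congr rfl (fun g _ => h1 g), Finset.sum_add_distrib]
  congr 1
  · rw [← Finset.sum_filter, Finset.sum_const, nsmul_eq_mul, Nat.card_eq_fintype_card,
      Fintype.card_subtype]
    ring
  · rw [← Finset.sum_filter, Finset.sum_const, nsmul_eq_mul, Nat.card_eq_fintype_card,
      Fintype.card_subtype]
    ring

omit [Finite G] in
include hn hf hodd in
/-- The sum of `η` against a function constant on the two top levels, evaluated. -/
theorem dsSumEta_eval [Fintype G] (hJ : ∀ y : G, orderOf y = 2 ↔ IsConj (dsJ n e) y)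
    (δ : ℂ) (F : G → ℂ) (a b : ℂ)
    (ha : ∀ g, dsLvl (n - 1) g → F g = a) (hb : ∀ g, dsLvl (n - 2) g → F g = b) :
    ∑ g : G, dsEta n δ g * F g = -(δ * (a + b) * (Nat.card G : ℂ)) / 2 := by
  rw [dsSumEta hn δ F a b ha hb]
  have hA : (Nat.card {g : G // dsLvl (n - 1) g} : ℂ) * 4 = (Nat.card G : ℂ) := by
    have h := dsCardLvl hn P e f hf hodd (n - 1) (by omega) le_rfl
    have e1 : n + 1 - (n - 1) = 2 := by omega
    rw [e1] at h
    exact_mod_cast h
  have hB : (Nat.card {g : G // dsLvl (n - 2) g} : ℂ) * 8 = (Nat.card G : ℂ) := by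
    by_cases h3 : n = 3
    · subst h3
      have h := dsCardLvlOne (by norm_num) P e f hf hodd hJ
      exact_mod_cast h
    · have h := dsCardLvl hn P e f hf hodd (n - 2) (by omega) (by omega)
      have e1 : n + 1 - (n - 2) = 3 := by omega
      rw [e1] at h
      exact_mod_cast h
  rw [← hA]
  have hB' : (Nat.card {g : G // dsLvl (n - 2) g} : ℂ) * 8 =
      (Nat.card {g : G // dsLvl (n - 1) g} : ℂ) * 4 := by rw [hB, hA]
  linear_combination (-δ * b / 2) * hB'

end ctx

end Cfsg.Agent.Helper21.DihOrd
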