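import Mathlib
import Cfsg.Agent.Helper21.DihOrdI
import Cfsg.Agent.Helper21.DihOrdK
import Cfsg.Agent.Helper21.DihOrdL
import Cfsg.Agent.Helper15.BrauerSuzuki
import Cfsg.Agent.Helper80.CharIrr
import Cfsg.Agent.Helper79.Basic

/-!
# Dihedral Sylow 2-subgroups: the irreducible character `ψ = η + χ₁ + δ₁` (helper21)
-/

set_option autoImplicit false

namespace Cfsg.Agent.Helper21.DihOrd

open DihedralGroup Cfsg.Agent.Helper55 Cfsg.Agent.Helper21.KF
open scoped ComplexConjugate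

section generic

variable {G : Type*} [Group G]

/-- The class function `ψ = η + χ + δ`. -/
noncomputable def dsPsi (n : ℕ) (d : ℤ) (χ : G → ℂ) (g : G) : ℂ :=
  dsEta n (d : ℂ) g + χ g + (d : ℂ)

theorem dsEta_star (n : ℕ) (d : ℤ) (g : G) : conj (dsEta n (d : ℂ) g) = dsEta n (d : ℂ) g := by
  unfold dsEta
  split_ifs
  · simp only [map_mul, map_neg, map_ofNat, map_intCast]
  · simp only [map_mul, map_neg, map_ofNat, map_intCast]
  · exact map_zero _

theorem dsEta_top {n : ℕ} (δ : ℂ) {g : G} (h : dsLvl (n - 1) g) : dsEta n δ g = -2 * δ := by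
  classical
  unfold dsEta
  rw [if_pos h]

theorem dsEta_sub {n : ℕ} (hn : 3 ≤ n) (δ : ℂ) {g : G} (h : dsLvl (n - 2) g) :
    dsEta n δ g = -4 * δ := by
  classical
  unfold dsEta
  have h' : ¬ dsLvl (n - 1) g := by
    intro h2
    apply h.2
    have e1 : n - 2 + 1 = n - 1 := by omega
    rw [e1]
    exact h2.1
  rw [if_neg h', if_pos h]

theorem dsEta_of_pow_two {n : ℕ} (δ : ℂ) {g : G} {a : ℕ} (hg : orderOf g = 2 ^ a) :
    dsEta n δ g = if a = n - 1 then -2 * δ else if a = n - 2 then -4 * δ else 0 := by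
  classical
  unfold dsEta
  rw [if_congr (dsLvl_pow_two hg (n - 1)) rfl (if_congr (dsLvl_pow_two hg (n - 2)) rfl rfl)]

theorem dsEta_one {n : ℕ} (hn : 3 ≤ n) (δ : ℂ) : dsEta n δ (1 : G) = 0 := by
  have h : orderOf (1 : G) = 2 ^ 0 := by rw [orderOf_one, pow_zero]
  rw [dsEta_of_pow_two δ h, if_neg (by omega), if_neg (by omega)]

end generic

section ctx

variable {G : Type*} [Group G] [Fintype G] {n : ℕ} (hn : 3 ≤ n) (P : Sylow 2 G)
  (e : ↥(P : Subgroup G) ≃* DihedralGroup (2 ^ (n - 1)))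
  (f : ↥(Subgroup.centralizer ({dsJ n e} : Set G)) →* DihedralGroup (2 ^ (n - 1)))
  (hf : ∀ (p : G) (hp : p ∈ (P : Subgroup G))
    (hc : p ∈ Subgroup.centralizer ({dsJ n e} : Set G)), f ⟨p, hc⟩ = e ⟨p, hp⟩)
  (hodd : Odd (Nat.card f.ker))
  (hJ : ∀ y : G, orderOf y = 2 ↔ IsConj (dsJ n e) y)
  (M : Ideal Cfsg.AlgInt) (hM : Cfsg.IsPModular 2 M) (χ₁ : Cfsg.IrrCharacter G)
  (hχ₁ : χ₁ ∈ Cfsg.principalBlock M G) (h1 : (χ₁ : G → ℂ) ≠ (fun _ => 1))
  (d : ℤ) (hd : d = 1 ∨ d = -1)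
  (hval : ∀ i : ZMod (2 ^ (n - 1)), i ≠ 0 → (χ₁ : G → ℂ) (dRot e i) = (d : ℂ))

omit [Fintype G] in
include hn in
theorem dsEta_J (δ : ℂ) : dsEta n δ (dsJ n e) = if n = 3 then -4 * δ else 0 := by
  have h : orderOf (dsJ n e) = 2 ^ 1 := by rw [pow_one, orderOf_dsJ e (by omega)]
  rw [dsEta_of_pow_two δ h, if_neg (by omega)]
  by_cases h3 : n = 3
  · rw [if_pos (by omega), if_pos h3]
  · rw [if_neg (by omega), if_neg h3]

include hn hf hodd hJ hM hχ₁ h1 hd hval in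
/-- `ψ` has norm one. -/
theorem dsPsi_norm : Cfsg.classInner (dsPsi n d (χ₁ : G → ℂ)) (dsPsi n d (χ₁ : G → ℂ)) = 1 := by
  have hδ2 : (d : ℂ) * (d : ℂ) = 1 := by
    rcases hd with rfl | rfl <;> norm_num
  have hconst := dsChi_const hn P e f hf hodd hJ M hM χ₁ hχ₁ (d : ℂ) hval
  have hev1 : ∀ g : G, dsLvl (n - 1) g → 2 ∣ orderOf g :=
    fun g h => (dvd_pow_self 2 (by omega)).trans h.1
  have hev2 : ∀ g : G, dsLvl (n - 2) g → 2 ∣ orderOf g :=
    fun g h => (dvd_pow_self 2 (by omega)).trans h.1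
  have hN : (Nat.card G : ℂ) ≠ 0 := by exact_mod_cast Nat.card_pos.ne'
  have S1 : ∑ g : G, dsEta n (d : ℂ) g * dsEta n (d : ℂ) g = 3 * (Nat.card G : ℂ) := by
    rw [dsSumEta_eval hn P e f hf hodd hJ (d : ℂ) (dsEta n (d : ℂ)) (-2 * d) (-4 * d)
      (fun g h => dsEta_top _ h) (fun g h => dsEta_sub hn _ h)]
    linear_combination (3 * (Nat.card G : ℂ)) * hδ2
  have S2 : ∑ g : G, dsEta n (d : ℂ) g * conj ((χ₁ : G → ℂ) g) = -(Nat.card G : ℂ) := by
    rw [dsSumEta_eval hn P e f hf hodd hJ (d : ℂ) (fun g => conj ((χ₁ : G → ℂ) g)) d d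
      (fun g h => by rw [hconst g (hev1 g h), map_intCast])
      (fun g h => by rw [hconst g (hev2 g h), map_intCast])]
    linear_combination (-(Nat.card G : ℂ)) * hδ2
  have S3 : ∑ g : G, dsEta n (d : ℂ) g * (χ₁ : G → ℂ) g = -(Nat.card G : ℂ) := by
    rw [dsSumEta_eval hn P e f hf hodd hJ (d : ℂ) (fun g => (χ₁ : G → ℂ) g) d d
      (fun g h => hconst g (hev1 g h)) (fun g h => hconst g (hev2 g h))]
    linear_combination (-(Nat.card G : ℂ)) * hδ2
  have S4 : ∑ g : G, dsEta n (d : ℂ) g * 1 = -((d : ℂ) * (Nat.card G : ℂ)) := by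
    rw [dsSumEta_eval hn P e f hf hodd hJ (d : ℂ) (fun _ => (1 : ℂ)) 1 1
      (fun g h => rfl) (fun g h => rfl)]
    ring
  have S5 : ∑ g : G, (χ₁ : G → ℂ) g * conj ((χ₁ : G → ℂ) g) = (Nat.card G : ℂ) := by
    rw [Cfsg.Agent.Helper80.irr_orthogonality_conj χ₁ χ₁, if_pos rfl, Nat.card_eq_fintype_card]
  have S6 : ∑ g : G, (χ₁ : G → ℂ) g = 0 := by
    have h := Cfsg.Agent.Helper80.irr_orthogonality_conj χ₁ (Cfsg.Agent.Helper79.trivIrr G)
    have hne : χ₁ ≠ Cfsg.Agent.Helper79.trivIrr G := by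
      intro h'
      apply h1
      rw [h']
      rfl
    rw [if_neg hne] at h
    simpa using h
  have S7 : ∑ g : G, conj ((χ₁ : G → ℂ) g) = 0 := by
    rw [← map_sum, S6, map_zero]
  have hpt : ∀ g : G, dsPsi n d (χ₁ : G → ℂ) g * conj (dsPsi n d (χ₁ : G → ℂ) g) =
      dsEta n (d : ℂ) g * dsEta n (d : ℂ) g + dsEta n (d : ℂ) g * conj ((χ₁ : G → ℂ) g) +
        dsEta n (d : ℂ) g * (χ₁ : G → ℂ) g + (2 * (d : ℂ)) * (dsEta n (d : ℂ) g * 1) +
        (χ₁ : G → ℂ) g * conj ((χ₁ : G → ℂ) g) + (d : ℂ) * (χ₁ : G → ℂ) g +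
        (d : ℂ) * conj ((χ₁ : G → ℂ) g) + (d : ℂ) * (d : ℂ) := by
    intro g
    unfold dsPsi
    rw [map_add, map_add, dsEta_star, map_intCast]
    ring
  unfold Cfsg.classInner
  rw [Finset.sum_congr rfl (fun g _ => hpt g)]
  simp only [Finset.sum_add_distrib, ← Finset.mul_sum]
  rw [S1, S2, S3, S4, S5, S6, S7, Finset.sum_const, Finset.card_univ, nsmul_eq_mul,
    ← Nat.card_eq_fintype_card, inv_mul_eq_iff_eq_mul₀ hN]
  linear_combination (-(Nat.card G : ℂ)) * hδ2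

include hn hval hd in
omit [Fintype G] in
/-- The degree of `ψ` is positive. -/
theorem dsDeg_add_pos [Finite G] : (0 : ℤ) < (Cfsg.charDegree (χ₁ : G → ℂ) : ℤ) + d := by
  have hpos := Cfsg.Agent.Helper80.irr_degree_pos χ₁
  rcases hd with rfl | rfl
  · omega
  · by_contra hcon
    have hx : Cfsg.charDegree (χ₁ : G → ℂ) = 1 := by omega
    have hone : (χ₁ : G → ℂ) 1 = 1 := by
      rw [Cfsg.Agent.Helper80.irr_one_eq, hx]
      norm_num
    obtain ⟨φ, hφ⟩ := Cfsg.Agent.Helper79.isCharacter_linear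
      (Cfsg.Agent.Helper79.irr_isCharacter χ₁) hone
    have h2m : ((2 : ℕ) : ZMod (2 ^ (n - 1))) ≠ 0 := by
      intro h
      rw [ZMod.natCast_eq_zero_iff] at h
      have h4 : 2 ^ 2 ≤ 2 ^ (n - 1) := Nat.pow_le_pow_right (by norm_num) (by omega)
      have := Nat.le_of_dvd (by norm_num) h
      omega
    have h1m : (1 : ZMod (2 ^ (n - 1))) ≠ 0 := by
      intro h
      apply h2m
      have : ((2 : ℕ) : ZMod (2 ^ (n - 1))) = 1 + 1 := by norm_num
      rw [this, h, add_zero]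
    have hv1 := hval 1 h1m
    have hv2 := hval ((2 : ℕ) : ZMod (2 ^ (n - 1))) h2m
    have e2 : dRot e ((2 : ℕ) : ZMod (2 ^ (n - 1))) = dRot e 1 * dRot e 1 := by
      rw [dRot_mul_dRot]
      congr 1
      norm_num
    rw [e2, hφ, map_mul, Units.val_mul, ← hφ, hv1] at hv2
    norm_num at hv2

include hn hf hodd hJ hM hχ₁ h1 hd hval in
/-- `ψ` is an irreducible character. -/
theorem dsPsi_irr : Cfsg.IsIrrCharacter G (dsPsi n d (χ₁ : G → ℂ)) := by
  have hmem : dsPsi n d (χ₁ : G → ℂ) ∈ Cfsg.Agent.Helper73.genSpanZ G := by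
    have e1 : dsPsi n d (χ₁ : G → ℂ) = (fun g : G => dsEta n (d : ℂ) g) + (χ₁ : G → ℂ) +
        d • (fun _ : G => (1 : ℂ)) := by
      funext g
      simp [dsPsi]
    rw [e1]
    exact Submodule.add_mem _ (Submodule.add_mem _ (dsEta_genSpanZ hn P e d)
      (Cfsg.Agent.Helper73.isCharacter_mem_genSpanZ (Cfsg.Agent.Helper79.irr_isCharacter χ₁)))
      (Submodule.smul_mem _ d
        (Cfsg.Agent.Helper73.isCharacter_mem_genSpanZ Cfsg.Agent.Helper79.isCharacter_one))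
  refine Cfsg.Agent.Helper15.isIrr_of_genSpanZ_inner_one hmem
    (dsPsi_norm hn P e f hf hodd hJ M hM χ₁ hχ₁ h1 d hd hval) ?_
  have hpos := dsDeg_add_pos hn P e χ₁ d hd hval
  have e2 : dsPsi n d (χ₁ : G → ℂ) 1 =
      (((Cfsg.charDegree (χ₁ : G → ℂ) : ℤ) + d : ℤ) : ℂ) := by
    unfold dsPsi
    rw [dsEta_one hn, Cfsg.Agent.Helper80.irr_one_eq]
    push_cast
    ring
  rw [e2, Complex.intCast_re]
  exact_mod_cast hpos

end ctx

end Cfsg.Agent.Helper21.DihOrd
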