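import Mathlib
import Cfsg.Agent.Helper21.DihOrdM

/-!
# Dihedral Sylow 2-subgroups: Brauer's order formula (helper21)
-/

set_option autoImplicit false

namespace Cfsg.Agent.Helper21.DihOrd

open DihedralGroup Cfsg.Agent.Helper55 Cfsg.Agent.Helper21.KF
open scoped ComplexConjugate

section ctx

variable {G : Type*} [Group G] [Fintype G] {n : ℕ} (hn : 3 ≤ n) (P : Sylow 2 G)
  (e : ↥(P : Subgroup G) ≃* DihedralGroup (2 ^ (n - 1)))
  (f : ↥(Subgroup.centralizer ({dsJ n e} : Set G)) →* DihedralGroup (2 ^ (n - 1)))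
  (hf : ∀ (p : G) (hp : p ∈ (P : Subgroup G))
    (hc : p ∈ Subgroup.centralizer ({dsJ n e} : Set G)), f ⟨p, hc⟩ = e ⟨p, hp⟩)
  (hodd : Odd (Nat.card f.ker))
  (hJ : ∀ y : G, orderOf y = 2 ↔ IsConj (dsJ n e) y)
  (M : Ideal Cfsg.AlgInt) (hM : Cfsg.IsPModular 2 M) (χ₁ : Cfsg.IrrCharacter G)
  (hχ₁ : χ₁ ∈ Cfsg.principalBlock M G) (h1 : (χ₁ : G → ℂ) ≠ (fun _ => 1))
  (d : ℤ) (hd : d = 1 ∨ d = -1)
  (hval : ∀ i : ZMod (2 ^ (n - 1)), i ≠ 0 → (χ₁ : G → ℂ) (dRot e i) = (d : ℂ))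

include hJ in
omit [Fintype G] in
theorem dsCard_invF [Fintype G] :
    ((invF G).card : ℂ) = ((Subgroup.centralizer ({dsJ n e} : Set G)).index : ℂ) := by
  have h : invF G = Cfsg.Agent.Helper81.classFinset (dsJ n e) := by
    ext y
    rw [mem_invF, Cfsg.Agent.Helper81.mem_classFinset, hJ]
  rw [h, Cfsg.Agent.Helper81.card_classFinset]

include hJ in
/-- The class algebra formula for the sum of an irreducible character over products of two
involutions. -/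
theorem dsSumInvPair (χ : Cfsg.IrrCharacter G) :
    ∑ s ∈ invF G, ∑ t ∈ invF G, (χ : G → ℂ) (s * t) =
      ((invF G).card : ℂ) * (χ : G → ℂ) (dsJ n e) / (χ : G → ℂ) 1 *
        (((invF G).card : ℂ) * (χ : G → ℂ) (dsJ n e)) := by
  have hT : ∑ s ∈ invF G, ∑ r ∈ invF G, (χ : G → ℂ) (s * r)⁻¹ =
      ∑ s ∈ invF G, ∑ t ∈ invF G, (χ : G → ℂ) (s * t) := by
    rw [Finset.sum_comm]
    refine Finset.sum_congr rfl fun r hr => Finset.sum_congr rfl fun s hs => ?_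
    rw [mul_inv_rev, inv_eq_self_of_mem_invF hr, inv_eq_self_of_mem_invF hs]
  rw [← hT, sum_inv_pair χ (dsJ n e) hJ]
  unfold Cfsg.centralChar
  rw [← dsCard_invF P e hJ]

include hn hf hodd hJ hM hχ₁ h1 hd hval in
/-- The key equation, in terms of the number of involutions and the number of involutions of
`C(J)` other than `J`. -/
theorem dsKeyEq :
    ((invF G).card : ℂ) * ((Cfsg.charDegree (χ₁ : G → ℂ) : ℂ) - (d : ℂ)) ^ 2 =
      2 * (Cfsg.charDegree (χ₁ : G → ℂ) : ℂ) * ((Cfsg.charDegree (χ₁ : G → ℂ) : ℂ) + (d : ℂ)) *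
        ((dsR (dsJ n e)).card : ℂ) ^ 2 := by
  have hn2 : 2 ≤ n := by omega
  have hδ2 : (d : ℂ) * (d : ℂ) = 1 := by
    rcases hd with rfl | rfl <;> norm_num
  have hx1 : (χ₁ : G → ℂ) 1 = (Cfsg.charDegree (χ₁ : G → ℂ) : ℂ) :=
    Cfsg.Agent.Helper80.irr_one_eq χ₁
  have hxpos : (Cfsg.charDegree (χ₁ : G → ℂ) : ℂ) ≠ 0 := by
    exact_mod_cast (Cfsg.Agent.Helper80.irr_degree_pos χ₁).ne'
  have hxd : (Cfsg.charDegree (χ₁ : G → ℂ) : ℂ) + (d : ℂ) ≠ 0 := by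
    have h := dsDeg_add_pos hn P e χ₁ d hd hval
    have h' : (((Cfsg.charDegree (χ₁ : G → ℂ) : ℤ) + d : ℤ) : ℂ) ≠ 0 := by
      exact_mod_cast h.ne'
    intro h0
    apply h'
    push_cast
    exact h0
  have hN0 : ((invF G).card : ℂ) ≠ 0 := by
    have : dsJ n e ∈ invF G := mem_invF.mpr (orderOf_dsJ e hn2)
    exact_mod_cast (Finset.card_pos.mpr ⟨_, this⟩).ne'
  have hχJ : (χ₁ : G → ℂ) (dsJ n e) = (d : ℂ) := hval _ (dsHalf_ne_zero hn2)
  have hψirr := dsPsi_irr hn P e f hf hodd hJ M hM χ₁ hχ₁ h1 d hd hval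
  have hΨ := dsSumInvPair P e hJ ⟨dsPsi n d (χ₁ : G → ℂ), hψirr⟩
  have hχ := dsSumInvPair P e hJ χ₁
  rw [hχJ, hx1] at hχ
  have hψ1 : dsPsi n d (χ₁ : G → ℂ) 1 = (Cfsg.charDegree (χ₁ : G → ℂ) : ℂ) + (d : ℂ) := by
    unfold dsPsi
    rw [dsEta_one hn, hx1]
    ring
  have hψJ2 : dsPsi n d (χ₁ : G → ℂ) (dsJ n e) * dsPsi n d (χ₁ : G → ℂ) (dsJ n e) = 4 := by
    unfold dsPsi
    rw [dsEta_J hn P e, hχJ]
    split_ifs
    · linear_combination (4 : ℂ) * hδ2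
    · linear_combination (4 : ℂ) * hδ2
  have hsplit : ∑ s ∈ invF G, ∑ t ∈ invF G, dsPsi n d (χ₁ : G → ℂ) (s * t) =
      ∑ s ∈ invF G, ∑ t ∈ invF G, dsEta n (d : ℂ) (s * t) +
        ∑ s ∈ invF G, ∑ t ∈ invF G, (χ₁ : G → ℂ) (s * t) +
        ((invF G).card : ℂ) * (((invF G).card : ℂ) * (d : ℂ)) := by
    unfold dsPsi
    simp only [Finset.sum_add_distrib, Finset.sum_const, nsmul_eq_mul]
  have hη : ∑ s ∈ invF G, ∑ t ∈ invF G, dsEta n (d : ℂ) (s * t) =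
      ((invF G).card : ℂ) * (-2 * (d : ℂ) * ((dsR (dsJ n e)).card : ℂ) ^ 2) := by
    rw [dsPartition hn P e f hf hodd hJ (d : ℂ), dsSumR hn P e f hf hodd (d : ℂ)]
  have hΨ' : ∑ s ∈ invF G, ∑ t ∈ invF G, dsPsi n d (χ₁ : G → ℂ) (s * t) =
      ((invF G).card : ℂ) * dsPsi n d (χ₁ : G → ℂ) (dsJ n e) /
        ((Cfsg.charDegree (χ₁ : G → ℂ) : ℂ) + (d : ℂ)) *
        (((invF G).card : ℂ) * dsPsi n d (χ₁ : G → ℂ) (dsJ n e)) := by
    rw [← hψ1]
    exact hΨ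
  rw [hsplit, hη, hχ] at hΨ'
  -- abbreviations
  generalize ((invF G).card : ℂ) = N at *
  generalize (Cfsg.charDegree (χ₁ : G → ℂ) : ℂ) = x at *
  generalize ((dsR (dsJ n e)).card : ℂ) = m at *
  generalize dsPsi n d (χ₁ : G → ℂ) (dsJ n e) = ψJ at *
  generalize (d : ℂ) = δ at *
  have E'' : N * N * 4 * x = (N * (-2 * δ * m ^ 2) + N * (N * δ)) * (x * (x + δ)) +
      N * δ * (N * δ) * (x + δ) := by
    have e1 : N * N * 4 * x = (N * ψJ / (x + δ) * (N * ψJ)) * (x * (x + δ)) := by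
      have e0 : N * ψJ / (x + δ) * (N * ψJ) * (x * (x + δ)) =
          N * ψJ * (N * ψJ) * x * ((x + δ) / (x + δ)) := by ring
      rw [e0, div_self hxd, mul_one]
      linear_combination (-(N * N * x)) * hψJ2
    have h3 : N * δ / x * (N * δ) * (x * (x + δ)) = N * δ * (N * δ) * (x + δ) := by
      have e0 : N * δ / x * (N * δ) * (x * (x + δ)) = N * δ * (N * δ) * (x + δ) * (x / x) := by
        ring
      rw [e0, div_self hxpos, mul_one]
    rw [e1, ← hΨ']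
    linear_combination h3
  apply mul_left_cancel₀ hN0
  linear_combination (-δ) * E'' + (-N ^ 2 * x ^ 2 - 2 * N ^ 2 * x * δ - N ^ 2 * δ ^ 2 +
    2 * N * m ^ 2 * x ^ 2 + 2 * N * m ^ 2 * x * δ) * hδ2

end ctx

end Cfsg.Agent.Helper21.DihOrd

namespace Cfsg.Agent.Helper21.DihOrd

open DihedralGroup Cfsg.Agent.Helper55 Cfsg.Agent.Helper21.KF

/-- **Brauer's order formula** for groups with a dihedral Sylow `2`-subgroup and one class of
involutions, in terms of an identification of the Sylow subgroup with a dihedral group. -/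
theorem dsOrderFormula {G : Type*} [Group G] [Finite G] (M : Ideal Cfsg.AlgInt)
    (hM : Cfsg.IsPModular 2 M) (n : ℕ) (hn : 3 ≤ n) (P : Sylow 2 G)
    (e : ↥(P : Subgroup G) ≃* DihedralGroup (2 ^ (n - 1)))
    (h0 : IsConj (dsJ n e) (dRef e 0)) (h1' : IsConj (dsJ n e) (dRef e (-1)))
    (χ₁ : Cfsg.IrrCharacter G) (hχ₁ : χ₁ ∈ Cfsg.principalBlock M G)
    (h1 : (χ₁ : G → ℂ) ≠ (fun _ => 1)) (d : ℤ) (hd : d = 1 ∨ d = -1)
    (hval : ∀ i : ZMod (2 ^ (n - 1)), i ≠ 0 → (χ₁ : G → ℂ) (dRot e i) = (d : ℂ)) :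
    (Cfsg.charDegree (χ₁ : G → ℂ) : ℤ) ≠ d ∧
    (Nat.card G : ℚ) * ((Cfsg.charDegree (χ₁ : G → ℂ) : ℚ) - d) ^ 2 =
      2 * (Cfsg.charDegree (χ₁ : G → ℂ) : ℚ) * ((Cfsg.charDegree (χ₁ : G → ℂ) : ℚ) + d) *
        (Nat.card (Subgroup.centralizer ({dsJ n e} : Set G)) : ℚ) ^ 3 *
        (1 / (Nat.card (Subgroup.centralizer ({dsJ n e, dRef e 0} : Set G)) : ℚ) +
          1 / (Nat.card (Subgroup.centralizer ({dsJ n e, dRef e (-1)} : Set G)) : ℚ)) ^ 2 := by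
  classical
  letI := Fintype.ofFinite G
  have hJ := dsOneClass hn P e h0 h1'
  obtain ⟨f, hf, hodd⟩ := dsRetJ hn P e
  have key := dsKeyEq hn P e f hf hodd hJ M hM χ₁ hχ₁ h1 d hd hval
  have hR := dsCardR hn P e f hf
  have hidx := dsCard_invF P e hJ
  have hG : ((Subgroup.centralizer ({dsJ n e} : Set G)).index : ℚ) *
      (Nat.card ↥(Subgroup.centralizer ({dsJ n e} : Set G)) : ℚ) = (Nat.card G : ℚ) := by
    exact_mod_cast Subgroup.index_mul_card _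
  have keyQ : ((invF G).card : ℚ) * ((Cfsg.charDegree (χ₁ : G → ℂ) : ℚ) - d) ^ 2 =
      2 * (Cfsg.charDegree (χ₁ : G → ℂ) : ℚ) * ((Cfsg.charDegree (χ₁ : G → ℂ) : ℚ) + d) *
        ((dsR (dsJ n e)).card : ℚ) ^ 2 := by
    exact_mod_cast key
  have hidxQ : ((invF G).card : ℚ) =
      ((Subgroup.centralizer ({dsJ n e} : Set G)).index : ℚ) := by
    exact_mod_cast hidx
  have hform : (Nat.card G : ℚ) * ((Cfsg.charDegree (χ₁ : G → ℂ) : ℚ) - d) ^ 2 =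
      2 * (Cfsg.charDegree (χ₁ : G → ℂ) : ℚ) * ((Cfsg.charDegree (χ₁ : G → ℂ) : ℚ) + d) *
        (Nat.card (Subgroup.centralizer ({dsJ n e} : Set G)) : ℚ) ^ 3 *
        (1 / (Nat.card (Subgroup.centralizer ({dsJ n e, dRef e 0} : Set G)) : ℚ) +
          1 / (Nat.card (Subgroup.centralizer ({dsJ n e, dRef e (-1)} : Set G)) : ℚ)) ^ 2 := by
    rw [← hG, ← hidxQ]
    rw [hR] at keyQ
    linear_combination (Nat.card ↥(Subgroup.centralizer ({dsJ n e} : Set G)) : ℚ) * keyQ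
  refine ⟨?_, hform⟩
  intro hxd
  have hxq : (Cfsg.charDegree (χ₁ : G → ℂ) : ℚ) = d := by exact_mod_cast hxd
  rw [hxq, sub_self] at hform
  have hdpos : (0 : ℚ) < d := by
    rw [← hxq]
    exact_mod_cast Cfsg.Agent.Helper80.irr_degree_pos χ₁
  have hc : (0 : ℚ) < (Nat.card (Subgroup.centralizer ({dsJ n e} : Set G)) : ℚ) := by
    exact_mod_cast Nat.card_pos
  have hc1 : (0 : ℚ) < (Nat.card (Subgroup.centralizer ({dsJ n e, dRef e 0} : Set G)) : ℚ) := by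
    exact_mod_cast Nat.card_pos
  have hc2 : (0 : ℚ) <
      (Nat.card (Subgroup.centralizer ({dsJ n e, dRef e (-1)} : Set G)) : ℚ) := by
    exact_mod_cast Nat.card_pos
  have hpos : (0 : ℚ) < 2 * (d : ℚ) * ((d : ℚ) + d) *
      (Nat.card (Subgroup.centralizer ({dsJ n e} : Set G)) : ℚ) ^ 3 *
        (1 / (Nat.card (Subgroup.centralizer ({dsJ n e, dRef e 0} : Set G)) : ℚ) +
          1 / (Nat.card (Subgroup.centralizer ({dsJ n e, dRef e (-1)} : Set G)) : ℚ)) ^ 2 := by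
    positivity
  rw [zero_pow two_ne_zero, mul_zero] at hform
  linarith

end Cfsg.Agent.Helper21.DihOrd
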