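import Mathlib
import Cfsg.Agent.Helper21.DEightA
import Cfsg.Agent.Helper21.DEightB
import Cfsg.Agent.Helper21.DihOrdN
import Cfsg.Agent.Helper14.BSChar
import Cfsg.Agent.Helper78.Counting
import Cfsg.Agent.Helper80.CharOrtho
import Cfsg.Agent.Helper81.BlockDefect
import Cfsg.Agent.S0944

/-!
# Groups with an involution whose centralizer is dihedral of order 8 (helper21)

Part C: the character theory.  If the centralizer of the central involution `J` of a dihedral
Sylow `2`-subgroup `P` of order eight is `P` itself and all involutions are conjugate, then the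
group has order `168` or `360`.
-/

set_option autoImplicit false

namespace Cfsg.Agent.Helper21.DEight

open DihedralGroup Cfsg.Agent.Helper55 Cfsg.Agent.Helper21.DihOrd
open scoped ComplexConjugate

section three

variable {G : Type*} [Group G] [Fintype G]

/-- Column orthogonality restricted to the principal character and two further characters. -/
theorem deThree (g : G) (X Y : Cfsg.IrrCharacter G) (hXY : X ≠ Y)
    (hX : (X : G → ℂ) ≠ fun _ => 1) (hY : (Y : G → ℂ) ≠ fun _ => 1) (a b : ℤ)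
    (ha : (X : G → ℂ) g = a) (hb : (Y : G → ℂ) g = b) :
    1 + a ^ 2 + b ^ 2 ≤ (Nat.card (Subgroup.centralizer ({g} : Set G)) : ℤ) := by
  classical
  let _ : Fintype (Cfsg.IrrCharacter G) := Fintype.ofFinite _
  have h := Cfsg.Agent.Helper80.irr_column_orthogonality_of_isConj (IsConj.refl g)
  have h2 : ∑ χ : Cfsg.IrrCharacter G, Complex.normSq ((χ : G → ℂ) g) =
      (Nat.card (Subgroup.centralizer ({g} : Set G)) : ℝ) := by
    have h3 : ((∑ χ : Cfsg.IrrCharacter G, Complex.normSq ((χ : G → ℂ) g) : ℝ) : ℂ) =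
        ((Nat.card (Subgroup.centralizer ({g} : Set G)) : ℝ) : ℂ) := by
      rw [Complex.ofReal_sum, Complex.ofReal_natCast, ← h]
      apply Finset.sum_congr rfl
      intro χ _
      rw [Complex.mul_conj]
    exact_mod_cast h3
  set T := Cfsg.Agent.Helper79.trivIrr G with hT
  have hTX : T ≠ X := by
    intro h'
    apply hX
    rw [← h']
    rfl
  have hTY : T ≠ Y := by
    intro h'
    apply hY
    rw [← h']
    rfl
  have hsub : ∑ χ ∈ ({T, X, Y} : Finset (Cfsg.IrrCharacter G)),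
      Complex.normSq ((χ : G → ℂ) g) ≤ ∑ χ : Cfsg.IrrCharacter G,
        Complex.normSq ((χ : G → ℂ) g) :=
    Finset.sum_le_sum_of_subset_of_nonneg (Finset.subset_univ _)
      (fun _ _ _ => Complex.normSq_nonneg _)
  rw [Finset.sum_insert (by
    rw [Finset.mem_insert, Finset.mem_singleton]
    rintro (h' | h')
    · exact hTX h'
    · exact hTY h'), Finset.sum_pair hXY, h2, ha, hb] at hsub
  have hT1 : (T : G → ℂ) g = 1 := rfl
  rw [hT1] at hsub
  have h5 : ((1 + a ^ 2 + b ^ 2 : ℤ) : ℝ) ≤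
      ((Nat.card (Subgroup.centralizer ({g} : Set G)) : ℤ) : ℝ) := by
    have e1 : Complex.normSq ((a : ℤ) : ℂ) = (a : ℝ) ^ 2 := by
      rw [← Complex.ofReal_intCast, Complex.normSq_ofReal]; ring
    have e2 : Complex.normSq ((b : ℤ) : ℂ) = (b : ℝ) ^ 2 := by
      rw [← Complex.ofReal_intCast, Complex.normSq_ofReal]; ring
    rw [e1, e2, Complex.normSq_one] at hsub
    push_cast
    linarith
  exact_mod_cast h5

end three

section ctx

variable {G : Type*} [Group G] [Finite G] (P : Sylow 2 G)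
  (e : ↥(P : Subgroup G) ≃* DihedralGroup (2 ^ (3 - 1)))
  (hC : Subgroup.centralizer ({dsJ 3 e} : Set G) ≤ (P : Subgroup G))

include hC in
/-- Every irreducible character of odd degree lies in the principal `2`-block. -/
theorem dePrincipal (M : Ideal Cfsg.AlgInt) (hM : Cfsg.IsPModular 2 M)
    (χ : Cfsg.IrrCharacter G) (hodd : Odd (Cfsg.charDegree (χ : G → ℂ))) :
    χ ∈ Cfsg.principalBlock M G := by
  show ∀ g : G, Cfsg.MemLocalIdeal M
    (Cfsg.centralChar (fun _ : G => (1 : ℂ)) g - Cfsg.centralChar (χ : G → ℂ) g)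
  intro g
  have hx1 := Cfsg.Agent.Helper80.irr_one_eq χ
  have hxpos := Cfsg.Agent.Helper80.irr_degree_pos χ
  set x := Cfsg.charDegree (χ : G → ℂ) with hx
  set I := (Subgroup.centralizer ({g} : Set G)).index with hI
  have hint : (χ : G → ℂ) g ∈ Cfsg.AlgInt := Cfsg.Agent.Helper81.irr_isIntegral χ g
  have h2M : ((2 : ℕ) : Cfsg.AlgInt) ∈ M := hM.2.2
  have hcoe : ∀ k : ℕ, ((k : Cfsg.AlgInt) : ℂ) = (k : ℂ) := fun k =>
    map_natCast (Cfsg.AlgInt).val k
  have hcoeZ : ∀ k : ℤ, ((k : Cfsg.AlgInt) : ℂ) = (k : ℂ) := fun k =>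
    map_intCast (Cfsg.AlgInt).val k
  refine ⟨(I : Cfsg.AlgInt) * ((x : Cfsg.AlgInt) - ⟨(χ : G → ℂ) g, hint⟩), (x : Cfsg.AlgInt),
    ?_, ?_, ?_⟩
  · by_cases hpar : 2 ∣ I
    · obtain ⟨k, hk⟩ := hpar
      apply M.mul_mem_right
      rw [hk, Nat.cast_mul]
      exact M.mul_mem_right _ h2M
    · rcases deOddIndex P e hC g hpar with h1 | h1
      · have h0 : (x : Cfsg.AlgInt) - ⟨(χ : G → ℂ) g, hint⟩ = 0 := by
          apply Subtype.ext
          show ((x : Cfsg.AlgInt) : ℂ) - (χ : G → ℂ) g = 0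
          rw [hcoe, h1, hx1, sub_self]
        rw [h0, mul_zero]
        exact M.zero_mem
      · obtain ⟨k, hk, j, hj⟩ := Cfsg.Agent.S0944.result χ (dsJ 3 e) (orderOf_dsJ e (by norm_num))
        obtain ⟨c, hc⟩ := isConj_iff.mp h1
        have hχg : (χ : G → ℂ) g = k := by
          rw [← hc, Cfsg.Agent.Helper81.irr_conj, hk]
        have h0 : (x : Cfsg.AlgInt) - ⟨(χ : G → ℂ) g, hint⟩ =
            ((2 : ℕ) : Cfsg.AlgInt) * ((j : ℤ) : Cfsg.AlgInt) := by
          apply Subtype.ext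
          show ((x : Cfsg.AlgInt) : ℂ) - (χ : G → ℂ) g =
            (((2 : ℕ) : Cfsg.AlgInt) : ℂ) * (((j : ℤ) : Cfsg.AlgInt) : ℂ)
          rw [hcoe, hcoe, hcoeZ, hχg]
          have : ((x : ℤ) : ℂ) - (k : ℂ) = ((2 * j : ℤ) : ℂ) := by
            rw [← hj]; push_cast; ring
          push_cast at this ⊢
          exact this
        rw [h0]
        exact M.mul_mem_left _ (M.mul_mem_right _ h2M)
  · intro hmem
    obtain ⟨j, hj⟩ := hodd
    have h1 : (1 : Cfsg.AlgInt) = (x : Cfsg.AlgInt) - ((2 : ℕ) : Cfsg.AlgInt) * (j : Cfsg.AlgInt) := by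
      rw [hj]
      push_cast
      ring
    have h2 : (1 : Cfsg.AlgInt) ∈ M := by
      rw [h1]
      exact M.sub_mem hmem (M.mul_mem_right _ h2M)
    exact hM.2.1.ne_top ((Ideal.eq_top_iff_one M).mpr h2)
  · show ((I : Cfsg.AlgInt) : ℂ) * (((x : Cfsg.AlgInt) : ℂ) - (χ : G → ℂ) g) /
      ((x : Cfsg.AlgInt) : ℂ) = _
    rw [hcoe, hcoe]
    unfold Cfsg.centralChar
    rw [hx1, ← hI]
    have hx0 : (x : ℂ) ≠ 0 := by exact_mod_cast hxpos.ne'
    field_simp

omit [Finite G] in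
theorem deOrderRot : orderOf (dRot e 1) = 2 ^ 2 := by
  rw [orderOf_dRot, DihedralGroup.orderOf_r_one]

omit [Finite G] in
theorem deRotInv_conj : dRef e 0 * dRot e 1 * (dRef e 0)⁻¹ = (dRot e 1)⁻¹ := by
  rw [dRef_inv, dRef_mul_dRot, dRef_mul_dRef, dRot_inv]
  congr 1

/-- Character values at the rotation of order four are integers of the parity of the degree. -/
theorem deIrr_rot (χ : Cfsg.IrrCharacter G) :
    ∃ m : ℤ, (χ : G → ℂ) (dRot e 1) = (m : ℂ) ∧
      (2 : ℤ) ∣ (Cfsg.charDegree (χ : G → ℂ) : ℤ) - m := by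
  apply deIrr_order4 χ (dRot e 1)
  · have h := pow_orderOf_eq_one (dRot e 1)
    rw [deOrderRot P e] at h
    exact h
  · rw [← Cfsg.Agent.Helper80.isCharacter_inv (Cfsg.Agent.Helper80.isCharacter_of_irr χ.2),
      ← deRotInv_conj P e, Cfsg.Agent.Helper81.irr_conj]

include hC in
/-- Existence of a non-principal irreducible character of odd degree which is constant `±1` on
the nontrivial rotations. -/
theorem deExistsChi (h0 : IsConj (dsJ 3 e) (dRef e 0)) (h1 : IsConj (dsJ 3 e) (dRef e (-1))) :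
    ∃ (χ₁ : Cfsg.IrrCharacter G) (d : ℤ), (d = 1 ∨ d = -1) ∧
      (χ₁ : G → ℂ) ≠ (fun _ => 1) ∧ Odd (Cfsg.charDegree (χ₁ : G → ℂ)) ∧
      ∀ i : ZMod (2 ^ (3 - 1)), i ≠ 0 → (χ₁ : G → ℂ) (dRot e i) = (d : ℂ) := by
  classical
  let _ := Fintype.ofFinite G
  have hn : 3 ≤ 3 := le_refl 3
  have hJ := dsOneClass hn P e h0 h1
  obtain ⟨f, hf, hodd⟩ := dsRetJ hn P e
  have hN : (Nat.card G : ℂ) ≠ 0 := by exact_mod_cast Nat.card_pos.ne'
  set η : G → ℂ := fun g => dsEta 3 (((-1 : ℤ)) : ℂ) g with hη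
  have hmem : η ∈ Cfsg.Agent.Helper73.genSpanZ G := dsEta_genSpanZ hn P e (-1)
  have hcl := Cfsg.Agent.Helper73.isClassFunction_of_mem_genSpanZ hmem
  have hint := Cfsg.Agent.Helper73.classInner_int_of_mem_genSpanZ hmem
  have hnorm : Cfsg.classInner η η = 3 := by
    unfold Cfsg.classInner
    have h2 : ∑ g : G, η g * conj (η g) = 3 * (Nat.card G : ℂ) := by
      have h3 : ∀ g : G, η g * conj (η g) =
          dsEta 3 (((-1 : ℤ)) : ℂ) g * dsEta 3 (((-1 : ℤ)) : ℂ) g := by
        intro g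
        rw [hη]
        show dsEta 3 (((-1 : ℤ)) : ℂ) g * conj (dsEta 3 (((-1 : ℤ)) : ℂ) g) = _
        rw [dsEta_star]
      rw [Finset.sum_congr rfl (fun g _ => h3 g),
        dsSumEta_eval hn P e f hf hodd hJ (((-1 : ℤ)) : ℂ) (dsEta 3 (((-1 : ℤ)) : ℂ))
          (-2 * (((-1 : ℤ)) : ℂ)) (-4 * (((-1 : ℤ)) : ℂ))
          (fun g h => dsEta_top _ h) (fun g h => dsEta_sub hn _ h)]
      push_cast
      ring
    rw [h2]
    field_simp
  have htriv : Cfsg.classInner η (fun _ => 1) = 1 := by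
    unfold Cfsg.classInner
    have h2 : ∑ g : G, η g * conj ((fun _ : G => (1 : ℂ)) g) = (Nat.card G : ℂ) := by
      have h3 : ∀ g : G, η g * conj ((fun _ : G => (1 : ℂ)) g) =
          dsEta 3 (((-1 : ℤ)) : ℂ) g * (fun _ : G => (1 : ℂ)) g := by
        intro g
        rw [hη]
        simp
      rw [Finset.sum_congr rfl (fun g _ => h3 g),
        dsSumEta_eval hn P e f hf hodd hJ (((-1 : ℤ)) : ℂ) (fun _ : G => (1 : ℂ)) 1 1
          (fun g h => rfl) (fun g h => rfl)]
      push_cast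
      ring
    rw [h2]
    field_simp
  have hη1 : η 1 = 0 := dsEta_one hn _
  obtain ⟨X, Y, hXY, hX, hY, hdeg, hdec⟩ :=
    Cfsg.Agent.Helper14.exists_irr_of_norm_three η hcl hint hnorm htriv hη1
  -- values at the central involution and at the rotation of order four
  have hηJ : η (dsJ 3 e) = 4 := by
    rw [hη]
    show dsEta 3 (((-1 : ℤ)) : ℂ) (dsJ 3 e) = 4
    rw [dsEta_J hn P e, if_pos rfl]
    push_cast
    ring
  have hηR : η (dRot e 1) = 2 := by
    rw [hη]
    show dsEta 3 (((-1 : ℤ)) : ℂ) (dRot e 1) = 2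
    rw [dsEta_of_pow_two _ (deOrderRot P e), if_pos rfl]
    push_cast
    ring
  obtain ⟨a, ha, hap⟩ := Cfsg.Agent.S0944.result X (dsJ 3 e) (orderOf_dsJ e (by norm_num))
  obtain ⟨b, hb, hbp⟩ := Cfsg.Agent.S0944.result Y (dsJ 3 e) (orderOf_dsJ e (by norm_num))
  obtain ⟨u, hu, hup⟩ := deIrr_rot P e X
  obtain ⟨v, hv, hvp⟩ := deIrr_rot P e Y
  have hdegZ : (Cfsg.charDegree (X : G → ℂ) : ℤ) = (Cfsg.charDegree (Y : G → ℂ) : ℤ) + 1 := by
    rw [Cfsg.Agent.Helper80.irr_one_eq, Cfsg.Agent.Helper80.irr_one_eq] at hdeg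
    exact_mod_cast hdeg
  have hab : b - a = 3 := by
    have h2 := congrFun hdec (dsJ 3 e)
    rw [hηJ] at h2
    simp only [Pi.add_apply, Pi.sub_apply] at h2
    rw [ha, hb] at h2
    have h3 : ((b - a : ℤ) : ℂ) = ((3 : ℤ) : ℂ) := by
      push_cast
      linear_combination -h2
    exact_mod_cast h3
  have huv : v - u = 1 := by
    have h2 := congrFun hdec (dRot e 1)
    rw [hηR] at h2
    simp only [Pi.add_apply, Pi.sub_apply] at h2
    rw [hu, hv] at h2
    have h3 : ((v - u : ℤ) : ℂ) = ((1 : ℤ) : ℂ) := by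
      push_cast
      linear_combination -h2
    exact_mod_cast h3
  have hcolJ := deThree (dsJ 3 e) X Y hXY hX hY a b ha hb
  rw [deCardCentJ P e hC] at hcolJ
  have hcolR := deThree (dRot e 1) X Y hXY hX hY u v hu hv
  rw [deCardCentRot P e hC] at hcolR
  have hb' : b = a + 3 := by omega
  have hv' : v = u + 1 := by omega
  subst hb' hv'
  push_cast at hcolJ hcolR
  have ha1 : -2 ≤ a := by
    by_contra hlt
    have h3 : a ≤ -3 := by omega
    nlinarith [mul_nonneg (show (0 : ℤ) ≤ -a - 3 by omega) (show (0 : ℤ) ≤ -a + 3 by omega),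
      sq_nonneg (a + 3)]
  have ha2 : a ≤ -1 := by
    by_contra hlt
    have h3 : 0 ≤ a := by omega
    nlinarith [mul_nonneg h3 (show (0 : ℤ) ≤ a + 6 by omega), sq_nonneg a]
  have hu1 : -1 ≤ u := by
    by_contra hlt
    have h3 : u ≤ -2 := by omega
    nlinarith [mul_nonneg (show (0 : ℤ) ≤ -u - 2 by omega) (show (0 : ℤ) ≤ -u + 2 by omega),
      sq_nonneg (u + 1)]
  have hu2 : u ≤ 0 := by
    by_contra hlt
    have h3 : 1 ≤ u := by omega
    nlinarith [mul_nonneg (show (0 : ℤ) ≤ u - 1 by omega) (show (0 : ℤ) ≤ u + 3 by omega),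
      sq_nonneg u]
  -- the rotation of order four and its inverse
  have hrot3 : ∀ χ : Cfsg.IrrCharacter G, (χ : G → ℂ) (dRot e (-1)) = (χ : G → ℂ) (dRot e 1) := by
    intro χ
    rw [← dRot_inv, ← deRotInv_conj P e, Cfsg.Agent.Helper81.irr_conj]
  have hcases := deD4_cases
  have key : ∀ (χ : Cfsg.IrrCharacter G) (d : ℤ), (χ : G → ℂ) (dsJ 3 e) = d →
      (χ : G → ℂ) (dRot e 1) = d →
      ∀ i : ZMod (2 ^ (3 - 1)), i ≠ 0 → (χ : G → ℂ) (dRot e i) = (d : ℂ) := by
    intro χ d h1' h2' i hi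
    rcases hcases i with h | h | h | h
    · exact absurd h hi
    · rw [h]; exact h2'
    · rw [h]; exact h1'
    · have : i = -1 := by rw [h]; decide
      rw [this, hrot3]; exact h2'
  have hXo := Cfsg.Agent.Helper80.irr_degree_pos X
  have hYo := Cfsg.Agent.Helper80.irr_degree_pos Y
  by_cases hcase : a = -1
  · -- `X` is the character
    subst hcase
    have hu' : u = -1 := by omega
    subst hu'
    refine ⟨X, -1, Or.inr rfl, hX, ?_, key X (-1) ha hu⟩
    rw [Nat.odd_iff]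
    omega
  · have ha' : a = -2 := by omega
    subst ha'
    have hu' : u = 0 := by omega
    subst hu'
    refine ⟨Y, 1, Or.inl rfl, hY, ?_, key Y 1 (by rw [hb]; norm_num) (by rw [hv]; norm_num)⟩
    rw [Nat.odd_iff]
    omega

include hC in
/-- **Order of a group with a dihedral involution centralizer of order eight and one class of
involutions.** -/
theorem deOrder (h0 : IsConj (dsJ 3 e) (dRef e 0)) (h1 : IsConj (dsJ 3 e) (dRef e (-1))) :
    Nat.card G = 168 ∨ Nat.card G = 360 := by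
  obtain ⟨M, hM⟩ := Cfsg.Agent.Helper78.exists_isPModular 2 Nat.prime_two
  obtain ⟨χ₁, d, hd, hne, hodd, hval⟩ := deExistsChi P e hC h0 h1
  have hχ₁ := dePrincipal P e hC M hM χ₁ hodd
  obtain ⟨hne', hform⟩ := dsOrderFormula M hM 3 (le_refl 3) P e h0 h1 χ₁ hχ₁ hne d hd hval
  rw [deCardCentJ P e hC, deCardCentRef P e hC, deCardCentRef P e hC] at hform
  obtain ⟨m, hm, hNm⟩ := deCardG P e
  refine deArith (Nat.card G) (Cfsg.charDegree (χ₁ : G → ℂ)) m d hd
    (Cfsg.Agent.Helper80.irr_degree_pos χ₁) hne' hm hNm ?_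
  rw [hform]
  push_cast
  ring

end ctx

end Cfsg.Agent.Helper21.DEight
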