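import Mathlib
import Cfsg.Agent.Helper21.DEightC

/-!
# Groups with an involution whose centralizer is dihedral of order 8 (helper21)

Part D: simplicity.  If the centralizer of the central involution `J` of a dihedral Sylow
`2`-subgroup `P` of order eight is `P` itself and all involutions are conjugate, then the group
is simple (of order `168` or `360`).  Also the set-up from an involution with centralizer
isomorphic to `DihedralGroup 4`.
-/

set_option autoImplicit false

namespace Cfsg.Agent.Helper21.DEight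

open DihedralGroup Cfsg.Agent.Helper55 Cfsg.Agent.Helper21.DihOrd

/-- An involution acting without nontrivial fixed points on a finite normal subgroup inverts
it. -/
theorem deInvert {G : Type*} [Group G] (N : Subgroup G) [N.Normal] [Finite N] (t : G)
    (ht : t * t = 1) (hfix : ∀ n ∈ N, t * n = n * t → n = 1) (x : G) (hx : x ∈ N) :
    t * x * t⁻¹ = x⁻¹ := by
  have tinv : t⁻¹ = t := inv_eq_of_mul_eq_one_left ht
  let φ : ↥N → ↥N := fun n => ⟨n.1⁻¹ * (t * n.1 * t⁻¹),
    N.mul_mem (N.inv_mem n.2) (Subgroup.Normal.conj_mem inferInstance n.1 n.2 t)⟩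
  have hinj : Function.Injective φ := by
    intro n m h
    have h' : n.1⁻¹ * (t * n.1 * t⁻¹) = m.1⁻¹ * (t * m.1 * t⁻¹) := congrArg Subtype.val h
    have hk : m.1 * n.1⁻¹ = t * (m.1 * n.1⁻¹) * t⁻¹ := by
      calc m.1 * n.1⁻¹ = m.1 * (n.1⁻¹ * (t * n.1 * t⁻¹)) * (t * n.1⁻¹ * t⁻¹) := by group
        _ = m.1 * (m.1⁻¹ * (t * m.1 * t⁻¹)) * (t * n.1⁻¹ * t⁻¹) := by rw [h']
        _ = t * (m.1 * n.1⁻¹) * t⁻¹ := by group
    have hcomm : t * (m.1 * n.1⁻¹) = m.1 * n.1⁻¹ * t := by
      calc t * (m.1 * n.1⁻¹) = t * (m.1 * n.1⁻¹) * t⁻¹ * t := by group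
        _ = m.1 * n.1⁻¹ * t := by rw [← hk]
    have h1 := hfix _ (N.mul_mem m.2 (N.inv_mem n.2)) hcomm
    apply Subtype.ext
    exact (mul_inv_eq_one.mp h1).symm
  obtain ⟨n, hn⟩ := Finite.surjective_of_injective hinj ⟨x, hx⟩
  have hx' : x = n.1⁻¹ * (t * n.1 * t) := by
    have h5 : (φ n).1 = x := congrArg Subtype.val hn
    rw [← h5]
    show n.1⁻¹ * (t * n.1 * t⁻¹) = _
    rw [tinv]
  have e1 : t * (n.1⁻¹ * (t * n.1 * t)) * t = t * n.1⁻¹ * t * n.1 * (t * t) := by group
  have e2 : (n.1⁻¹ * (t * n.1 * t))⁻¹ = t⁻¹ * n.1⁻¹ * t⁻¹ * n.1 := by group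
  rw [hx', tinv, e1, e2, ht, mul_one, tinv]

section ctx

variable {G : Type*} [Group G] [Finite G] (P : Sylow 2 G)
  (e : ↥(P : Subgroup G) ≃* DihedralGroup (2 ^ (3 - 1)))
  (hC : Subgroup.centralizer ({dsJ 3 e} : Set G) ≤ (P : Subgroup G))

include hC in
omit [Finite G] in
/-- An element centralizing the Sylow subgroup is trivial or the central involution. -/
theorem deCentral (x : G) (hx : ∀ p ∈ (P : Subgroup G), p * x = x * p) :
    x = 1 ∨ x = dsJ 3 e := by
  have hmem : x ∈ (P : Subgroup G) := by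
    apply hC
    rw [Subgroup.mem_centralizer_iff]
    intro y hy
    rw [Set.mem_singleton_iff] at hy
    subst hy
    exact hx _ (dsJ_mem e)
  have hcen : ∀ y : DihedralGroup 4, e ⟨x, hmem⟩ * y = y * e ⟨x, hmem⟩ := by
    intro y
    have h1 := hx (e.symm y : G) (e.symm y).2
    have h2 : (e.symm y : ↥(P : Subgroup G)) * ⟨x, hmem⟩ = ⟨x, hmem⟩ * e.symm y :=
      Subtype.ext h1
    have h3 := congrArg e h2
    rw [map_mul, map_mul, MulEquiv.apply_symm_apply] at h3
    exact h3.symm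
  rcases deD4_center _ hcen with h1 | h1
  · left
    have h2 : (⟨x, hmem⟩ : ↥(P : Subgroup G)) = 1 := by
      apply e.injective
      rw [h1, map_one]
    exact congrArg Subtype.val h2
  · right
    have h2 : (⟨x, hmem⟩ : ↥(P : Subgroup G)) = e.symm (r 2) := by
      apply e.injective
      rw [h1, MulEquiv.apply_symm_apply]
    exact congrArg Subtype.val h2

include hC in
/-- A normal subgroup of odd order is trivial. -/
theorem deOddNormal (hJ : ∀ y : G, orderOf y = 2 ↔ IsConj (dsJ 3 e) y) (N : Subgroup G)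
    [N.Normal] (hodd : Odd (Nat.card N)) : N = ⊥ := by
  have hordN : ∀ n ∈ N, orderOf n ∣ Nat.card N := by
    intro n hn
    have h := orderOf_dvd_natCard (⟨n, hn⟩ : ↥N)
    rwa [Subgroup.orderOf_mk] at h
  have hfix : ∀ y : G, orderOf y = 2 → ∀ n ∈ N, y * n = n * y → n = 1 := by
    intro y hy n hn hcomm
    obtain ⟨c, hc⟩ := isConj_iff.mp ((hJ y).mp hy)
    have hm : c⁻¹ * n * c ∈ (P : Subgroup G) := by
      apply hC
      rw [Subgroup.mem_centralizer_iff]
      intro z hz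
      rw [Set.mem_singleton_iff] at hz
      subst hz
      calc dsJ 3 e * (c⁻¹ * n * c) = c⁻¹ * ((c * dsJ 3 e * c⁻¹) * n) * c := by group
        _ = c⁻¹ * (n * (c * dsJ 3 e * c⁻¹)) * c := by rw [hc, hcomm]
        _ = c⁻¹ * n * c * dsJ 3 e := by group
    obtain ⟨k, hk⟩ := P.isPGroup' ⟨c⁻¹ * n * c, hm⟩
    have hk' : (c⁻¹ * n * c) ^ 2 ^ k = 1 := by
      have := congrArg Subtype.val hk
      simpa using this
    have hnk : n ^ 2 ^ k = 1 := by
      have h1 : n = c * (c⁻¹ * n * c) * c⁻¹ := by group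
      rw [h1, conj_pow, hk']
      group
    have h1 : orderOf n ∣ 2 ^ k := orderOf_dvd_of_pow_eq_one hnk
    have h3 : orderOf n ∣ Nat.gcd (2 ^ k) (Nat.card N) := Nat.dvd_gcd h1 (hordN n hn)
    have hcop : Nat.Coprime (2 ^ k) (Nat.card N) :=
      Nat.Coprime.pow_left k (Nat.coprime_two_left.mpr hodd)
    rw [hcop.gcd_eq_one, Nat.dvd_one] at h3
    exact orderOf_eq_one_iff.mp h3
  have hn2 : 2 ≤ 3 := by norm_num
  have hJτ : dsJ 3 e * dRef e 0 = dRef e 2 := by
    rw [deJ_eq, dRot_mul_dRef]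
    congr 1
  have i1 := deInvert N (dsJ 3 e) (dsJ_mul_self e hn2) (hfix _ (orderOf_dsJ e hn2))
  have i2 := deInvert N (dRef e 0) (dRef_mul_self e 0) (hfix _ (orderOf_dRef e 0))
  have i3 := deInvert N (dRef e 2) (dRef_mul_self e 2) (hfix _ (orderOf_dRef e 2))
  rw [Subgroup.eq_bot_iff_forall]
  intro x hx
  have h1 : dRef e 2 * x * (dRef e 2)⁻¹ = x := by
    rw [← hJτ]
    calc dsJ 3 e * dRef e 0 * x * (dsJ 3 e * dRef e 0)⁻¹
        = dsJ 3 e * (dRef e 0 * x * (dRef e 0)⁻¹) * (dsJ 3 e)⁻¹ := by group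
      _ = dsJ 3 e * x⁻¹ * (dsJ 3 e)⁻¹ := by rw [i2 x hx]
      _ = x := by rw [i1 x⁻¹ (N.inv_mem hx), inv_inv]
  have h2 : x = x⁻¹ := by rw [← i3 x hx, h1]
  have h3 : x ^ 2 = 1 := by
    rw [pow_two]
    nth_rewrite 1 [h2]
    exact inv_mul_cancel x
  have h4 : orderOf x ∣ Nat.gcd 2 (Nat.card N) :=
    Nat.dvd_gcd (orderOf_dvd_of_pow_eq_one h3) (hordN x hx)
  rw [(Nat.coprime_two_left.mpr hodd).gcd_eq_one, Nat.dvd_one] at h4
  exact orderOf_eq_one_iff.mp h4

omit [Finite G] in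
/-- A normal subgroup of even order contains the Sylow subgroup. -/
theorem deEvenNormal (hJ : ∀ y : G, orderOf y = 2 ↔ IsConj (dsJ 3 e) y) (N : Subgroup G)
    [N.Normal] [Finite N] (heven : 2 ∣ Nat.card N) : (P : Subgroup G) ≤ N := by
  have : Fact (Nat.Prime 2) := ⟨Nat.prime_two⟩
  obtain ⟨y, hy⟩ := exists_prime_orderOf_dvd_card' (G := ↥N) 2 heven
  have hy' : orderOf (y : G) = 2 := by rw [Subgroup.orderOf_coe, hy]
  obtain ⟨c, hc⟩ := isConj_iff.mp ((hJ _).mp hy')
  have hJN : dsJ 3 e ∈ N := by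
    have h1 : dsJ 3 e = c⁻¹ * (y : G) * c⁻¹⁻¹ := by rw [← hc]; group
    rw [h1]
    exact Subgroup.Normal.conj_mem inferInstance _ y.2 _
  have hinv : ∀ z : G, orderOf z = 2 → z ∈ N := by
    intro z hz
    obtain ⟨d, hd⟩ := isConj_iff.mp ((hJ z).mp hz)
    rw [← hd]
    exact Subgroup.Normal.conj_mem inferInstance _ hJN _
  intro p hp
  rcases mem_cases e hp with ⟨j, rfl⟩ | ⟨i, rfl⟩
  · have h1 : dRot e j = dRef e 0 * dRef e j := by rw [dRef_mul_dRef, sub_zero]
    rw [h1]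
    exact N.mul_mem (hinv _ (orderOf_dRef e 0)) (hinv _ (orderOf_dRef e j))
  · exact hinv _ (orderOf_dRef e i)

include hC in
/-- Involutions are conjugate to the central involution inside a normal subgroup containing the
Sylow subgroup. -/
theorem deFusionNormal (hJ : ∀ y : G, orderOf y = 2 ↔ IsConj (dsJ 3 e) y) (N : Subgroup G)
    [N.Normal] (hle : (P : Subgroup G) ≤ N) (y : G) (hy : orderOf y = 2) :
    ∃ n ∈ N, n * dsJ 3 e * n⁻¹ = y := by
  have : Fact (Nat.Prime 2) := ⟨Nat.prime_two⟩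
  obtain ⟨g, hg⟩ := isConj_iff.mp ((hJ y).mp hy)
  have hF := Sylow.normalizer_sup_eq_top' P hle
  rw [sup_comm] at hF
  have hgtop : g ∈ N ⊔ Subgroup.normalizer (P : Set G) := by
    rw [hF]; exact Subgroup.mem_top g
  obtain ⟨n, hn, h, hh, rfl⟩ := Subgroup.mem_sup_of_normal_left.mp hgtop
  refine ⟨n, hn, ?_⟩
  have hh' : h⁻¹ ∈ Subgroup.normalizer ((P : Subgroup G) : Set G) := Subgroup.inv_mem _ hh
  have hcen : ∀ p ∈ (P : Subgroup G), p * (h * dsJ 3 e * h⁻¹) = h * dsJ 3 e * h⁻¹ * p := by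
    intro p hp
    have h1 : h⁻¹ * p * h⁻¹⁻¹ ∈ (P : Subgroup G) := (Subgroup.mem_normalizer_iff.mp hh' p).mp hp
    have h2 := dsJ_comm_of_mem e (by norm_num : 2 ≤ 3) h1
    calc p * (h * dsJ 3 e * h⁻¹) = h * ((h⁻¹ * p * h⁻¹⁻¹) * dsJ 3 e) * h⁻¹ := by group
      _ = h * (dsJ 3 e * (h⁻¹ * p * h⁻¹⁻¹)) * h⁻¹ := by rw [h2]
      _ = h * dsJ 3 e * h⁻¹ * p := by group
  rcases deCentral P e hC _ hcen with h1 | h1
  · exfalso
    apply dsJ_ne_one e (by norm_num : 2 ≤ 3)
    calc dsJ 3 e = h⁻¹ * (h * dsJ 3 e * h⁻¹) * h := by group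
      _ = 1 := by rw [h1]; group
  · rw [← hg]
    calc n * dsJ 3 e * n⁻¹ = n * (h * dsJ 3 e * h⁻¹) * n⁻¹ := by rw [h1]
      _ = n * h * dsJ 3 e * (n * h)⁻¹ := by group

include hC in
/-- A normal subgroup containing the Sylow subgroup is the whole group. -/
theorem deNormalTop (h0 : IsConj (dsJ 3 e) (dRef e 0)) (h1 : IsConj (dsJ 3 e) (dRef e (-1)))
    (N : Subgroup G) [N.Normal] (hle : (P : Subgroup G) ≤ N) : N = ⊤ := by
  have hJ := dsOneClass (le_refl 3) P e h0 h1
  let PN : Sylow 2 ↥N := P.subtype hle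
  let eN : ↥(PN : Subgroup ↥N) ≃* DihedralGroup (2 ^ (3 - 1)) :=
    (Subgroup.subgroupOfEquivOfLe hle).trans e
  have hrot : ∀ i, ((dRot eN i : ↥N) : G) = dRot e i := fun i => rfl
  have href : ∀ i, ((dRef eN i : ↥N) : G) = dRef e i := fun i => rfl
  have hJN : ((dsJ 3 eN : ↥N) : G) = dsJ 3 e := rfl
  have hCN : Subgroup.centralizer ({dsJ 3 eN} : Set ↥N) ≤ (PN : Subgroup ↥N) := by
    intro x hx
    show x ∈ (P : Subgroup G).subgroupOf N
    rw [Subgroup.mem_subgroupOf]
    apply hC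
    rw [Subgroup.mem_centralizer_iff] at hx ⊢
    intro y hy
    rw [Set.mem_singleton_iff] at hy
    subst hy
    have h2 := hx (dsJ 3 eN) rfl
    have h3 := congrArg Subtype.val h2
    rw [Subgroup.coe_mul, Subgroup.coe_mul, hJN] at h3
    exact h3
  have hfusN : ∀ i, IsConj (dsJ 3 eN) (dRef eN i) := by
    intro i
    obtain ⟨n, hn, hni⟩ := deFusionNormal P e hC hJ N hle (dRef e i) (orderOf_dRef e i)
    rw [isConj_iff]
    refine ⟨⟨n, hn⟩, ?_⟩
    apply Subtype.ext
    rw [Subgroup.coe_mul, Subgroup.coe_mul, Subgroup.coe_inv, hJN, href]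
    exact hni
  have hcN := deOrder PN eN hCN (hfusN 0) (hfusN (-1))
  have hcG := deOrder P e hC h0 h1
  have hdvd := Subgroup.card_subgroup_dvd_card N
  have heq : Nat.card ↥N = Nat.card G := by
    rcases hcN with h | h <;> rcases hcG with h' | h' <;> rw [h, h'] at hdvd ⊢ <;> omega
  exact (Subgroup.card_eq_iff_eq_top N).mp heq

include hC in
/-- **Simplicity.** -/
theorem deSimple (h0 : IsConj (dsJ 3 e) (dRef e 0)) (h1 : IsConj (dsJ 3 e) (dRef e (-1))) :
    IsSimpleGroup G := by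
  have hJ := dsOneClass (le_refl 3) P e h0 h1
  have hnt : Nontrivial G := ⟨⟨dsJ 3 e, 1, dsJ_ne_one e (by norm_num)⟩⟩
  refine ⟨fun N hN => ?_⟩
  by_cases heven : 2 ∣ Nat.card N
  · right
    exact deNormalTop P e hC h0 h1 N (deEvenNormal P e hJ N heven)
  · left
    exact deOddNormal P e hC hJ N (Nat.odd_iff.mpr (Nat.two_dvd_ne_zero.mp heven))

/-- Fusion of all involutions when the group has no nontrivial homomorphism to a group of order
two. -/
theorem deFusionHom (hhom : ∀ f : G →* Multiplicative (ZMod 2), ∀ g : G, f g = 1)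
    (i : ZMod (2 ^ (3 - 1))) : IsConj (dsJ 3 e) (dRef e i) := by
  by_contra hcon
  have hno : ∀ (g : G) (j : ZMod (2 ^ (3 - 1))), g * dRef e i * g⁻¹ ≠ dRot e j := by
    intro g j hgj
    apply hcon
    have ho : orderOf (dRot e j) = 2 := by
      rw [← hgj, dsOrderOf_conj, orderOf_dRef]
    have hJ := dsRot_eq_J e (by norm_num) ho
    rw [isConj_iff]
    refine ⟨g⁻¹, ?_⟩
    rw [← hJ, ← hgj]
    group
  exact transfer_dihedralSign_ne_one P e i hno (hhom _ _)

end ctx

/-- Set-up: an involution whose centralizer is dihedral of order eight is the central involution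
of a dihedral Sylow `2`-subgroup which is its centralizer. -/
theorem deSetup {G : Type*} [Group G] [Finite G] (t : G) (ht : orderOf t = 2)
    (e : ↥(Subgroup.centralizer ({t} : Set G)) ≃* DihedralGroup 4) :
    ∃ (P : Sylow 2 G) (e' : ↥(P : Subgroup G) ≃* DihedralGroup (2 ^ (3 - 1))),
      dsJ 3 e' = t ∧ (P : Subgroup G) = Subgroup.centralizer ({t} : Set G) := by
  classical
  have : Fact (Nat.Prime 2) := ⟨Nat.prime_two⟩
  set C := Subgroup.centralizer ({t} : Set G) with hCdef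
  have hcardC : Nat.card ↥C = 2 ^ 3 := by
    rw [Nat.card_congr e.toEquiv, DihedralGroup.nat_card]
    norm_num
  have hCp : IsPGroup 2 ↥C := IsPGroup.of_card hcardC
  obtain ⟨P, hP⟩ := hCp.exists_le_sylow
  have ht1 : t ≠ 1 := by
    intro h
    rw [h, orderOf_one] at ht
    norm_num at ht
  have htC : t ∈ C := by
    rw [hCdef, Subgroup.mem_centralizer_iff]
    intro h hh
    rw [Set.mem_singleton_iff] at hh
    rw [hh]
  have hcenC : ∀ (c : G) (hc : c ∈ C), (∀ y ∈ C, y * c = c * y) → c ≠ 1 →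
      e ⟨c, hc⟩ = DihedralGroup.r 2 := by
    intro c hc hcomm hc1
    have h1 : ∀ y : DihedralGroup 4, e ⟨c, hc⟩ * y = y * e ⟨c, hc⟩ := by
      intro y
      have h2 := hcomm (e.symm y : G) (e.symm y).2
      have h3 : (e.symm y : ↥C) * ⟨c, hc⟩ = ⟨c, hc⟩ * e.symm y := Subtype.ext h2
      have h4 := congrArg e h3
      rw [map_mul, map_mul, MulEquiv.apply_symm_apply] at h4
      exact h4.symm
    rcases deD4_center _ h1 with h5 | h5
    · exfalso
      apply hc1
      have h6 : (⟨c, hc⟩ : ↥C) = 1 := by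
        apply e.injective
        rw [h5, map_one]
      exact congrArg Subtype.val h6
    · exact h5
  have het : e ⟨t, htC⟩ = DihedralGroup.r 2 := by
    apply hcenC t htC _ ht1
    intro y hy
    rw [hCdef, Subgroup.mem_centralizer_iff] at hy
    exact (hy t rfl).symm
  have hPle : (P : Subgroup G) ≤ C := by
    have hnt : Nontrivial ↥(P : Subgroup G) :=
      ⟨⟨⟨t, hP htC⟩, 1, fun h => ht1 (congrArg Subtype.val h)⟩⟩
    have hcn := P.isPGroup'.center_nontrivial
    obtain ⟨z, hz⟩ := exists_ne (1 : ↥(Subgroup.center ↥(P : Subgroup G)))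
    have hzc : ∀ p ∈ (P : Subgroup G),
        p * (z : ↥(P : Subgroup G)).1 = (z : ↥(P : Subgroup G)).1 * p := by
      intro p hp
      have h1 := Subgroup.mem_center_iff.mp z.2 ⟨p, hp⟩
      exact congrArg Subtype.val h1
    have hz1 : ((z : ↥(P : Subgroup G)) : G) ≠ 1 := by
      intro h
      apply hz
      apply Subtype.ext
      apply Subtype.ext
      exact h
    have hzC : ((z : ↥(P : Subgroup G)) : G) ∈ C := by
      rw [hCdef, Subgroup.mem_centralizer_iff]
      intro h hh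
      rw [Set.mem_singleton_iff] at hh
      rw [hh]
      exact hzc t (hP htC)
    have hez := hcenC _ hzC (fun y hy => hzc y (hP hy)) hz1
    have hzt : ((z : ↥(P : Subgroup G)) : G) = t := by
      have h1 : (⟨_, hzC⟩ : ↥C) = ⟨t, htC⟩ := e.injective (hez.trans het.symm)
      exact congrArg Subtype.val h1
    intro p hp
    rw [hCdef, Subgroup.mem_centralizer_iff]
    intro h hh
    rw [Set.mem_singleton_iff] at hh
    rw [hh, ← hzt]
    exact (hzc p hp).symm
  have hPC : (P : Subgroup G) = C := le_antisymm hPle hP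
  let e' : ↥(P : Subgroup G) ≃* DihedralGroup (2 ^ (3 - 1)) :=
    (MulEquiv.subgroupCongr hPC).trans e
  refine ⟨P, e', ?_, hPC⟩
  have h1 : e' ⟨t, hP htC⟩ = DihedralGroup.r 2 := het
  have h2 : (⟨t, hP htC⟩ : ↥(P : Subgroup G)) = e'.symm (DihedralGroup.r 2) := by
    rw [← h1, MulEquiv.symm_apply_apply]
  exact (congrArg Subtype.val h2).symm

/-- **Main theorem**: a finite group with no nontrivial homomorphism onto a group of order two
and an involution whose centralizer is dihedral of order eight is simple of order `168` or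
`360`. -/
theorem deMain {G : Type*} [Group G] [Finite G] (t : G) (ht : orderOf t = 2)
    (e : ↥(Subgroup.centralizer ({t} : Set G)) ≃* DihedralGroup 4)
    (hhom : ∀ f : G →* Multiplicative (ZMod 2), ∀ g : G, f g = 1) :
    IsSimpleGroup G ∧ (Nat.card G = 168 ∨ Nat.card G = 360) := by
  obtain ⟨P, e', hJt, hPC⟩ := deSetup t ht e
  have hC' : Subgroup.centralizer ({dsJ 3 e'} : Set G) ≤ (P : Subgroup G) := by
    rw [hJt, hPC]
  exact ⟨deSimple P e' hC' (deFusionHom P e' hhom 0) (deFusionHom P e' hhom (-1)),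
    deOrder P e' hC' (deFusionHom P e' hhom 0) (deFusionHom P e' hhom (-1))⟩

end Cfsg.Agent.Helper21.DEight
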