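import Mathlib

set_option autoImplicit false

/-!
# A field from a regular abelian group of automorphisms (helper21)

Let `A` be a finite commutative group, `c : D →* MulAut A` an action of a commutative group `D`
by automorphisms such that every `a ≠ 1` is `c d e` for some `d` (`e ≠ 1` fixed).  Then the ring
of endomorphisms of `A` commuting with `D` is a finite field `F` in bijection with `A`
(`ev : F ≃ A`, `φ ↦ φ e`); `D` acts through multiplication by nonzero elements `μ d`.
-/

namespace Cfsg.Agent.Helper21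

namespace FieldOfReg

universe u v

section Defs

variable {A : Type u} [CommGroup A] {D : Type v} [Group D] (c : D →* MulAut A)

/-- The additive endomorphism induced by `c d`. -/
def cEnd (d : D) : AddMonoid.End (Additive A) := MonoidHom.toAdditive (c d).toMonoidHom

theorem cEnd_apply (d : D) (a : Additive A) :
    cEnd c d a = Additive.ofMul (c d (Additive.toMul a)) := rfl

theorem cEnd_mul (d d' : D) : cEnd c (d * d') = cEnd c d * cEnd c d' := by
  refine DFunLike.ext _ _ (fun a => ?_)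
  show Additive.ofMul (c (d * d') (Additive.toMul a)) =
    Additive.ofMul (c d (c d' (Additive.toMul a)))
  rw [map_mul]; rfl

/-- The commutant of `D` in the endomorphism ring. -/
def FF : Subring (AddMonoid.End (Additive A)) := Subring.centralizer (Set.range (cEnd c))

theorem comm_apply (φ : FF c) (d : D) (a : Additive A) :
    φ.1 (cEnd c d a) = cEnd c d (φ.1 a) := by
  have h := Subring.mem_centralizer_iff.mp φ.2 (cEnd c d) ⟨d, rfl⟩
  exact (DFunLike.congr_fun h a).symm

/-- Evaluation at `e`. -/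
def ev (e : A) (φ : FF c) : A := Additive.toMul (φ.1 (Additive.ofMul e))

theorem ev_zero (e : A) : ev c e 0 = 1 := rfl

theorem ev_one (e : A) : ev c e 1 = e := rfl

theorem ev_add (e : A) (φ ψ : FF c) : ev c e (φ + ψ) = ev c e φ * ev c e ψ := rfl

/-- The element of the commutant given by `d` (needs `D` commutative). -/
def mkF (hcomm : ∀ d d' : D, d * d' = d' * d) (d : D) : FF c :=
  ⟨cEnd c d, by
    rw [FF, Subring.mem_centralizer_iff]
    rintro _ ⟨d', rfl⟩
    rw [← cEnd_mul, ← cEnd_mul, hcomm]⟩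

theorem ev_mkF_mul (hcomm : ∀ d d' : D, d * d' = d' * d) (e : A) (d : D) (φ : FF c) :
    ev c e (mkF c hcomm d * φ) = c d (ev c e φ) := rfl

theorem ev_mkF (hcomm : ∀ d d' : D, d * d' = d' * d) (e : A) (d : D) :
    ev c e (mkF c hcomm d) = c d e := rfl

theorem mkF_mul (hcomm : ∀ d d' : D, d * d' = d' * d) (d d' : D) :
    mkF c hcomm (d * d') = mkF c hcomm d * mkF c hcomm d' :=
  Subtype.ext (cEnd_mul c d d')

variable {c}

theorem ev_injective {e : A} (hreg : ∀ a : A, a ≠ 1 → ∃ d : D, c d e = a) :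
    Function.Injective (ev c e) := by
  intro φ ψ h
  apply Subtype.ext
  refine DFunLike.ext _ _ (fun a => ?_)
  by_cases ha : Additive.toMul a = 1
  · have ha0 : a = 0 := ha
    rw [ha0, map_zero, map_zero]
  · obtain ⟨d, hd⟩ := hreg _ ha
    have e1 : a = cEnd c d (Additive.ofMul e) := by
      rw [cEnd_apply]; exact congrArg Additive.ofMul hd.symm
    rw [e1, comm_apply, comm_apply]
    exact congrArg (cEnd c d) (congrArg Additive.ofMul h)

theorem ev_surjective (hcomm : ∀ d d' : D, d * d' = d' * d) {e : A}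
    (hreg : ∀ a : A, a ≠ 1 → ∃ d : D, c d e = a) : Function.Surjective (ev c e) := by
  intro a
  by_cases ha : a = 1
  · exact ⟨0, by rw [ev_zero, ha]⟩
  · obtain ⟨d, hd⟩ := hreg a ha
    exact ⟨mkF c hcomm d, by rw [ev_mkF, hd]⟩

theorem eq_zero_or_mkF (hcomm : ∀ d d' : D, d * d' = d' * d) {e : A}
    (hreg : ∀ a : A, a ≠ 1 → ∃ d : D, c d e = a) (φ : FF c) :
    φ = 0 ∨ ∃ d, φ = mkF c hcomm d := by
  by_cases h : ev c e φ = 1
  · left
    exact ev_injective hreg (by rw [h, ev_zero])
  · right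
    obtain ⟨d, hd⟩ := hreg _ h
    exact ⟨d, ev_injective hreg (by rw [ev_mkF, hd])⟩

theorem mkF_ne_zero (hcomm : ∀ d d' : D, d * d' = d' * d) {e : A} (he : e ≠ 1) (d : D) :
    mkF c hcomm d ≠ 0 := by
  intro h
  have h1 : ev c e (mkF c hcomm d) = 1 := by rw [h, ev_zero]
  rw [ev_mkF] at h1
  apply he
  have := (c d).injective (h1.trans (map_one (c d)).symm)
  exact this

theorem ff_mul_comm (hcomm : ∀ d d' : D, d * d' = d' * d) {e : A}
    (hreg : ∀ a : A, a ≠ 1 → ∃ d : D, c d e = a) (φ ψ : FF c) : φ * ψ = ψ * φ := by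
  rcases eq_zero_or_mkF hcomm hreg φ with rfl | ⟨d, rfl⟩
  · rw [zero_mul, mul_zero]
  rcases eq_zero_or_mkF hcomm hreg ψ with rfl | ⟨d', rfl⟩
  · rw [zero_mul, mul_zero]
  rw [← mkF_mul, ← mkF_mul, hcomm]

theorem ff_eq_zero_or (hcomm : ∀ d d' : D, d * d' = d' * d) {e : A} (he : e ≠ 1)
    (hreg : ∀ a : A, a ≠ 1 → ∃ d : D, c d e = a) (φ ψ : FF c) (h : φ * ψ = 0) :
    φ = 0 ∨ ψ = 0 := by
  rcases eq_zero_or_mkF hcomm hreg φ with rfl | ⟨d, rfl⟩
  · exact Or.inl rfl
  rcases eq_zero_or_mkF hcomm hreg ψ with rfl | ⟨d', rfl⟩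
  · exact Or.inr rfl
  rw [← mkF_mul] at h
  exact absurd h (mkF_ne_zero hcomm he _)

end Defs

/-- The packaged field. -/
theorem exists_field {A : Type u} [Group A] [Finite A] (hc : ∀ a b : A, a * b = b * a)
    (hexp : ∀ a : A, a * a = 1) {D : Type v} [Group D] (c : D →* MulAut A)
    (hcomm : ∀ d d' : D, d * d' = d' * d) (e : A) (he : e ≠ 1)
    (hreg : ∀ a : A, a ≠ 1 → ∃ d : D, c d e = a) :
    ∃ (F : Type u) (_ : Field F) (_ : Fintype F) (ev : F → A) (μ : D → F),
      Function.Bijective ev ∧ (2 : F) = 0 ∧ ev 0 = 1 ∧ ev 1 = e ∧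
      (∀ x y, ev (x + y) = ev x * ev y) ∧ (∀ d x, ev (μ d * x) = c d (ev x)) ∧
      (∀ d, μ d ≠ 0) ∧ (∀ x, x ≠ 0 → ∃ d, μ d = x) := by
  classical
  let instCG : CommGroup A := { (inferInstance : Group A) with mul_comm := hc }
  have hfin : Finite (FF c) := Finite.of_injective (ev c e) (ev_injective hreg)
  let instFT : Fintype (FF c) := Fintype.ofFinite _
  let instCR : CommRing (FF c) :=
    { (inferInstance : Ring (FF c)) with mul_comm := ff_mul_comm hcomm hreg }
  have hnt : Nontrivial (FF c) := by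
    refine ⟨⟨0, 1, ?_⟩⟩
    intro h01
    apply he
    have := congrArg (ev c e) h01
    rw [ev_zero, ev_one] at this
    exact this.symm
  have hnzd : NoZeroDivisors (FF c) :=
    ⟨fun {a b} h => ff_eq_zero_or hcomm he hreg a b h⟩
  have hdom : IsDomain (FF c) := NoZeroDivisors.to_isDomain _
  let instFld : Field (FF c) := Fintype.fieldOfDomain (FF c)
  refine ⟨FF c, instFld, instFT, ev c e, mkF c hcomm,
    ⟨ev_injective hreg, ev_surjective hcomm hreg⟩, ?_, ev_zero c e, ev_one c e, ev_add c e,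
    ev_mkF_mul c hcomm e, mkF_ne_zero hcomm he, ?_⟩
  · apply ev_injective hreg
    have h2 : (2 : FF c) = 1 + 1 := one_add_one_eq_two.symm
    rw [h2]
    show ev c e (1 + 1) = ev c e 0
    rw [ev_add, ev_one, ev_zero]
    exact hexp e
  · intro x hx
    rcases eq_zero_or_mkF hcomm hreg x with rfl | ⟨d, rfl⟩
    · exact absurd rfl hx
    · exact ⟨d, rfl⟩

end FieldOfReg

end Cfsg.Agent.Helper21
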