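import Mathlib

/-!
# S2276 (p-elements of `A_n`): definitions and the exact statements of the CALL pieces

Everything lives on types in `Type` (universe 0).  `Good p u v` says that `u * v` is not a
`p`-element and `⟨u, v⟩` is not solvable.  Each `...Stmt : Prop` below is the exact statement of
one piece of the CALL; a piece `X` proves `XStmt`, possibly from other `...Stmt` hypotheses.
-/

set_option autoImplicit false

namespace Cfsg.Agent.Helper21.PE

open Equiv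

/-- `u * v` is not a `p`-element and `⟨u, v⟩` is not solvable. -/
def Good (p : ℕ) {X : Type} (u v : Perm X) : Prop :=
  (¬ ∃ k : ℕ, orderOf (u * v) = p ^ k) ∧
    ¬ Group.IsSolvable ↥(Subgroup.closure ({u, v} : Set (Perm X)))

/-- non-identity element of `p`-power order -/
def IsPE (p : ℕ) {X : Type} (u : Perm X) : Prop := u ≠ 1 ∧ ∃ k : ℕ, orderOf u = p ^ k

/-- the conclusion for a pair `u, w` -/
def Concl (p : ℕ) {X : Type} [Fintype X] [DecidableEq X] (u w : Perm X) : Prop :=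
  ∃ g : Perm X, Perm.sign g = 1 ∧ Good p u (g * w * g⁻¹)

/-- the target statement for a finite type `X` -/
def Tgt (p : ℕ) (X : Type) [Fintype X] [DecidableEq X] : Prop :=
  ∀ u w : Perm X, IsPE p u → IsPE p w → Concl p u w

/-- the cycle type `ν` is realised by a permutation `v` of `Fin n` with `Good (n-cycle) v` -/
def Real (p n : ℕ) (ν : Multiset ℕ) : Prop :=
  ∃ v : Perm (Fin n), v.cycleType = ν ∧ Good p (finRotate n) v

/-- `τ` is the rotation by `e` on the interval `[s, s+t)` and the identity elsewhere -/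
def RotOn (n s t e : ℕ) (τ : Perm (Fin n)) : Prop :=
  (∀ x : Fin n, s ≤ x.val → x.val < s + t → (τ x).val = s + (x.val - s + e) % t) ∧
  (∀ x : Fin n, (x.val < s ∨ s + t ≤ x.val) → τ x = x)

/-! ## generic lemmas -/

/-- A5: a subgroup containing two 3-cycles whose supports share exactly one point is not solvable -/
def A5Stmt : Prop :=
  ∀ (X : Type) [Fintype X] [DecidableEq X] (H : Subgroup (Perm X)) (c₁ c₂ : Perm X),
    c₁ ∈ H → c₂ ∈ H → c₁.IsThreeCycle → c₂.IsThreeCycle →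
    (c₁.support ∩ c₂.support).card = 1 → ¬ Group.IsSolvable ↥H

/-- SHIFT: an `n`-cycle (`n` odd) and a 3-cycle whose support is not a coset of the subgroup of
order 3 generate a non-solvable group -/
def ShiftStmt : Prop :=
  ∀ (n : ℕ) (H : Subgroup (Perm (Fin n))) (θ : Perm (Fin n)) (a b c : Fin n),
    5 ≤ n → Odd n → finRotate n ∈ H → θ ∈ H → θ.IsThreeCycle → a < b → b < c →
    θ.support = {a, b, c} →
    ¬ (b.val - a.val = c.val - b.val ∧ 3 * (b.val - a.val) = n) → ¬ Group.IsSolvable ↥H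

/-- CERT: a non-fixed point of period prime to `p` -/
def CertStmt : Prop :=
  ∀ (p : ℕ) (X : Type) (ρ : Perm X) (x : X) (M : ℕ), p.Prime → Nat.Coprime M p →
    (ρ ^ M) x = x → ρ x ≠ x → ¬ ∃ k : ℕ, orderOf ρ = p ^ k

/-- FIXCNT: the number of fixed points of a `p`-element is `≡ card X mod p` -/
def FixcntStmt : Prop :=
  ∀ (p : ℕ) (X : Type) [Fintype X] [DecidableEq X] (ρ : Perm X), p.Prime →
    ¬ (Fintype.card X ≡ (Finset.univ.filter (fun x => ρ x = x)).card [MOD p]) →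
    ¬ ∃ k : ℕ, orderOf ρ = p ^ k

/-- COMM3: the commutator of the `n`-cycle with an interval rotation is a 3-cycle -/
def Comm3Stmt : Prop :=
  ∀ (n s t r : ℕ) (τ : Perm (Fin n)) (hs : s + t < n) (_hr0 : 0 < r) (hr : r < t),
    RotOn n s t r τ →
    (finRotate n * τ * (finRotate n)⁻¹ * τ⁻¹).IsThreeCycle ∧
    (finRotate n * τ * (finRotate n)⁻¹ * τ⁻¹).support =
      {(⟨s, by omega⟩ : Fin n), ⟨s + r, by omega⟩, ⟨s + t, hs⟩}

/-- TR: transfer of a good pair along equal cycle types, with the parity fix -/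
def TrStmt : Prop :=
  ∀ (p : ℕ) (X Y : Type) [Fintype X] [DecidableEq X] [Fintype Y] [DecidableEq Y]
    (u w : Perm X) (u₀ v₀ : Perm Y), Fintype.card X = Fintype.card Y →
    u₀.cycleType = u.cycleType → v₀.cycleType = w.cycleType → Good p u₀ v₀ →
    (∃ c : Perm Y, Perm.sign c = -1 ∧ (c * v₀ = v₀ * c ∨ c * u₀ = u₀ * c)) → Concl p u w

/-- TR2: transfer when both `u` and `w` are `n`-cycles -/
def Tr2Stmt : Prop :=
  ∀ (p n : ℕ) (X : Type) [Fintype X] [DecidableEq X] (u w : Perm X) (π₁ π₂ : Perm (Fin n)),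
    Fintype.card X = n → u.cycleType = {n} → w.cycleType = {n} →
    Perm.sign π₁ = 1 → Perm.sign π₂ = -1 →
    Good p (finRotate n) (π₁ * finRotate n * π₁⁻¹) →
    Good p (finRotate n) (π₂ * finRotate n * π₂⁻¹) → Concl p u w

/-- PAR: an odd permutation centralising `v` -/
def ParStmt : Prop :=
  ∀ (Y : Type) [Fintype Y] [DecidableEq Y] (v : Perm Y),
    (v.cycleType.sum + 2 ≤ Fintype.card Y ∨ ∃ i, 2 ≤ v.cycleType.count i) →
    ∃ c : Perm Y, Perm.sign c = -1 ∧ c * v = v * c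

/-- PARA: distinct proper `p`-powers sum to at most `p^a - 2` -/
def ParaStmt : Prop :=
  ∀ (p a : ℕ) (ν : Multiset ℕ), p.Prime → 3 ≤ p → 1 ≤ a →
    (∀ x ∈ ν, ∃ i, 1 ≤ i ∧ i < a ∧ x = p ^ i) →
    (ν.sum + 2 ≤ p ^ a ∨ ∃ i, 2 ≤ ν.count i)

/-- RED: reduction to invariant subsets of equal size -/
def RedStmt : Prop :=
  ∀ (p : ℕ) (X : Type) [Fintype X] [DecidableEq X] (u w : Perm X) (S T : Finset X),
    p.Prime → IsPE p u → IsPE p w → S.card = T.card → 2 ≤ S.card →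
    (∀ x ∈ S, u x ∈ S) → (∀ x ∈ T, w x ∈ T) → (∃ x ∈ S, u x ≠ x) → (∃ x ∈ T, w x ≠ x) →
    (∀ (Y : Type) [Fintype Y] [DecidableEq Y], Fintype.card Y = S.card → Tgt p Y) →
    Concl p u w

/-- SYM: the conclusion is symmetric in `u` and `w` -/
def SymStmt : Prop :=
  ∀ (p : ℕ) (X : Type) [Fintype X] [DecidableEq X] (u w : Perm X), Concl p w u → Concl p u w

/-- LIFTA: a good pair of a quotient action lifts -/
def LiftaStmt : Prop :=
  ∀ (p : ℕ) (X Y : Type) (f : X → Y) (u v : Perm X) (u' v' : Perm Y), p.Prime →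
    Function.Surjective f →
    (∀ x, f (u x) = u' (f x)) → (∀ x, f (v x) = v' (f x)) → Good p u' v' → Good p u v

/-- GREEDY: invariant subsets of size `j * p^a` containing a moved point -/
def GreedyStmt : Prop :=
  ∀ (p : ℕ) (X : Type) [Fintype X] [DecidableEq X] (w : Perm X) (a j : ℕ), p.Prime →
    w ^ (p ^ a) = 1 → w ≠ 1 → 1 ≤ j → j * p ^ a ≤ Fintype.card X →
    ∃ S : Finset X, S.card = j * p ^ a ∧ (∀ x ∈ S, w x ∈ S) ∧ ∃ x ∈ S, w x ≠ x

/-- CYC: cycle type of a non-identity permutation of order `p^k` -/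
def CycStmt : Prop :=
  ∀ (p : ℕ) (X : Type) [Fintype X] [DecidableEq X] (u : Perm X) (k : ℕ), p.Prime → u ≠ 1 →
    orderOf u = p ^ k →
    1 ≤ k ∧ p ^ k ∈ u.cycleType ∧ p ^ k ≤ Fintype.card X ∧ u.cycleType.sum ≤ Fintype.card X ∧
    (p ^ k = Fintype.card X → u.cycleType = {Fintype.card X}) ∧
    (∀ x ∈ u.cycleType, ∃ i, 1 ≤ i ∧ i ≤ k ∧ x = p ^ i)

/-- CLS: a multiset of `p`-powers with maximum `p^b` -/
def ClsStmt : Prop :=
  ∀ (p b : ℕ) (ν : Multiset ℕ), p.Prime → 1 ≤ b →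
    (∀ x ∈ ν, ∃ i, 1 ≤ i ∧ i ≤ b ∧ x = p ^ i) → p ^ b ∈ ν →
    (∃ c ν', 1 ≤ c ∧ c < b ∧ ν = p ^ c ::ₘ (Multiset.replicate (ν.count (p ^ b)) (p ^ b) + ν') ∧
        ∀ x ∈ ν', ∃ i, 1 ≤ i ∧ i < b ∧ x = p ^ i) ∨
      ν = Multiset.replicate (ν.count (p ^ b)) (p ^ b)

/-- SMALL3: cycle type of an element of order 3 on at most 6 points -/
def Small3Stmt : Prop :=
  ∀ (X : Type) [Fintype X] [DecidableEq X] (u : Perm X), orderOf u = 3 → Fintype.card X ≤ 6 →
    u.cycleType = {3} ∨ (Fintype.card X = 6 ∧ u.cycleType = {3, 3})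

/-- FIN: from `Perm (Fin n)` to the subtype `alternatingGroup (Fin n)` -/
def FinStmt : Prop :=
  ∀ (n p : ℕ), Tgt p (Fin n) → ∀ (u w : alternatingGroup (Fin n)), u ≠ 1 → w ≠ 1 →
    (∃ k : ℕ, orderOf u = p ^ k) → (∃ k : ℕ, orderOf w = p ^ k) →
    ∃ g : alternatingGroup (Fin n), (¬ ∃ k : ℕ, orderOf (u * (g * w * g⁻¹)) = p ^ k) ∧
      ¬ Group.IsSolvable ↥(Subgroup.closure ({u, g * w * g⁻¹} : Set (alternatingGroup (Fin n))))

/-! ## building blocks for explicit permutations of `Fin n` -/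

/-- GLUE: juxtaposition of two permutations -/
def GlueStmt : Prop :=
  ∀ (a b : ℕ) (f : Perm (Fin a)) (g : Perm (Fin b)), ∃ h : Perm (Fin (a + b)),
    h.cycleType = f.cycleType + g.cycleType ∧
    (∀ x : Fin a, (h (Fin.castAdd b x)).val = (f x).val) ∧
    (∀ y : Fin b, (h (Fin.natAdd a y)).val = a + (g y).val)

/-- ROT: the rotation by `e` of `Fin t` and its cycle type -/
def RotStmt : Prop :=
  ∀ (t e : ℕ), 0 < t → ¬ t ∣ e → ∃ R : Perm (Fin t),
    (∀ x : Fin t, (R x).val = (x.val + e) % t) ∧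
    R.cycleType = Multiset.replicate (Nat.gcd e t) (t / Nat.gcd e t)

/-- FWD: a permutation of given cycle type with no step `y ↦ y - 1` -/
def FwdStmt : Prop :=
  ∀ (ν : Multiset ℕ) (N : ℕ), (∀ x ∈ ν, 3 ≤ x) → ν.sum ≤ N →
    ∃ E : Perm (Fin N), E.cycleType = ν ∧ ∀ y : Fin N, (E y).val + 1 ≠ y.val

/-! ## the explicit constructions against the `n`-cycle `finRotate n` -/

/-- G3O: a good odd conjugate of the `n`-cycle -/
def G3OStmt : Prop :=
  ∀ (p n a : ℕ), p.Prime → 3 ≤ p → n = p ^ a → 5 ≤ n →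
    ∃ π : Perm (Fin n), Perm.sign π = -1 ∧ Good p (finRotate n) (π * finRotate n * π⁻¹)

/-- G3E: a good even conjugate of the `n`-cycle -/
def G3EStmt : Prop :=
  ∀ (p n a : ℕ), p.Prime → 3 ≤ p → n = p ^ a → 5 ≤ n →
    ∃ π : Perm (Fin n), Perm.sign π = 1 ∧ Good p (finRotate n) (π * finRotate n * π⁻¹)

/-- REALB: one cycle of length `p^c < n = p^a` -/
def RealBStmt : Prop :=
  ∀ (p n a c : ℕ), p.Prime → 3 ≤ p → n = p ^ a → 1 ≤ c → c < a → Real p n {p ^ c}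

/-- REALA: `m ≥ 2` cycles of length `p^c`, `p ∤ m` -/
def RealAStmt : Prop :=
  ∀ (p n a c m : ℕ), p.Prime → 3 ≤ p → n = p ^ a → 1 ≤ c → 2 ≤ m → ¬ p ∣ m → m * p ^ c < n →
    Real p n (Multiset.replicate m (p ^ c))

/-- V2CON: `Rev(l) ⊕ Rot(m L, m) ⊕ E` -/
def V2ConStmt : Prop :=
  ∀ (n l m L : ℕ) (ν : Multiset ℕ), 3 ≤ l → 1 ≤ m → 3 ≤ L → (∀ x ∈ ν, 3 ≤ x) →
    l + m * L + ν.sum ≤ n →
    ∃ τ : Perm (Fin n), τ.cycleType = l ::ₘ (Multiset.replicate m L + ν) ∧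
      (∀ x : Fin n, x.val < l → (τ x).val = (x.val + (l - 1)) % l) ∧
      (∀ x : Fin n, l ≤ x.val → x.val < l + m * L →
        (τ x).val = l + (x.val - l + m) % (m * L)) ∧
      (∀ x : Fin n, l + m * L ≤ x.val → l + m * L ≤ (τ x).val ∧ (τ x).val + 1 ≠ x.val) ∧
      (∀ k : ℕ, (∀ x ∈ ν, x ∣ k) → ∀ x : Fin n, l + m * L ≤ x.val → (τ ^ k) x = x)

/-- V2NS: non-solvability for the V2 construction -/
def V2NsStmt : Prop :=
  ∀ (p n a b c m : ℕ) (τ : Perm (Fin n)), p.Prime → 3 ≤ p → n = p ^ a → 1 ≤ c → c < b →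
    1 ≤ m → p ^ c + m * p ^ b < n →
    (∀ x : Fin n, x.val < p ^ c → (τ x).val = (x.val + (p ^ c - 1)) % p ^ c) →
    (∀ x : Fin n, p ^ c ≤ x.val → x.val < p ^ c + m * p ^ b →
      (τ x).val = p ^ c + (x.val - p ^ c + m) % (m * p ^ b)) →
    (∀ x : Fin n, p ^ c + m * p ^ b ≤ x.val → (τ ^ (p ^ (b - 1))) x = x) →
    ¬ Group.IsSolvable ↥(Subgroup.closure ({finRotate n, τ} : Set (Perm (Fin n))))

/-- V2NP: the product is not a `p`-element for the V2 construction -/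
def V2NpStmt : Prop :=
  ∀ (p n a l m L : ℕ) (τ : Perm (Fin n)), p.Prime → 3 ≤ p → n = p ^ a → 1 ≤ a → p ∣ l → 3 ≤ l →
    1 ≤ m → 3 ≤ L → l + m * L < n →
    (∀ x : Fin n, x.val < l → (τ x).val = (x.val + (l - 1)) % l) →
    (∀ x : Fin n, l ≤ x.val → x.val < l + m * L →
      (τ x).val = l + (x.val - l + m) % (m * L)) →
    (∀ x : Fin n, l + m * L ≤ x.val → l + m * L ≤ (τ x).val ∧ (τ x).val + 1 ≠ x.val) →
    ¬ ∃ k : ℕ, orderOf (finRotate n * τ) = p ^ k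

/-- REALV: at least two distinct cycle lengths -/
def RealVStmt : Prop :=
  ∀ (p n a b c m : ℕ) (ν : Multiset ℕ), p.Prime → 3 ≤ p → n = p ^ a → 1 ≤ c → c < b → 1 ≤ m →
    (∀ x ∈ ν, ∃ i, 1 ≤ i ∧ i < b ∧ x = p ^ i) → p ^ c + m * p ^ b + ν.sum ≤ n →
    Real p n (p ^ c ::ₘ (Multiset.replicate m (p ^ b) + ν))

/-- REAL9: three 3-cycles against a 9-cycle -/
def Real9Stmt : Prop := Real 3 9 {3, 3, 3}

/-- LIFTC: `p` periodic copies of a good permutation of `Fin N` -/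
def LiftcStmt : Prop :=
  ∀ (p N : ℕ) (v' : Perm (Fin N)), p.Prime → 1 ≤ N → Good p (finRotate N) v' →
    ∃ v : Perm (Fin (p * N)), v.cycleType = p • v'.cycleType ∧ Good p (finRotate (p * N)) v

/-- BETA: the base cases for `p = 3` on 5 and 6 points -/
def BetaStmt : Prop :=
  ∀ (n : ℕ) (μ ν : Multiset ℕ), (n = 5 ∨ n = 6) → (μ = {3} ∨ (n = 6 ∧ μ = {3, 3})) →
    (ν = {3} ∨ (n = 6 ∧ ν = {3, 3})) →
    ∃ u₀ v₀ c : Perm (Fin n), u₀.cycleType = μ ∧ v₀.cycleType = ν ∧ Good 3 u₀ v₀ ∧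
      Perm.sign c = -1 ∧ (c * v₀ = v₀ * c ∨ c * u₀ = u₀ * c)

/-! ## assembly statements -/

/-- CASE2: `u` is an `n`-cycle -/
def Case2Stmt : Prop :=
  ∀ (p : ℕ) (X : Type) [Fintype X] [DecidableEq X] (u w : Perm X) (ku kw : ℕ), p.Prime →
    3 ≤ p → 5 ≤ Fintype.card X → u ≠ 1 → w ≠ 1 → orderOf u = p ^ ku → orderOf w = p ^ kw →
    kw ≤ ku → p ^ ku = Fintype.card X →
    (∀ N, 5 ≤ N → N < Fintype.card X → Tgt p (Fin N)) → Concl p u w

/-- MAIN -/
def MainStmt : Prop :=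
  ∀ (p : ℕ), p.Prime → 3 ≤ p → ∀ n, 5 ≤ n →
    ∀ (X : Type) [Fintype X] [DecidableEq X], Fintype.card X = n → Tgt p X

end Cfsg.Agent.Helper21.PE
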