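import Mathlib
import Cfsg.Agent.Helper21.PEDefs

set_option autoImplicit false

namespace Cfsg.Agent.Helper21.PECASE2

open Equiv Cfsg.Agent.Helper21.PE

theorem pe_orderOf_ppow_of_cycleType {Y : Type} [Fintype Y] [DecidableEq Y] (p : ℕ)
    (hp : p.Prime) (g : Perm Y) (k : ℕ) (h : ∀ x ∈ g.cycleType, x ∣ p ^ k) :
    ∃ j : ℕ, orderOf g = p ^ j := by
  have h1 : orderOf g ∣ p ^ k := by
    rw [← Equiv.Perm.lcm_cycleType]
    exact Multiset.lcm_dvd.mpr h
  obtain ⟨j, _, hj⟩ := (Nat.dvd_prime_pow hp).mp h1
  exact ⟨j, hj⟩

theorem pe_case2 : CycStmt → ClsStmt → TrStmt → Tr2Stmt → ParStmt → ParaStmt → G3OStmt →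
    G3EStmt → RealBStmt → RealAStmt → RealVStmt → Real9Stmt → LiftcStmt → Case2Stmt := by
  intro hcyc hcls htr htr2 hpar hpara hg3o hg3e hB hA hV h9 hlift
  intro p X _ _ u w ku kw hp hp3 h5 hu1 hw1 hku hkw hle hfull IH
  obtain ⟨hk1, hmem, hkcard, hsum, hfullu, hall⟩ := hcyc p X u ku hp hu1 hku
  obtain ⟨hk1w, hmemw, hkcardw, hsumw, hfullw, hallw⟩ := hcyc p X w kw hp hw1 hkw
  have hcu : u.cycleType = {Fintype.card X} := hfullu hfull
  have hp2 : 2 ≤ p := hp.two_le
  rcases Nat.lt_or_eq_of_le hle with hlt | heq
  · -- `kw < ku`
    have key : ∀ (Y : Type) [Fintype Y] [DecidableEq Y] (u₀ v : Perm Y),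
        Fintype.card X = Fintype.card Y → u₀.cycleType = {Fintype.card X} →
        v.cycleType = w.cycleType → Good p u₀ v → Concl p u w := by
      intro Y _ _ u₀ v hcard hu₀ hv hg
      have hparity : v.cycleType.sum + 2 ≤ Fintype.card Y ∨ ∃ i, 2 ≤ v.cycleType.count i := by
        rw [hv, ← hcard, ← hfull]
        exact hpara p ku w.cycleType hp hp3 hk1 (fun x hx => by
          obtain ⟨i, hi1, hi2, rfl⟩ := hallw x hx
          exact ⟨i, hi1, by omega, rfl⟩)
      obtain ⟨c, hc, hcc⟩ := hpar Y v hparity
      exact htr p X Y u w u₀ v hcard (by rw [hu₀, hcu]) hv hg ⟨c, hc, Or.inl hcc⟩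
    have hrot : (finRotate (Fintype.card X)).cycleType = {Fintype.card X} :=
      cycleType_finRotate_of_le (by omega)
    have keyn : ∀ v : Perm (Fin (Fintype.card X)), v.cycleType = w.cycleType →
        Good p (finRotate (Fintype.card X)) v → Concl p u w := fun v hv hg =>
      key (Fin (Fintype.card X)) (finRotate (Fintype.card X)) v (by simp) hrot hv hg
    have hcount : 1 ≤ w.cycleType.count (p ^ kw) := Multiset.one_le_count_iff_mem.mpr hmemw
    rcases hcls p kw w.cycleType hp hk1w hallw hmemw with ⟨c, ν', hc1, hcb, hν, hν'⟩ | hrep
    · -- at least two distinct lengths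
      have hs : p ^ c + w.cycleType.count (p ^ kw) * p ^ kw + ν'.sum ≤ Fintype.card X := by
        have h1 : w.cycleType.sum = p ^ c + (w.cycleType.count (p ^ kw) * p ^ kw + ν'.sum) := by
          conv_lhs => rw [hν]
          rw [Multiset.sum_cons, Multiset.sum_add, Multiset.sum_replicate, smul_eq_mul]
        omega
      have hreal := hV p (Fintype.card X) ku kw c (w.cycleType.count (p ^ kw)) ν' hp hp3
        hfull.symm hc1 hcb hcount hν' hs
      rw [← hν] at hreal
      obtain ⟨v, hv, hg⟩ := hreal
      exact keyn v hv hg
    · -- a single length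
      obtain ⟨m, hm⟩ : ∃ m, m = w.cycleType.count (p ^ kw) := ⟨_, rfl⟩
      rw [← hm] at hrep hcount
      have hsm : m * p ^ kw ≤ Fintype.card X := by
        have h1 : w.cycleType.sum = m * p ^ kw := by
          rw [hrep, Multiset.sum_replicate, smul_eq_mul]
        omega
      have hpk : 0 < p ^ kw := pow_pos hp.pos kw
      by_cases hpm : p ∣ m
      · obtain ⟨m', rfl⟩ := hpm
        have hm'1 : 1 ≤ m' := by
          rcases Nat.eq_zero_or_pos m' with h0 | h0
          · subst h0; simp at hcount
          · exact h0
        have hku2 : 2 ≤ ku := by omega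
        by_cases hn9 : Fintype.card X = 9
        · -- `n = 9`
          have hp9 : p ^ ku = 3 ^ 2 := by rw [hfull, hn9]; norm_num
          have hp3eq : p = 3 := by
            have h1 : p ∣ 3 ^ 2 := by
              rw [← hp9]
              exact dvd_pow_self p (by omega)
            have h2 : p ∣ 3 := hp.dvd_of_dvd_pow h1
            exact (Nat.prime_dvd_prime_iff_eq hp Nat.prime_three).mp h2
          subst hp3eq
          have hku : ku = 2 := Nat.pow_right_injective (by norm_num : 2 ≤ 3) hp9
          have hkw : kw = 1 := by omega
          subst hkw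
          have hm'eq : m' = 1 := by
            rw [hn9] at hsm
            simp only [pow_one] at hsm
            omega
          subst hm'eq
          obtain ⟨v, hv, hg⟩ := h9
          have hcard : Fintype.card X = Fintype.card (Fin 9) := by simp [hn9]
          refine key (Fin 9) (finRotate 9) v hcard ?_ ?_ hg
          · rw [hn9]
            exact cycleType_finRotate_of_le (by norm_num)
          · rw [hv, hrep]
            rfl
        · -- lift from `N = n / p`
          obtain ⟨k', rfl⟩ : ∃ k', ku = k' + 1 := ⟨ku - 1, by omega⟩
          have hNn : Fintype.card X = p * p ^ k' := by rw [← hfull, pow_succ, mul_comm]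
          have hN5 : 5 ≤ p ^ k' := by
            have hk'1 : 1 ≤ k' := by omega
            have h1 : p ≤ p ^ k' := by
              calc p = p ^ 1 := (pow_one p).symm
                _ ≤ p ^ k' := Nat.pow_le_pow_right hp.pos hk'1
            by_cases hp5 : 5 ≤ p
            · omega
            · have hp4 : p ≠ 4 := by
                rintro rfl
                norm_num at hp
              have hp3eq : p = 3 := by omega
              subst hp3eq
              have hk'2 : 2 ≤ k' := by
                by_contra hcon
                have hk'eq : k' = 1 := by omega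
                subst hk'eq
                apply hn9
                rw [hNn]
                norm_num
              have : 3 ^ 2 ≤ 3 ^ k' := Nat.pow_le_pow_right (by norm_num) hk'2
              omega
          have hNlt : p ^ k' < Fintype.card X := by
            rw [hNn]
            nlinarith
          have hT := IH (p ^ k') hN5 hNlt
          -- the two elements of `Perm (Fin N)`
          have hrotN : (finRotate (p ^ k')).cycleType = {p ^ k'} :=
            cycleType_finRotate_of_le (by omega)
          have hu' : IsPE p (finRotate (p ^ k')) := by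
            refine ⟨?_, k', ?_⟩
            · intro h1
              rw [h1, Equiv.Perm.cycleType_one] at hrotN
              exact Multiset.singleton_ne_zero _ hrotN.symm
            · rw [← Equiv.Perm.lcm_cycleType, hrotN, Multiset.lcm_singleton]
              simp
          have hex : ∃ w' : Perm (Fin (p ^ k')), w'.cycleType = Multiset.replicate m' (p ^ kw) := by
            rw [Equiv.Perm.exists_with_cycleType_iff]
            refine ⟨?_, ?_⟩
            · rw [Multiset.sum_replicate, smul_eq_mul, Fintype.card_fin]
              rw [hNn] at hsm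
              have : p * (m' * p ^ kw) ≤ p * p ^ k' := by
                calc p * (m' * p ^ kw) = p * m' * p ^ kw := by ring
                  _ ≤ p * p ^ k' := hsm
              exact Nat.le_of_mul_le_mul_left this hp.pos
            · intro a ha
              rw [Multiset.eq_of_mem_replicate ha]
              calc 2 ≤ p := hp2
                _ = p ^ 1 := (pow_one p).symm
                _ ≤ p ^ kw := Nat.pow_le_pow_right hp.pos hk1w
          obtain ⟨w', hw'⟩ := hex
          have hw'PE : IsPE p w' := by
            refine ⟨?_, ?_⟩
            · intro h1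
              rw [h1, Equiv.Perm.cycleType_one] at hw'
              have h2 := congrArg Multiset.card hw'
              rw [Multiset.card_replicate, Multiset.card_zero] at h2
              omega
            · apply pe_orderOf_ppow_of_cycleType p hp w' kw
              intro x hx
              rw [hw'] at hx
              rw [Multiset.eq_of_mem_replicate hx]
          obtain ⟨g, hg1, hgood⟩ := hT (finRotate (p ^ k')) w' hu' hw'PE
          obtain ⟨v, hv, hgv⟩ := hlift p (p ^ k') (g * w' * g⁻¹) hp (by omega) hgood
          have hcard : Fintype.card X = Fintype.card (Fin (p * p ^ k')) := by simp [hNn]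
          refine key (Fin (p * p ^ k')) (finRotate (p * p ^ k')) v hcard ?_ ?_ hgv
          · rw [hNn]
            exact cycleType_finRotate_of_le (by nlinarith)
          · rw [hv, Equiv.Perm.cycleType_conj, hw', hrep, Multiset.nsmul_replicate]
      · by_cases hm1 : m = 1
        · subst hm1
          have hreal := hB p (Fintype.card X) ku kw hp hp3 hfull.symm hk1w hlt
          obtain ⟨v, hv, hg⟩ := hreal
          refine keyn v ?_ hg
          rw [hv, hrep, Multiset.replicate_one]
        · have hm2 : 2 ≤ m := by omega
          have hlt' : m * p ^ kw < Fintype.card X := by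
            refine lt_of_le_of_ne hsm ?_
            intro heq
            apply hpm
            obtain ⟨d, rfl⟩ : ∃ d, ku = kw + d := ⟨ku - kw, by omega⟩
            have hd : 1 ≤ d := by omega
            rw [← hfull, pow_add, mul_comm] at heq
            have hm : m = p ^ d := Nat.eq_of_mul_eq_mul_left hpk heq
            rw [hm]
            exact dvd_pow_self p (by omega)
          have hreal := hA p (Fintype.card X) ku kw m hp hp3 hfull.symm hk1w hm2 hpm hlt'
          obtain ⟨v, hv, hg⟩ := hreal
          refine keyn v ?_ hg
          rw [hv, hrep]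
  · -- `kw = ku`: both are `n`-cycles
    subst heq
    have hcw : w.cycleType = {Fintype.card X} := hfullw hfull
    obtain ⟨π₂, s2, g2⟩ := hg3o p (Fintype.card X) kw hp hp3 hfull.symm h5
    obtain ⟨π₁, s1, g1⟩ := hg3e p (Fintype.card X) kw hp hp3 hfull.symm h5
    exact htr2 p (Fintype.card X) X u w π₁ π₂ rfl hcu hcw s1 s2 g1 g2

end Cfsg.Agent.Helper21.PECASE2
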