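import Cfsg.Agent.Helper21.PEDefs

set_option autoImplicit false

namespace Cfsg.Agent.Helper21.PEMain

open Equiv Cfsg.Agent.Helper21.PE

theorem pe_main (hcyc : CycStmt) (hsym : SymStmt) (hgr : GreedyStmt) (hred : RedStmt)
    (hs3 : Small3Stmt) (hbeta : BetaStmt) (htr : TrStmt) (hc2 : Case2Stmt) : MainStmt := by
  intro p hp hp3 n
  induction n using Nat.strong_induction_on with
  | _ n ih =>
  intro hn X _ _ hX u w hu hw
  subst hX
  obtain ⟨hu1, ku, hku⟩ := hu
  obtain ⟨hw1, kw, hkw⟩ := hw
  have key : ∀ (u w : Perm X) (ku kw : ℕ), u ≠ 1 → w ≠ 1 → orderOf u = p ^ ku →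
      orderOf w = p ^ kw → kw ≤ ku → Concl p u w := by
    intro u w ku kw hu1 hw1 hku hkw hle
    obtain ⟨hk1, hmem, hkcard, hsum, hfull, hall⟩ := hcyc p X u ku hp hu1 hku
    obtain ⟨hk1w, hmemw, hkcardw, hsumw, hfullw, hallw⟩ := hcyc p X w kw hp hw1 hkw
    by_cases hfullcase : p ^ ku = Fintype.card X
    · exact hc2 p X u w ku kw hp hp3 hn hu1 hw1 hku hkw hle hfullcase
        (fun N hN5 hNlt => ih N hNlt hN5 (Fin N) (by simp))
    · have hlt : p ^ ku < Fintype.card X := lt_of_le_of_ne hkcard hfullcase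
      have hwpow : w ^ (p ^ ku) = 1 := by
        have h1 : p ^ kw ∣ p ^ ku := pow_dvd_pow p hle
        rw [← hkw] at h1
        exact orderOf_dvd_iff_pow_eq_one.mp h1
      have hupow : u ^ (p ^ ku) = 1 := by rw [← hku]; exact pow_orderOf_eq_one u
      by_cases h5 : 5 ≤ p ^ ku
      · obtain ⟨S, hS, hSinv, hSmv⟩ := hgr p X u ku 1 hp hupow hu1 le_rfl (by omega)
        obtain ⟨T, hT, hTinv, hTmv⟩ := hgr p X w ku 1 hp hwpow hw1 le_rfl (by omega)
        refine hred p X u w S T hp ⟨hu1, ku, hku⟩ ⟨hw1, kw, hkw⟩ (by omega) (by omega)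
          hSinv hTinv hSmv hTmv ?_
        intro Y _ _ hY
        exact ih S.card (by omega) (by omega) Y hY
      · have hp3' : p = 3 ∧ ku = 1 := by
          have h5' : p ^ ku < 5 := by omega
          have hpk : p ≤ p ^ ku := by
            calc p = p ^ 1 := (pow_one p).symm
              _ ≤ p ^ ku := Nat.pow_le_pow_right hp.pos hk1
          have hp4 : p ≠ 4 := by
            rintro rfl
            norm_num at hp
          have hpeq : p = 3 := by omega
          subst hpeq
          refine ⟨rfl, ?_⟩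
          by_contra hne
          have h2 : 2 ≤ ku := by omega
          have : 3 ^ 2 ≤ 3 ^ ku := Nat.pow_le_pow_right (by norm_num) h2
          omega
        obtain ⟨rfl, rfl⟩ := hp3'
        have hkw1 : kw = 1 := by omega
        subst hkw1
        by_cases h7 : 7 ≤ Fintype.card X
        · obtain ⟨S, hS, hSinv, hSmv⟩ := hgr 3 X u 1 2 hp hupow hu1 (by norm_num) (by omega)
          obtain ⟨T, hT, hTinv, hTmv⟩ := hgr 3 X w 1 2 hp hwpow hw1 (by norm_num) (by omega)
          refine hred 3 X u w S T hp ⟨hu1, 1, hku⟩ ⟨hw1, 1, hkw⟩ (by omega) (by omega)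
            hSinv hTinv hSmv hTmv ?_
          intro Y _ _ hY
          exact ih S.card (by omega) (by omega) Y hY
        · have hu3 : orderOf u = 3 := by simpa using hku
          have hw3 : orderOf w = 3 := by simpa using hkw
          have hcu := hs3 X u hu3 (by omega)
          have hcw := hs3 X w hw3 (by omega)
          have hn56 : Fintype.card X = 5 ∨ Fintype.card X = 6 := by omega
          obtain ⟨u₀, v₀, c, h1, h2, hg, hc, hcc⟩ :=
            hbeta (Fintype.card X) u.cycleType w.cycleType hn56 hcu hcw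
          exact htr 3 X (Fin (Fintype.card X)) u w u₀ v₀ (by simp) h1 h2 hg ⟨c, hc, hcc⟩
  rcases le_total kw ku with h | h
  · exact key u w ku kw hu1 hw1 hku hkw h
  · exact hsym p X u w (key w u kw ku hw1 hu1 hkw hku h)

end Cfsg.Agent.Helper21.PEMain
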