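import Mathlib
import Cfsg.Prelude.Def_Involutions
import Cfsg.Agent.Helper21.StrEmb

set_option autoImplicit false

/-!
# Groups in which centralizers of involutions are elementary abelian (helper21)

Setting (`Zass.Hyp T`): `T` a Sylow 2-subgroup of the finite group `G`, neither cyclic nor normal,
the centralizer of every involution an elementary abelian 2-group.  `H = N_G(T)`.
-/

namespace Cfsg.Agent.Helper21

namespace Zass

set_option linter.unusedSectionVars false

variable {G : Type*} [Group G] [Finite G]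

/-- The standing hypotheses. -/
structure Hyp (T : Sylow 2 G) : Prop where
  hnc : ¬ IsCyclic (T : Subgroup G)
  hnn : ¬ (T : Subgroup G).Normal
  hC : ∀ t : G, orderOf t = 2 → IsMulCommutative (Subgroup.centralizer ({t} : Set G)) ∧
    ∀ c ∈ Subgroup.centralizer ({t} : Set G), c ^ 2 = 1

variable {T : Sylow 2 G}

theorem isPGroup_centralizer (h : Hyp T) {t : G} (ht : orderOf t = 2) :
    IsPGroup 2 (Subgroup.centralizer ({t} : Set G)) := by
  intro c
  refine ⟨1, ?_⟩
  apply Subtype.ext
  have := (h.hC t ht).2 c.1 c.2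
  simpa using this

/-- If `T` centralizes the involution `t` then `C_G(t) = T`. -/
theorem centralizer_eq_of_le (h : Hyp T) {t : G} (ht : orderOf t = 2)
    (hle : (T : Subgroup G) ≤ Subgroup.centralizer ({t} : Set G)) :
    Subgroup.centralizer ({t} : Set G) = (T : Subgroup G) :=
  T.is_maximal' (isPGroup_centralizer h ht) hle

theorem card_ne_one (h : Hyp T) : Nat.card (T : Subgroup G) ≠ 1 := by
  intro h1
  apply h.hnc
  have : Subsingleton (T : Subgroup G) := (Nat.card_eq_one_iff_unique.mp h1).1
  infer_instance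

/-- There is an involution `z` with `C_G(z) = T`. -/
theorem exists_central (h : Hyp T) :
    ∃ z : G, orderOf z = 2 ∧ Subgroup.centralizer ({z} : Set G) = (T : Subgroup G) := by
  have hnt : Nontrivial (T : Subgroup G) := by
    rw [← Finite.one_lt_card_iff_nontrivial]
    have := card_ne_one h
    have h0 : Nat.card (T : Subgroup G) ≠ 0 := Nat.card_pos.ne'
    omega
  have hc : Nontrivial (Subgroup.center (T : Subgroup G)) := T.isPGroup'.center_nontrivial
  have hcp : IsPGroup 2 (Subgroup.center (T : Subgroup G)) := T.isPGroup'.to_subgroup _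
  obtain ⟨k, hk⟩ := IsPGroup.iff_card.mp hcp
  have hk0 : k ≠ 0 := by
    rintro rfl
    have h1 : Nat.card (Subgroup.center (T : Subgroup G)) = 1 := by simpa using hk
    have := Finite.one_lt_card_iff_nontrivial.mpr hc
    omega
  have heven : Even (Nat.card (Subgroup.center (T : Subgroup G))) := by
    rw [hk]; exact (Nat.even_pow.mpr ⟨even_two, hk0⟩)
  obtain ⟨z, hzc, hz⟩ := exists_inv_of_even_card heven
  have hz' : orderOf (z : G) = 2 := by rw [Subgroup.orderOf_coe]; exact hz
  refine ⟨(z : G), hz', centralizer_eq_of_le h hz' ?_⟩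
  intro x hx
  rw [Subgroup.mem_centralizer_iff]
  intro y hy
  rw [Set.mem_singleton_iff] at hy
  subst hy
  have := Subgroup.mem_center_iff.mp hzc ⟨x, hx⟩
  have h2 := congrArg Subtype.val this
  simpa using h2.symm

theorem sq_eq_one (h : Hyp T) {t : G} (htT : t ∈ (T : Subgroup G)) : t * t = 1 := by
  obtain ⟨z, hz, hzT⟩ := exists_central h
  have := (h.hC z hz).2 t (hzT ▸ htT)
  rwa [pow_two] at this

theorem comm (h : Hyp T) {s t : G} (hsT : s ∈ (T : Subgroup G)) (htT : t ∈ (T : Subgroup G)) :
    s * t = t * s := by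
  obtain ⟨z, hz, hzT⟩ := exists_central h
  have hcomm := (h.hC z hz).1
  have := hcomm.is_comm.comm (⟨s, hzT ▸ hsT⟩ : Subgroup.centralizer ({z} : Set G))
    ⟨t, hzT ▸ htT⟩
  exact congrArg Subtype.val this

theorem orderOf_eq_two (h : Hyp T) {t : G} (htT : t ∈ (T : Subgroup G)) (ht1 : t ≠ 1) :
    orderOf t = 2 :=
  orderOf_eq_two_of_mul_self (sq_eq_one h htT) ht1

/-- `C_G(t) = T` for every involution `t ∈ T`. -/
theorem centralizer_eq (h : Hyp T) {t : G} (htT : t ∈ (T : Subgroup G)) (ht1 : t ≠ 1) :
    Subgroup.centralizer ({t} : Set G) = (T : Subgroup G) := by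
  apply centralizer_eq_of_le h (orderOf_eq_two h htT ht1)
  intro x hx
  rw [Subgroup.mem_centralizer_iff]
  intro y hy
  rw [Set.mem_singleton_iff] at hy
  subst hy
  exact comm h htT hx

/-- An element commuting with a nontrivial element of `T` lies in `T`. -/
theorem mem_of_commute (h : Hyp T) {t x : G} (htT : t ∈ (T : Subgroup G)) (ht1 : t ≠ 1)
    (hx : x * t = t * x) : x ∈ (T : Subgroup G) := by
  rw [← centralizer_eq h htT ht1, Subgroup.mem_centralizer_iff]
  intro y hy
  rw [Set.mem_singleton_iff] at hy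
  subst hy
  exact hx.symm

/-- Every involution of `N_G(T)` lies in `T`. -/
theorem mem_of_invol_normalizer (_h : Hyp T) {s : G} (hs : orderOf s = 2)
    (hsN : s ∈ Subgroup.normalizer ((T : Subgroup G) : Set G)) : s ∈ (T : Subgroup G) := by
  have hp : IsPGroup 2 (Subgroup.zpowers s) := by
    have : Fact (Nat.Prime 2) := ⟨Nat.prime_two⟩
    apply IsPGroup.of_card (n := 1)
    rw [Nat.card_zpowers, hs, pow_one]
  have hle : Subgroup.zpowers s ≤ Subgroup.normalizer ((T : Subgroup G) : Set G) := by
    rw [Subgroup.zpowers_le]; exact hsN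
  have hsup : IsPGroup 2 (Subgroup.zpowers s ⊔ (T : Subgroup G) : Subgroup G) :=
    hp.to_sup_of_normal_right' T.isPGroup' hle
  have := T.is_maximal' hsup le_sup_right
  rw [← this]
  exact le_sup_left (a := Subgroup.zpowers s) (Subgroup.mem_zpowers s)

theorem le_normalizer (T : Sylow 2 G) :
    (T : Subgroup G) ≤ Subgroup.normalizer ((T : Subgroup G) : Set G) :=
  Subgroup.le_normalizer

theorem conj_mem_of_normalizer {x t : G} (hx : x ∈ Subgroup.normalizer ((T : Subgroup G) : Set G))
    (ht : t ∈ (T : Subgroup G)) : x * t * x⁻¹ ∈ (T : Subgroup G) :=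
  (Subgroup.mem_normalizer_iff.mp hx t).mp ht

/-- `N_G(T)` is strongly embedded. -/
theorem strEmb (h : Hyp T) :
    Cfsg.IsStronglyEmbedded (Subgroup.normalizer ((T : Subgroup G) : Set G)) := by
  refine ⟨?_, ?_, ?_⟩
  · intro htop
    exact h.hnn (Subgroup.normalizer_eq_top_iff.mp htop)
  · -- T ≤ N(T) has even order
    have hT : Even (Nat.card (T : Subgroup G)) := by
      obtain ⟨k, hk⟩ := IsPGroup.iff_card.mp T.isPGroup'
      have hk0 : k ≠ 0 := by
        rintro rfl
        exact card_ne_one h (by simpa using hk)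
      rw [hk]; exact (Nat.even_pow.mpr ⟨even_two, hk0⟩)
    have hdvd : Nat.card (T : Subgroup G) ∣
        Nat.card (Subgroup.normalizer ((T : Subgroup G) : Set G)) :=
      Subgroup.card_dvd_of_le (le_normalizer T)
    exact (even_iff_two_dvd.mpr ((even_iff_two_dvd.mp hT).trans hdvd))
  · intro g hg
    by_contra hodd
    rw [Nat.not_odd_iff_even] at hodd
    obtain ⟨s, hsD, hs⟩ := exists_inv_of_even_card hodd
    have hs1 : s ∈ (T : Subgroup G) := mem_of_invol_normalizer h hs hsD.1
    have hs2 : g⁻¹ * s * g ∈ (T : Subgroup G) := by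
      have hmem := (StrEmb.mem_map_conj_iff' _ g s).mp hsD.2
      apply mem_of_invol_normalizer h _ hmem
      have := orderOf_conj_eq g⁻¹ s
      rw [inv_inv] at this
      rw [this]; exact hs
    have hs0 : s ≠ 1 := inv_ne_one' hs
    have hs0' : g⁻¹ * s * g ≠ 1 := by
      intro h1
      apply hs0
      have : s = g * (g⁻¹ * s * g) * g⁻¹ := by group
      rw [this, h1]; group
    -- g normalizes T: for x ∈ T, g x g⁻¹ commutes with s, hence lies in T
    apply hg
    have hsub : ∀ x ∈ (T : Subgroup G), g * x * g⁻¹ ∈ (T : Subgroup G) := by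
      intro x hx
      apply mem_of_commute h hs1 hs0
      have hc := comm h hx hs2
      calc g * x * g⁻¹ * s = g * (x * (g⁻¹ * s * g)) * g⁻¹ := by group
        _ = g * ((g⁻¹ * s * g) * x) * g⁻¹ := by rw [hc]
        _ = s * (g * x * g⁻¹) := by group
    have hsub' : ∀ x ∈ (T : Subgroup G), g⁻¹ * x * g ∈ (T : Subgroup G) := by
      intro x hx
      apply mem_of_commute h hs2 hs0'
      have hc := comm h hx hs1
      calc g⁻¹ * x * g * (g⁻¹ * s * g) = g⁻¹ * (x * s) * g := by group
        _ = g⁻¹ * (s * x) * g := by rw [hc]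
        _ = g⁻¹ * s * g * (g⁻¹ * x * g) := by group
    rw [Subgroup.mem_normalizer_iff]
    intro x
    constructor
    · exact hsub x
    · intro hx
      have := hsub' _ hx
      have e : g⁻¹ * (g * x * g⁻¹) * g = x := by group
      rwa [e] at this

end Zass

end Cfsg.Agent.Helper21
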