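import Mathlib
import Cfsg.Prelude.Def_Involutions
import Cfsg.Agent.Helper21.StrEmb
import Cfsg.Agent.Helper21.Zass

set_option autoImplicit false

/-!
# Groups in which centralizers of involutions are elementary abelian, part 2 (helper21)

`H = N_G(T)` (`NT T`), `u` an involution outside `H`, `D = H ∩ uHu⁻¹` (`DD T u`).
`u` inverts `D`, `|D| = |T| - 1`, `H = D T`.
-/

namespace Cfsg.Agent.Helper21

namespace Zass

set_option linter.unusedSectionVars false

variable {G : Type*} [Group G] [Finite G]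

/-- `H = N_G(T)`. -/
abbrev NT (T : Sylow 2 G) : Subgroup G := Subgroup.normalizer ((T : Subgroup G) : Set G)

/-- `D = H ∩ uHu⁻¹`. -/
abbrev DD (T : Sylow 2 G) (u : G) : Subgroup G :=
  NT T ⊓ (NT T).map (MulAut.conj u).toMonoidHom

variable {T : Sylow 2 G}

theorem odd_card_D (h : Hyp T) {u : G} (huH : u ∉ NT T) : Odd (Nat.card (DD T u)) :=
  (strEmb h).2.2 u huH

theorem D_inf_T (h : Hyp T) {u : G} (huH : u ∉ NT T) {d : G} (hd : d ∈ DD T u)
    (hdT : d ∈ (T : Subgroup G)) : d = 1 := by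
  by_contra hd1
  exact not_mem_of_odd_card (odd_card_D h huH) (orderOf_eq_two h hdT hd1) hd

theorem D_fpf (h : Hyp T) {u : G} (huH : u ∉ NT T) {d t : G} (hd : d ∈ DD T u)
    (htT : t ∈ (T : Subgroup G)) (ht1 : t ≠ 1) (hc : d * t = t * d) : d = 1 :=
  D_inf_T h huH hd (mem_of_commute h htT ht1 hc)

theorem exists_ne_one (h : Hyp T) : ∃ t₀ ∈ (T : Subgroup G), t₀ ≠ 1 := by
  by_contra hcon
  push Not at hcon
  apply card_ne_one h
  rw [Nat.card_eq_one_iff_unique]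
  refine ⟨⟨fun a b => ?_⟩, ⟨1⟩⟩
  apply Subtype.ext
  rw [hcon a.1 a.2, hcon b.1 b.2]

/-- The involutions of `H` are the nontrivial elements of `T`. -/
theorem invol_iff (h : Hyp T) (t : G) :
    (orderOf t = 2 ∧ t ∈ NT T) ↔ (t ∈ (T : Subgroup G) ∧ t ≠ 1) := by
  constructor
  · rintro ⟨h2, hN⟩
    exact ⟨mem_of_invol_normalizer h h2 hN, inv_ne_one' h2⟩
  · rintro ⟨hT, h1⟩
    exact ⟨orderOf_eq_two h hT h1, le_normalizer T hT⟩

theorem card_invol (h : Hyp T) :
    Nat.card {t : G // orderOf t = 2 ∧ t ∈ NT T} = Nat.card (T : Subgroup G) - 1 := by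
  have e : {t : G | orderOf t = 2 ∧ t ∈ NT T} = ((T : Subgroup G) : Set G) \ {1} := by
    ext t
    rw [Set.mem_sdiff, Set.mem_singleton_iff]
    exact invol_iff h t
  have h1 : Nat.card {t : G // orderOf t = 2 ∧ t ∈ NT T}
      = Set.ncard {t : G | orderOf t = 2 ∧ t ∈ NT T} := (Nat.card_coe_set_eq _)
  rw [h1, e, Set.ncard_sdiff_singleton_of_mem (Subgroup.one_mem _)]
  congr 1

theorem card_D_le (h : Hyp T) {u : G} (huH : u ∉ NT T) :
    Nat.card (DD T u) ≤ Nat.card (T : Subgroup G) - 1 := by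
  rw [← card_invol h]
  obtain ⟨t₀, ht₀, ht₀1⟩ := exists_ne_one h
  have hmem : ∀ d : DD T u, orderOf ((d : G) * t₀ * (d : G)⁻¹) = 2 ∧
      (d : G) * t₀ * (d : G)⁻¹ ∈ NT T := by
    intro d
    refine ⟨?_, ?_⟩
    · rw [orderOf_conj_eq]; exact orderOf_eq_two h ht₀ ht₀1
    · exact le_normalizer T (conj_mem_of_normalizer d.2.1 ht₀)
  refine Nat.card_le_card_of_injective
    (fun d : DD T u => (⟨(d : G) * t₀ * (d : G)⁻¹, hmem d⟩ :
      {t : G // orderOf t = 2 ∧ t ∈ NT T})) ?_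
  intro d d' hdd
  have h1 : (d : G) * t₀ * (d : G)⁻¹ = (d' : G) * t₀ * (d' : G)⁻¹ := congrArg Subtype.val hdd
  have h2 : ((d' : G)⁻¹ * (d : G)) * t₀ = t₀ * ((d' : G)⁻¹ * (d : G)) := by
    calc ((d' : G)⁻¹ * (d : G)) * t₀ = (d' : G)⁻¹ * ((d : G) * t₀ * (d : G)⁻¹) * (d : G) := by
          group
      _ = (d' : G)⁻¹ * ((d' : G) * t₀ * (d' : G)⁻¹) * (d : G) := by rw [h1]
      _ = t₀ * ((d' : G)⁻¹ * (d : G)) := by group
  have h3 : (d' : G)⁻¹ * (d : G) = 1 :=
    D_fpf h huH ((DD T u).mul_mem ((DD T u).inv_mem d'.2) d.2) ht₀ ht₀1 h2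
  apply Subtype.ext
  have : (d : G) = (d' : G) * ((d' : G)⁻¹ * (d : G)) := by group
  rw [this, h3, mul_one]

/-- The map `i ↦ u⁻¹ i` from involutions sending `H` to `uH` into `D`. -/
theorem swap_mem_D {u : G} (hu : orderOf u = 2) {i : G} (hi : orderOf i = 2)
    (hiq : i • (QuotientGroup.mk 1 : G ⧸ NT T) = u • (QuotientGroup.mk 1 : G ⧸ NT T)) :
    u⁻¹ * i ∈ DD T u := by
  have huu := inv_mul_self_eq hu
  have hii := inv_mul_self_eq hi
  have hui := inv_inv_eq_self hu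
  have hd1 : u⁻¹ * i ∈ NT T := by
    rw [← smul_base_eq_iff (NT T), mul_smul, hiq, ← mul_smul, inv_mul_cancel, one_smul]
  have hd2 : u⁻¹ * i ∈ (NT T).map (MulAut.conj u).toMonoidHom := by
    rw [StrEmb.mem_map_conj_iff']
    have : u⁻¹ * (u⁻¹ * i) * u = i * u := by
      rw [hui]
      calc u * (u * i) * u = (u * u) * i * u := by group
        _ = i * u := by rw [huu, one_mul]
    rw [this, ← smul_base_eq_iff (NT T), mul_smul, ← hiq, ← mul_smul, hii, one_smul]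
  exact ⟨hd1, hd2⟩

theorem card_swap_eq (h : Hyp T) {u : G} (huH : u ∉ NT T) :
    Nat.card {i : G // orderOf i = 2 ∧
      i • (QuotientGroup.mk 1 : G ⧸ NT T) = u • (QuotientGroup.mk 1 : G ⧸ NT T)}
      = Nat.card (T : Subgroup G) - 1 := by
  rw [← card_invol h]
  apply StrEmb.card_swap (strEmb h)
  intro hq
  exact huH ((smul_base_eq_iff (NT T) u).mp hq.symm)

/-- Every element of `D` is `u⁻¹ i` for an involution `i`, and `|D| = |T| - 1`. -/
theorem D_key (h : Hyp T) {u : G} (hu : orderOf u = 2) (huH : u ∉ NT T) :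
    Nat.card (DD T u) = Nat.card (T : Subgroup G) - 1 ∧
      ∀ d ∈ DD T u, orderOf (u * d) = 2 := by
  let f : {i : G // orderOf i = 2 ∧
      i • (QuotientGroup.mk 1 : G ⧸ NT T) = u • (QuotientGroup.mk 1 : G ⧸ NT T)} → DD T u :=
    fun i => ⟨u⁻¹ * i.1, swap_mem_D hu i.2.1 i.2.2⟩
  have hf : Function.Injective f := by
    intro i j hij
    have h1 : u⁻¹ * i.1 = u⁻¹ * j.1 := congrArg Subtype.val hij
    exact Subtype.ext (mul_left_cancel h1)
  have hle1 := Nat.card_le_card_of_injective f hf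
  rw [card_swap_eq h huH] at hle1
  have hle2 := card_D_le h huH
  have hbij : Function.Bijective f := by
    apply hf.bijective_of_nat_card_le
    rw [card_swap_eq h huH]; exact hle2
  refine ⟨le_antisymm hle2 hle1, ?_⟩
  intro d hd
  obtain ⟨i, hi⟩ := hbij.2 ⟨d, hd⟩
  have h1 : u⁻¹ * i.1 = d := congrArg Subtype.val hi
  have : u * d = i.1 := by rw [← h1]; group
  rw [this]; exact i.2.1

theorem card_D (h : Hyp T) {u : G} (hu : orderOf u = 2) (huH : u ∉ NT T) :
    Nat.card (DD T u) = Nat.card (T : Subgroup G) - 1 := (D_key h hu huH).1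

/-- `u` inverts `D`. -/
theorem inverts (h : Hyp T) {u : G} (hu : orderOf u = 2) (huH : u ∉ NT T) {d : G}
    (hd : d ∈ DD T u) : u * d * u⁻¹ = d⁻¹ := by
  have h2 := inv_mul_self_eq ((D_key h hu huH).2 d hd)
  rw [inv_inv_eq_self hu]
  have : u * d * u = (u * d * (u * d)) * d⁻¹ := by group
  rw [this, h2, one_mul]

/-- `H = D T`. -/
theorem exists_mul (h : Hyp T) {u : G} (hu : orderOf u = 2) (huH : u ∉ NT T) {x : G}
    (hx : x ∈ NT T) : ∃ d ∈ DD T u, ∃ t ∈ (T : Subgroup G), x = d * t := by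
  obtain ⟨t₀, ht₀, ht₀1⟩ := exists_ne_one h
  have h1 : x * t₀ * x⁻¹ ∈ (T : Subgroup G) := conj_mem_of_normalizer hx ht₀
  have ho : orderOf (x * t₀ * x⁻¹) = 2 := by
    rw [orderOf_conj_eq]; exact orderOf_eq_two h ht₀ ht₀1
  obtain ⟨d, hd, hdc⟩ := StrEmb.exists_conj_in_D (strEmb h) hu huH
    (orderOf_eq_two h ht₀ ht₀1) (le_normalizer T ht₀) ho (le_normalizer T h1)
  refine ⟨d, hd, d⁻¹ * x, ?_, by group⟩
  apply mem_of_commute h ht₀ ht₀1
  calc d⁻¹ * x * t₀ = d⁻¹ * (x * t₀ * x⁻¹) * x := by group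
    _ = d⁻¹ * (d * t₀ * d⁻¹) * x := by rw [hdc]
    _ = t₀ * (d⁻¹ * x) := by group

theorem isComplement' (h : Hyp T) {u : G} (hu : orderOf u = 2) (huH : u ∉ NT T) :
    Subgroup.IsComplement' ((DD T u).subgroupOf (NT T))
      ((T : Subgroup G).subgroupOf (NT T)) := by
  apply Subgroup.isComplement'_of_disjoint_and_mul_eq_univ
  · rw [Subgroup.disjoint_def]
    intro x hx1 hx2
    rw [Subgroup.mem_subgroupOf] at hx1 hx2
    apply Subtype.ext
    exact D_inf_T h huH hx1 hx2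
  · rw [Set.eq_univ_iff_forall]
    intro x
    obtain ⟨d, hd, t, ht, hxdt⟩ := exists_mul h hu huH x.2
    rw [Set.mem_mul]
    refine ⟨⟨d, hd.1⟩, ?_, ⟨t, le_normalizer T ht⟩, ?_, ?_⟩
    · exact Subgroup.mem_subgroupOf.mpr hd
    · exact Subgroup.mem_subgroupOf.mpr ht
    · apply Subtype.ext
      exact hxdt.symm

theorem card_NT (h : Hyp T) {u : G} (hu : orderOf u = 2) (huH : u ∉ NT T) :
    Nat.card (NT T) = Nat.card (T : Subgroup G) * (Nat.card (T : Subgroup G) - 1) := by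
  have hc := (isComplement' h hu huH).card_mul_card
  have e1 : Nat.card ((DD T u).subgroupOf (NT T)) = Nat.card (DD T u) :=
    Nat.card_congr (Subgroup.subgroupOfEquivOfLe (inf_le_left)).toEquiv
  have e2 : Nat.card ((T : Subgroup G).subgroupOf (NT T)) = Nat.card (T : Subgroup G) :=
    Nat.card_congr (Subgroup.subgroupOfEquivOfLe (le_normalizer T)).toEquiv
  rw [e1, e2, card_D h hu huH] at hc
  rw [← hc, mul_comm]

end Zass

end Cfsg.Agent.Helper21
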