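import Mathlib
import Cfsg.Prelude.Def_Involutions
import Cfsg.Agent.Helper21.StrEmb
import Cfsg.Agent.Helper21.Zass
import Cfsg.Agent.Helper21.Zass2

set_option autoImplicit false

/-!
# Groups in which centralizers of involutions are elementary abelian, part 3 (helper21)

`H = N_G(T)` (`NT T`), `u` an involution outside `H`, `D = H ∩ uHu⁻¹` (`DD T u`).
`N_G(D) = D⟨u⟩`, the fixed points of `D` on `G ⧸ H` are `H` and `uH`.
-/

namespace Cfsg.Agent.Helper21

namespace Zass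

set_option linter.unusedSectionVars false

variable {G : Type*} [Group G] [Finite G] {T : Sylow 2 G}

theorem three_le_card (h : Hyp T) : 3 ≤ Nat.card (T : Subgroup G) := by
  obtain ⟨k, hk⟩ := IsPGroup.iff_card.mp T.isPGroup'
  have h1 := card_ne_one h
  have h2 : Nat.card (T : Subgroup G) ≠ 2 := by
    intro h2
    have : Fact (Nat.Prime 2) := ⟨Nat.prime_two⟩
    exact h.hnc (isCyclic_of_prime_card h2)
  have h0 : Nat.card (T : Subgroup G) ≠ 0 := Nat.card_pos.ne'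
  omega

theorem exists_D_ne_one (h : Hyp T) {u : G} (hu : orderOf u = 2) (huH : u ∉ NT T) :
    ∃ d ∈ DD T u, d ≠ 1 := by
  by_contra hcon
  push Not at hcon
  have h3 := three_le_card h
  have hc := card_D h hu huH
  have : Nat.card (DD T u) = 1 := by
    rw [Nat.card_eq_one_iff_unique]
    refine ⟨⟨fun a b => ?_⟩, ⟨1⟩⟩
    apply Subtype.ext
    rw [hcon a.1 a.2, hcon b.1 b.2]
  omega

/-- `D` is abelian. -/
theorem D_comm (h : Hyp T) {u : G} (hu : orderOf u = 2) (huH : u ∉ NT T) {d₁ d₂ : G}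
    (h₁ : d₁ ∈ DD T u) (h₂ : d₂ ∈ DD T u) : d₁ * d₂ = d₂ * d₁ := by
  have e1 := inverts h hu huH h₁
  have e2 := inverts h hu huH h₂
  have e3 := inverts h hu huH ((DD T u).mul_mem h₁ h₂)
  have e4 : u * (d₁ * d₂) * u⁻¹ = (u * d₁ * u⁻¹) * (u * d₂ * u⁻¹) := by group
  rw [e4, e1, e2] at e3
  have e5 : (d₁⁻¹ * d₂⁻¹)⁻¹ = ((d₁ * d₂)⁻¹)⁻¹ := by rw [e3]
  rw [inv_inv, mul_inv_rev, inv_inv, inv_inv] at e5
  exact e5.symm

/-- An element of `D` equal to its inverse is trivial. -/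
theorem D_eq_one_of_inv (h : Hyp T) {u : G} (huH : u ∉ NT T) {d : G}
    (hd : d ∈ DD T u) (hdi : d = d⁻¹) : d = 1 := by
  by_contra hd1
  have hdd : d * d = 1 := by
    nth_rewrite 1 [hdi]; exact inv_mul_cancel d
  exact not_mem_of_odd_card (odd_card_D h huH) (orderOf_eq_two_of_mul_self hdd hd1) hd

/-- `N_H(D) = D`. -/
theorem mem_D_of_normalizes (h : Hyp T) {u : G} (hu : orderOf u = 2) (huH : u ∉ NT T) {x : G}
    (hx : x ∈ NT T) (hxn : ∀ d ∈ DD T u, x * d * x⁻¹ ∈ DD T u) : x ∈ DD T u := by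
  obtain ⟨d₀, hd₀, t, ht, rfl⟩ := exists_mul h hu huH hx
  obtain ⟨d, hd, hd1⟩ := exists_D_ne_one h hu huH
  -- `t` normalizes `D`
  have htn : ∀ d ∈ DD T u, t * d * t⁻¹ ∈ DD T u := by
    intro d hd
    have h1 := hxn d hd
    have h2 := (DD T u).mul_mem ((DD T u).mul_mem ((DD T u).inv_mem hd₀) h1) hd₀
    have e : d₀⁻¹ * (d₀ * t * d * (d₀ * t)⁻¹) * d₀ = t * d * t⁻¹ := by group
    rwa [e] at h2
  have hc1 : t * d * t⁻¹ * d⁻¹ ∈ DD T u := (DD T u).mul_mem (htn d hd) ((DD T u).inv_mem hd)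
  have hc2 : t * d * t⁻¹ * d⁻¹ ∈ (T : Subgroup G) := by
    have h1 : d * t⁻¹ * d⁻¹ ∈ (T : Subgroup G) :=
      conj_mem_of_normalizer hd.1 ((T : Subgroup G).inv_mem ht)
    have e : t * d * t⁻¹ * d⁻¹ = t * (d * t⁻¹ * d⁻¹) := by group
    rw [e]; exact (T : Subgroup G).mul_mem ht h1
  have hc3 := D_inf_T h huH hc1 hc2
  have hcomm : d * t = t * d := by
    have e : t * d = (t * d * t⁻¹ * d⁻¹) * (d * t) := by group
    rw [e, hc3, one_mul]
  have ht1 : t = 1 := by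
    by_contra ht1
    exact hd1 (D_fpf h huH hd ht ht1 hcomm)
  rw [ht1, mul_one]; exact hd₀

/-- For a coset `z ≠ H` there is an involution `w` with `w • H = z`. -/
theorem exists_invol_to (h : Hyp T) {z : G ⧸ NT T} (hz : z ≠ QuotientGroup.mk 1) :
    ∃ w : G, orderOf w = 2 ∧ w ∉ NT T ∧ w • (QuotientGroup.mk 1 : G ⧸ NT T) = z := by
  have hc := StrEmb.card_swap (strEmb h) (Ne.symm hz)
  rw [card_invol h] at hc
  have h3 := three_le_card h
  have hpos : 0 < Nat.card {i : G // orderOf i = 2 ∧ i • (QuotientGroup.mk 1 : G ⧸ NT T) = z} := by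
    omega
  obtain ⟨⟨w, hw2, hwz⟩⟩ := (Nat.card_pos_iff.mp hpos).1
  refine ⟨w, hw2, ?_, hwz⟩
  intro hwH
  exact hz (hwz ▸ ((smul_base_eq_iff (NT T) w).mpr hwH))

/-- An element of `H` fixing `w • H` lies in `H ∩ wHw⁻¹`. -/
theorem mem_DD_iff (T : Sylow 2 G) (w d : G) :
    d ∈ DD T w ↔ d ∈ NT T ∧ d • (w • (QuotientGroup.mk 1 : G ⧸ NT T)) = w • QuotientGroup.mk 1 := by
  have e : d • (w • (QuotientGroup.mk 1 : G ⧸ NT T)) = w • QuotientGroup.mk 1 ↔
      w⁻¹ * d * w ∈ NT T := by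
    have := smul_mk_eq_iff (NT T) d w
    have e2 : w • (QuotientGroup.mk 1 : G ⧸ NT T) = QuotientGroup.mk w := by
      rw [MulAction.Quotient.smul_mk, smul_eq_mul, mul_one]
    rw [e2]; exact this
  rw [e, ← StrEmb.mem_map_conj_iff']
  exact Iff.rfl

/-- If `D` fixes `w • H` (`w` an involution outside `H`), then `H ∩ wHw⁻¹ = D` . -/
theorem DD_eq_of_fix (h : Hyp T) {u : G} (hu : orderOf u = 2) (huH : u ∉ NT T) {w : G}
    (hw : orderOf w = 2) (hwH : w ∉ NT T)
    (hfix : ∀ d ∈ DD T u, d • (w • (QuotientGroup.mk 1 : G ⧸ NT T)) = w • QuotientGroup.mk 1) :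
    DD T u = DD T w := by
  apply Subgroup.eq_of_le_of_card_ge
  · intro d hd
    exact (mem_DD_iff T w d).mpr ⟨hd.1, hfix d hd⟩
  · rw [card_D h hu huH, card_D h hw hwH]

/-- The fixed points of `D` on `G ⧸ H` are `H` and `uH`. -/
theorem fix_D (h : Hyp T) {u : G} (hu : orderOf u = 2) (huH : u ∉ NT T) {z : G ⧸ NT T}
    (hz : ∀ d ∈ DD T u, d • z = z) :
    z = QuotientGroup.mk 1 ∨ z = u • (QuotientGroup.mk 1 : G ⧸ NT T) := by
  by_contra hcon
  push Not at hcon
  obtain ⟨hz0, hzu⟩ := hcon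
  have huu := inv_mul_self_eq hu
  obtain ⟨w₂, hw₂, hw₂H, hw₂z⟩ := exists_invol_to h hz0
  have hw₂w₂ := inv_mul_self_eq hw₂
  have hD2 : DD T u = DD T w₂ := DD_eq_of_fix h hu huH hw₂ hw₂H (by rw [hw₂z]; exact hz)
  -- `c = u w₂` centralizes `D`
  have hcent : ∀ d ∈ DD T u, (u * w₂) * d * (u * w₂)⁻¹ = d := by
    intro d hd
    have e1 : w₂ * d * w₂⁻¹ = d⁻¹ := inverts h hw₂ hw₂H (hD2 ▸ hd)
    have e2 : u * d⁻¹ * u⁻¹ = d⁻¹⁻¹ := inverts h hu huH ((DD T u).inv_mem hd)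
    calc (u * w₂) * d * (u * w₂)⁻¹ = u * (w₂ * d * w₂⁻¹) * u⁻¹ := by group
      _ = d := by rw [e1, e2, inv_inv]
  have hcent' : ∀ d ∈ DD T u, d * (u * w₂) = (u * w₂) * d := by
    intro d hd
    have := hcent d hd
    calc d * (u * w₂) = ((u * w₂) * d * (u * w₂)⁻¹) * (u * w₂) := by rw [this]
      _ = (u * w₂) * d := by group
  -- `p = c • H = u • z ≠ H`
  have hp : (u * w₂) • (QuotientGroup.mk 1 : G ⧸ NT T) = u • z := by
    rw [mul_smul, hw₂z]
  have hp0 : u • z ≠ (QuotientGroup.mk 1 : G ⧸ NT T) := by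
    intro hp0
    apply hzu
    calc z = (u * u) • z := by rw [huu, one_smul]
      _ = u • (QuotientGroup.mk 1 : G ⧸ NT T) := by rw [mul_smul, hp0]
  obtain ⟨w₃, hw₃, hw₃H, hw₃p⟩ := exists_invol_to h hp0
  have hw₃w₃ := inv_mul_self_eq hw₃
  have hD3 : DD T u = DD T w₃ := by
    apply DD_eq_of_fix h hu huH hw₃ hw₃H
    intro d hd
    rw [hw₃p, ← hp, ← mul_smul, hcent' d hd, mul_smul]
    congr 1
    exact (smul_base_eq_iff (NT T) d).mpr hd.1
  -- `x = w₃ c ∈ H` inverts `D`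
  have hxH : w₃ * (u * w₂) ∈ NT T := by
    rw [← smul_base_eq_iff (NT T), mul_smul, hp, ← hw₃p, ← mul_smul, hw₃w₃, one_smul]
  have hxinv : ∀ d ∈ DD T u, (w₃ * (u * w₂)) * d * (w₃ * (u * w₂))⁻¹ = d⁻¹ := by
    intro d hd
    have e1 : w₃ * d * w₃⁻¹ = d⁻¹ := inverts h hw₃ hw₃H (hD3 ▸ hd)
    calc (w₃ * (u * w₂)) * d * (w₃ * (u * w₂))⁻¹
        = w₃ * ((u * w₂) * d * (u * w₂)⁻¹) * w₃⁻¹ := by group
      _ = d⁻¹ := by rw [hcent d hd, e1]
  have hxD : w₃ * (u * w₂) ∈ DD T u := by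
    apply mem_D_of_normalizes h hu huH hxH
    intro d hd
    rw [hxinv d hd]; exact (DD T u).inv_mem hd
  obtain ⟨d, hd, hd1⟩ := exists_D_ne_one h hu huH
  apply hd1
  apply D_eq_one_of_inv h huH hd
  have e1 := hxinv d hd
  have e2 := D_comm h hu huH hxD hd
  rw [e2, mul_inv_cancel_right] at e1
  exact e1

theorem u_mem_normalizer (h : Hyp T) {u : G} (hu : orderOf u = 2) (huH : u ∉ NT T) :
    u ∈ Subgroup.normalizer ((DD T u : Subgroup G) : Set G) := by
  rw [Subgroup.mem_normalizer_iff]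
  intro d
  constructor
  · intro hd
    rw [inverts h hu huH hd]; exact (DD T u).inv_mem hd
  · intro hd
    have e := inverts h hu huH hd
    have hui := inv_inv_eq_self hu
    have huu := inv_mul_self_eq hu
    have e2 : u * (u * d * u⁻¹) * u⁻¹ = d := by
      rw [hui]
      calc u * (u * d * u) * u = (u * u) * d * (u * u) := by group
        _ = d := by rw [huu, one_mul, mul_one]
    rw [e2] at e
    have := (DD T u).inv_mem hd
    rw [← e] at this
    exact this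

/-- `N_G(D) = D⟨u⟩`. -/
theorem normalizer_D (h : Hyp T) {u : G} (hu : orderOf u = 2) (huH : u ∉ NT T) :
    Subgroup.normalizer ((DD T u : Subgroup G) : Set G) = DD T u ⊔ Subgroup.zpowers u := by
  apply le_antisymm
  · intro g hg
    have hgn : ∀ d ∈ DD T u, g * d * g⁻¹ ∈ DD T u := fun d hd =>
      (Subgroup.mem_normalizer_iff.mp hg d).mp hd
    have hgn' : ∀ d ∈ DD T u, g⁻¹ * d * g ∈ DD T u := fun d hd => by
      have := (Subgroup.mem_normalizer_iff.mp ((Subgroup.normalizer _).inv_mem hg) d).mp hd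
      simpa using this
    -- `g • H` is fixed by `D`
    have hfix : ∀ d ∈ DD T u, d • (g • (QuotientGroup.mk 1 : G ⧸ NT T)) = g • QuotientGroup.mk 1 := by
      intro d hd
      have e : d * g = g * (g⁻¹ * d * g) := by group
      rw [← mul_smul, e, mul_smul]
      congr 1
      exact (smul_base_eq_iff (NT T) _).mpr (hgn' d hd).1
    rcases fix_D h hu huH hfix with h0 | h1
    · have hgH : g ∈ NT T := (smul_base_eq_iff (NT T) g).mp h0
      exact le_sup_left (a := DD T u) (mem_D_of_normalizes h hu huH hgH hgn)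
    · have hgH : u⁻¹ * g ∈ NT T := by
        rw [← smul_base_eq_iff (NT T), mul_smul, h1, ← mul_smul, inv_mul_cancel, one_smul]
      have hun := u_mem_normalizer h hu huH
      have hugn : u⁻¹ * g ∈ Subgroup.normalizer ((DD T u : Subgroup G) : Set G) :=
        (Subgroup.normalizer _).mul_mem ((Subgroup.normalizer _).inv_mem hun) hg
      have hugD : u⁻¹ * g ∈ DD T u := mem_D_of_normalizes h hu huH hgH
        (fun d hd => (Subgroup.mem_normalizer_iff.mp hugn d).mp hd)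
      have e : g = u * (u⁻¹ * g) := by group
      rw [e]
      exact (DD T u ⊔ Subgroup.zpowers u).mul_mem
        (le_sup_right (b := Subgroup.zpowers u) (Subgroup.mem_zpowers u))
        (le_sup_left (a := DD T u) hugD)
  · rw [sup_le_iff]
    refine ⟨Subgroup.le_normalizer, ?_⟩
    rw [Subgroup.zpowers_le]
    exact u_mem_normalizer h hu huH

/-- The cosets fixed by `D`. -/
theorem fix_D_iff (h : Hyp T) {u : G} (hu : orderOf u = 2) (huH : u ∉ NT T) (g : G) :
    (∀ d ∈ DD T u, d • (QuotientGroup.mk g : G ⧸ NT T) = QuotientGroup.mk g) ↔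
      ((QuotientGroup.mk g : G ⧸ NT T) = QuotientGroup.mk 1 ∨
        (QuotientGroup.mk g : G ⧸ NT T) = QuotientGroup.mk u) := by
  have e2 : u • (QuotientGroup.mk 1 : G ⧸ NT T) = QuotientGroup.mk u := by
    rw [MulAction.Quotient.smul_mk, smul_eq_mul, mul_one]
  constructor
  · intro hfix
    have := fix_D h hu huH hfix
    rwa [e2] at this
  · rintro (h0 | h1)
    · intro d hd
      rw [h0]; exact (smul_base_eq_iff (NT T) d).mpr hd.1
    · intro d hd
      rw [h1, ← e2]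
      exact ((mem_DD_iff T u d).mp hd).2

end Zass

end Cfsg.Agent.Helper21
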