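import Mathlib
import Cfsg.Prelude.Def_Involutions
import Cfsg.Agent.Helper21.StrEmb
import Cfsg.Agent.Helper21.Zass
import Cfsg.Agent.Helper21.Zass2
import Cfsg.Agent.Helper21.Zass3

set_option autoImplicit false

/-!
# Groups in which centralizers of involutions are elementary abelian, part 4 (helper21)

`G` is sharply 3-transitive on `G ⧸ N_G(T)` and `T` is regular on the cosets `≠ H`.
-/

namespace Cfsg.Agent.Helper21

namespace Zass

set_option linter.unusedSectionVars false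

variable {G : Type*} [Group G] [Finite G] {T : Sylow 2 G}

/-- `C_H(d) ≤ D` for `1 ≠ d ∈ D`. -/
theorem mem_D_of_commute (h : Hyp T) {u : G} (hu : orderOf u = 2) (huH : u ∉ NT T) {d : G}
    (hd : d ∈ DD T u) (hd1 : d ≠ 1) {x : G} (hx : x ∈ NT T) (hc : x * d = d * x) :
    x ∈ DD T u := by
  obtain ⟨d₀, hd₀, t, ht, rfl⟩ := exists_mul h hu huH hx
  have hcomm : d * t = t * d := by
    have e0 := D_comm h hu huH hd₀ hd
    have e1 : d₀ * (t * d) = d₀ * (d * t) := by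
      calc d₀ * (t * d) = d₀ * t * d := by group
        _ = d * (d₀ * t) := hc
        _ = (d * d₀) * t := by group
        _ = (d₀ * d) * t := by rw [e0]
        _ = d₀ * (d * t) := by group
    exact (mul_left_cancel e1).symm
  have ht1 : t = 1 := by
    by_contra ht1
    exact hd1 (D_fpf h huH hd ht ht1 hcomm)
  rw [ht1, mul_one]; exact hd₀

/-- A nontrivial element of `D` fixes only the cosets `H` and `uH`. -/
theorem fix_elt (h : Hyp T) {u : G} (hu : orderOf u = 2) (huH : u ∉ NT T) {d : G}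
    (hd : d ∈ DD T u) (hd1 : d ≠ 1) {z : G ⧸ NT T} (hz : d • z = z) :
    z = QuotientGroup.mk 1 ∨ z = u • (QuotientGroup.mk 1 : G ⧸ NT T) := by
  by_cases hz0 : z = QuotientGroup.mk 1
  · exact Or.inl hz0
  obtain ⟨w, hw, hwH, hwz⟩ := exists_invol_to h hz0
  have hdw : d ∈ DD T w := (mem_DD_iff T w d).mpr ⟨hd.1, by rw [hwz]; exact hz⟩
  have hle : DD T u ≤ DD T w := by
    intro x hx
    exact mem_D_of_commute h hw hwH hdw hd1 hx.1 (D_comm h hu huH hx hd)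
  have heq : DD T u = DD T w := by
    apply Subgroup.eq_of_le_of_card_ge hle
    rw [card_D h hu huH, card_D h hw hwH]
  apply fix_D h hu huH
  intro x hx
  rw [← hwz]
  exact ((mem_DD_iff T w x).mp (heq ▸ hx)).2

/-- `T` acts freely on the cosets `≠ H`. -/
theorem T_free (h : Hyp T) {t : G} (ht : t ∈ (T : Subgroup G)) {z : G ⧸ NT T}
    (hz : z ≠ QuotientGroup.mk 1) (htz : t • z = z) : t = 1 := by
  by_contra ht1
  have h2 := orderOf_eq_two h ht ht1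
  have h0 : t • (QuotientGroup.mk 1 : G ⧸ NT T) = QuotientGroup.mk 1 :=
    (smul_base_eq_iff (NT T) t).mpr (le_normalizer T ht)
  exact hz (StrEmb.fix_unique (strEmb h) h2 htz h0)

theorem smul_ne_base {x : G} (hx : x ∈ NT T) {z : G ⧸ NT T}
    (hz : z ≠ QuotientGroup.mk 1) : x • z ≠ QuotientGroup.mk 1 := by
  intro h1
  apply hz
  have h0 : x⁻¹ • (QuotientGroup.mk 1 : G ⧸ NT T) = QuotientGroup.mk 1 :=
    (smul_base_eq_iff (NT T) x⁻¹).mpr ((NT T).inv_mem hx)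
  rw [← h0, ← h1, ← mul_smul, inv_mul_cancel, one_smul]

/-- `T` is transitive on the cosets `≠ H`. -/
theorem T_trans (h : Hyp T) {x y : G ⧸ NT T} (hx : x ≠ QuotientGroup.mk 1)
    (hy : y ≠ QuotientGroup.mk 1) : ∃ t ∈ (T : Subgroup G), t • x = y := by
  obtain ⟨wx, hwx, hwxH, hwxx⟩ := exists_invol_to h hx
  obtain ⟨wy, hwy, hwyH, hwyy⟩ := exists_invol_to h hy
  obtain ⟨d', hd', hd'1⟩ := exists_D_ne_one h hwy hwyH
  obtain ⟨d, hd, t₀, ht₀, hdt⟩ := exists_mul h hwx hwxH hd'.1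
  have hd1 : d ≠ 1 := by
    rintro rfl
    rw [one_mul] at hdt
    exact hd'1 (D_inf_T h hwyH hd' (hdt ▸ ht₀))
  -- the map `s ↦ d⁻¹ s d s⁻¹` on `T`
  have hmem : ∀ s : (T : Subgroup G), d⁻¹ * (s : G) * d * (s : G)⁻¹ ∈ (T : Subgroup G) := by
    intro s
    have h1 : d⁻¹ * (s : G) * d⁻¹⁻¹ ∈ (T : Subgroup G) :=
      conj_mem_of_normalizer ((NT T).inv_mem hd.1) s.2
    rw [inv_inv] at h1
    exact (T : Subgroup G).mul_mem h1 ((T : Subgroup G).inv_mem s.2)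
  let φ : ↥(T : Subgroup G) → ↥(T : Subgroup G) := fun s => ⟨d⁻¹ * (s : G) * d * (s : G)⁻¹, hmem s⟩
  have hφ : Function.Injective φ := by
    intro s s' hss
    have h1 : d⁻¹ * (s : G) * d * (s : G)⁻¹ = d⁻¹ * (s' : G) * d * (s' : G)⁻¹ :=
      congrArg Subtype.val hss
    have h2 : d * ((s' : G)⁻¹ * (s : G)) = ((s' : G)⁻¹ * (s : G)) * d := by
      have e1 : (s : G) * d * (s : G)⁻¹ = (s' : G) * d * (s' : G)⁻¹ := by
        have := congrArg (fun z => d * z) h1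
        simpa [mul_assoc] using this
      calc d * ((s' : G)⁻¹ * (s : G)) = (s' : G)⁻¹ * ((s' : G) * d * (s' : G)⁻¹) * (s : G) := by
            group
        _ = (s' : G)⁻¹ * ((s : G) * d * (s : G)⁻¹) * (s : G) := by rw [e1]
        _ = ((s' : G)⁻¹ * (s : G)) * d := by group
    have h3 : (s' : G)⁻¹ * (s : G) = 1 := by
      by_contra hne
      exact hd1 (D_fpf h hwxH hd
        ((T : Subgroup G).mul_mem ((T : Subgroup G).inv_mem s'.2) s.2) hne h2)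
    apply Subtype.ext
    have : (s : G) = (s' : G) * ((s' : G)⁻¹ * (s : G)) := by group
    rw [this, h3, mul_one]
  obtain ⟨s, hs⟩ := (Finite.injective_iff_surjective.mp hφ) ⟨t₀, ht₀⟩
  have hs' : d⁻¹ * (s : G) * d * (s : G)⁻¹ = t₀ := congrArg Subtype.val hs
  have hconj : (s : G) * d * (s : G)⁻¹ = d' := by
    rw [hdt, ← hs']; group
  refine ⟨(s : G), s.2, ?_⟩
  -- `d'` fixes `s • x`
  have hdx : d • x = x := by
    rw [← hwxx]; exact ((mem_DD_iff T wx d).mp hd).2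
  have hfix : d' • ((s : G) • x) = (s : G) • x := by
    rw [← hconj]; exact StrEmb.conj_fix hdx
  rcases fix_elt h hwy hwyH hd' hd'1 hfix with h0 | h1
  · exact absurd h0 (smul_ne_base (le_normalizer T s.2) hx)
  · rw [h1, hwyy]

/-- `T` is regular on the cosets `≠ H`. -/
theorem T_regular (h : Hyp T) {x y : G ⧸ NT T} (hx : x ≠ QuotientGroup.mk 1)
    (hy : y ≠ QuotientGroup.mk 1) : ∃! t : G, t ∈ T ∧ t • x = y := by
  obtain ⟨t, ht, htx⟩ := T_trans h hx hy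
  refine ⟨t, ⟨ht, htx⟩, ?_⟩
  rintro t' ⟨ht', htx'⟩
  have h1 : (t⁻¹ * t') • x = x := by
    rw [mul_smul, htx', ← htx, ← mul_smul, inv_mul_cancel, one_smul]
  have h2 := T_free h ((T : Subgroup G).mul_mem ((T : Subgroup G).inv_mem ht) ht') hx h1
  have : t' = t * (t⁻¹ * t') := by group
  rw [this, h2, mul_one]

/-- An element fixing three distinct cosets is trivial. -/
theorem eq_one_of_fix_three (h : Hyp T) {g : G} {x₁ x₂ x₃ : G ⧸ NT T} (h12 : x₁ ≠ x₂)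
    (h13 : x₁ ≠ x₃) (h23 : x₂ ≠ x₃) (h1 : g • x₁ = x₁) (h2 : g • x₂ = x₂) (h3 : g • x₃ = x₃) :
    g = 1 := by
  obtain ⟨a, rfl⟩ := QuotientGroup.mk_surjective x₁
  have ea : (QuotientGroup.mk a : G ⧸ NT T) = a • QuotientGroup.mk 1 := by
    rw [MulAction.Quotient.smul_mk, smul_eq_mul, mul_one]
  have hg' : a⁻¹ * g * a ∈ NT T := (smul_mk_eq_iff (NT T) g a).mp h1
  have hy2 : a⁻¹ • x₂ ≠ (QuotientGroup.mk 1 : G ⧸ NT T) := by
    intro hh
    apply h12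
    rw [ea, ← hh, ← mul_smul, mul_inv_cancel, one_smul]
  have hy3 : a⁻¹ • x₃ ≠ (QuotientGroup.mk 1 : G ⧸ NT T) := by
    intro hh
    apply h13
    rw [ea, ← hh, ← mul_smul, mul_inv_cancel, one_smul]
  have hy23 : a⁻¹ • x₂ ≠ a⁻¹ • x₃ := fun hh => h23 (smul_left_cancel _ hh)
  have hf2 : (a⁻¹ * g * a) • (a⁻¹ • x₂) = a⁻¹ • x₂ := by
    rw [← mul_smul]
    have : a⁻¹ * g * a * a⁻¹ = a⁻¹ * g := by group
    rw [this, mul_smul, h2]
  have hf3 : (a⁻¹ * g * a) • (a⁻¹ • x₃) = a⁻¹ • x₃ := by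
    rw [← mul_smul]
    have : a⁻¹ * g * a * a⁻¹ = a⁻¹ * g := by group
    rw [this, mul_smul, h3]
  obtain ⟨w, hw, hwH, hwz⟩ := exists_invol_to h hy2
  have hgw : a⁻¹ * g * a ∈ DD T w := (mem_DD_iff T w _).mpr ⟨hg', by rw [hwz]; exact hf2⟩
  have hg1 : a⁻¹ * g * a = 1 := by
    by_contra hne
    rcases fix_elt h hw hwH hgw hne hf3 with h0 | h1'
    · exact hy3 h0
    · exact hy23 (by rw [h1', hwz])
  have : g = a * (a⁻¹ * g * a) * a⁻¹ := by group
  rw [this, hg1]; group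

/-- There is an involution outside `H`. -/
theorem exists_invol_not_mem (h : Hyp T) : ∃ u : G, orderOf u = 2 ∧ u ∉ NT T := by
  obtain ⟨g, hg⟩ : ∃ g : G, g ∉ NT T := by
    by_contra hcon
    push Not at hcon
    exact (strEmb h).1 (eq_top_iff.mpr fun x _ => hcon x)
  have hz : g • (QuotientGroup.mk 1 : G ⧸ NT T) ≠ QuotientGroup.mk 1 := by
    intro hh
    exact hg ((smul_base_eq_iff (NT T) g).mp hh)
  obtain ⟨w, hw, hwH, _⟩ := exists_invol_to h hz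
  exact ⟨w, hw, hwH⟩

theorem card_ne_base (h : Hyp T) :
    Nat.card {x : G ⧸ NT T // x ≠ QuotientGroup.mk 1} = Nat.card (T : Subgroup G) := by
  obtain ⟨u, hu, huH⟩ := exists_invol_not_mem h
  have hz : u • (QuotientGroup.mk 1 : G ⧸ NT T) ≠ QuotientGroup.mk 1 := by
    intro hh
    exact huH ((smul_base_eq_iff (NT T) u).mp hh)
  symm
  apply Nat.card_congr
  refine Equiv.ofBijective (fun t : (T : Subgroup G) =>
    (⟨(t : G) • (u • (QuotientGroup.mk 1 : G ⧸ NT T)), smul_ne_base (le_normalizer T t.2) hz⟩ :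
      {x : G ⧸ NT T // x ≠ QuotientGroup.mk 1})) ⟨?_, ?_⟩
  · intro t t' htt
    have h1 : (t : G) • (u • (QuotientGroup.mk 1 : G ⧸ NT T)) = (t' : G) • (u • QuotientGroup.mk 1) :=
      congrArg Subtype.val htt
    have h2 : ((t' : G)⁻¹ * (t : G)) • (u • (QuotientGroup.mk 1 : G ⧸ NT T)) = u • QuotientGroup.mk 1 := by
      rw [mul_smul, h1, ← mul_smul, inv_mul_cancel, one_smul]
    have h3 := T_free h ((T : Subgroup G).mul_mem ((T : Subgroup G).inv_mem t'.2) t.2) hz h2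
    apply Subtype.ext
    have : (t : G) = (t' : G) * ((t' : G)⁻¹ * (t : G)) := by group
    rw [this, h3, mul_one]
  · rintro ⟨y, hy⟩
    obtain ⟨t, ht, hty⟩ := T_trans h hz hy
    exact ⟨⟨t, ht⟩, Subtype.ext hty⟩

theorem card_ne_two (h : Hyp T) {u : G} (huH : u ∉ NT T) :
    Nat.card {x : G ⧸ NT T // x ≠ QuotientGroup.mk 1 ∧ x ≠ u • (QuotientGroup.mk 1 : G ⧸ NT T)}
      = Nat.card (T : Subgroup G) - 1 := by
  have hz : u • (QuotientGroup.mk 1 : G ⧸ NT T) ≠ QuotientGroup.mk 1 := by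
    intro hh
    exact huH ((smul_base_eq_iff (NT T) u).mp hh)
  rw [← card_ne_base h]
  have e : {x : G ⧸ NT T | x ≠ QuotientGroup.mk 1 ∧ x ≠ u • (QuotientGroup.mk 1 : G ⧸ NT T)}
      = {x : G ⧸ NT T | x ≠ QuotientGroup.mk 1} \ {u • (QuotientGroup.mk 1 : G ⧸ NT T)} := by
    ext x
    rw [Set.mem_sdiff, Set.mem_singleton_iff]
    exact Iff.rfl
  have h1 : Nat.card {x : G ⧸ NT T // x ≠ QuotientGroup.mk 1 ∧ x ≠ u • (QuotientGroup.mk 1 : G ⧸ NT T)}
      = Set.ncard {x : G ⧸ NT T | x ≠ QuotientGroup.mk 1 ∧ x ≠ u • (QuotientGroup.mk 1 : G ⧸ NT T)} :=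
    Nat.card_coe_set_eq _
  have h2 : Nat.card {x : G ⧸ NT T // x ≠ QuotientGroup.mk 1}
      = Set.ncard {x : G ⧸ NT T | x ≠ QuotientGroup.mk 1} := Nat.card_coe_set_eq _
  rw [h1, h2, e, Set.ncard_sdiff_singleton_of_mem hz]

/-- `D` is transitive on the cosets other than `H` and `uH`. -/
theorem D_trans (h : Hyp T) {u : G} (hu : orderOf u = 2) (huH : u ∉ NT T) {x y : G ⧸ NT T}
    (hx0 : x ≠ QuotientGroup.mk 1) (hxu : x ≠ u • (QuotientGroup.mk 1 : G ⧸ NT T))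
    (hy0 : y ≠ QuotientGroup.mk 1) (hyu : y ≠ u • (QuotientGroup.mk 1 : G ⧸ NT T)) :
    ∃ d ∈ DD T u, d • x = y := by
  have hmem : ∀ d : DD T u, (d : G) • x ≠ QuotientGroup.mk 1 ∧
      (d : G) • x ≠ u • (QuotientGroup.mk 1 : G ⧸ NT T) := by
    intro d
    refine ⟨smul_ne_base d.2.1 hx0, ?_⟩
    intro hh
    apply hxu
    have h1 := ((mem_DD_iff T u _).mp ((DD T u).inv_mem d.2)).2
    rw [← h1, ← hh, ← mul_smul, inv_mul_cancel, one_smul]
  let f : DD T u → {x : G ⧸ NT T // x ≠ QuotientGroup.mk 1 ∧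
      x ≠ u • (QuotientGroup.mk 1 : G ⧸ NT T)} := fun d => ⟨(d : G) • x, hmem d⟩
  have hf : Function.Injective f := by
    intro d d' hdd
    have h1 : (d : G) • x = (d' : G) • x := congrArg Subtype.val hdd
    have h2 : ((d' : G)⁻¹ * (d : G)) • x = x := by
      rw [mul_smul, h1, ← mul_smul, inv_mul_cancel, one_smul]
    have h3 : (d' : G)⁻¹ * (d : G) = 1 := by
      by_contra hne
      rcases fix_elt h hu huH ((DD T u).mul_mem ((DD T u).inv_mem d'.2) d.2) hne h2 with h0 | h1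
      · exact hx0 h0
      · exact hxu h1
    apply Subtype.ext
    have : (d : G) = (d' : G) * ((d' : G)⁻¹ * (d : G)) := by group
    rw [this, h3, mul_one]
  have hbij : Function.Bijective f := by
    apply hf.bijective_of_nat_card_le
    rw [card_ne_two h huH, card_D h hu huH]
  obtain ⟨d, hd⟩ := hbij.2 ⟨y, hy0, hyu⟩
  exact ⟨(d : G), d.2, congrArg Subtype.val hd⟩

/-- `G` is 3-transitive on `G ⧸ H`. -/
theorem three_trans (h : Hyp T) {x₁ x₂ x₃ y₁ y₂ y₃ : G ⧸ NT T} (hx12 : x₁ ≠ x₂) (hx13 : x₁ ≠ x₃)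
    (hx23 : x₂ ≠ x₃) (hy12 : y₁ ≠ y₂) (hy13 : y₁ ≠ y₃) (hy23 : y₂ ≠ y₃) :
    ∃ g : G, g • x₁ = y₁ ∧ g • x₂ = y₂ ∧ g • x₃ = y₃ := by
  obtain ⟨u, hu, huH⟩ := exists_invol_not_mem h
  have hz : u • (QuotientGroup.mk 1 : G ⧸ NT T) ≠ QuotientGroup.mk 1 := by
    intro hh
    exact huH ((smul_base_eq_iff (NT T) u).mp hh)
  -- a third reference point
  obtain ⟨r, hr0, hru⟩ : ∃ r : G ⧸ NT T, r ≠ QuotientGroup.mk 1 ∧
      r ≠ u • (QuotientGroup.mk 1 : G ⧸ NT T) := by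
    have hc := card_ne_two h huH
    have h3 := three_le_card h
    have hpos : 0 < Nat.card {x : G ⧸ NT T // x ≠ QuotientGroup.mk 1 ∧
        x ≠ u • (QuotientGroup.mk 1 : G ⧸ NT T)} := by omega
    obtain ⟨⟨r, hr⟩⟩ := (Nat.card_pos_iff.mp hpos).1
    exact ⟨r, hr⟩
  have key : ∀ {x₁ x₂ x₃ : G ⧸ NT T}, x₁ ≠ x₂ → x₁ ≠ x₃ → x₂ ≠ x₃ →
      ∃ g : G, g • (QuotientGroup.mk 1 : G ⧸ NT T) = x₁ ∧
        g • (u • (QuotientGroup.mk 1 : G ⧸ NT T)) = x₂ ∧ g • r = x₃ := by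
    intro x₁ x₂ x₃ h12 h13 h23
    obtain ⟨a, rfl⟩ := QuotientGroup.mk_surjective x₁
    have ea : (QuotientGroup.mk a : G ⧸ NT T) = a • QuotientGroup.mk 1 := by
      rw [MulAction.Quotient.smul_mk, smul_eq_mul, mul_one]
    have hy2 : a⁻¹ • x₂ ≠ (QuotientGroup.mk 1 : G ⧸ NT T) := by
      intro hh
      apply h12
      rw [ea, ← hh, ← mul_smul, mul_inv_cancel, one_smul]
    have hy3 : a⁻¹ • x₃ ≠ (QuotientGroup.mk 1 : G ⧸ NT T) := by
      intro hh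
      apply h13
      rw [ea, ← hh, ← mul_smul, mul_inv_cancel, one_smul]
    have hy23 : a⁻¹ • x₂ ≠ a⁻¹ • x₃ := fun hh => h23 (smul_left_cancel _ hh)
    obtain ⟨t, ht, htz⟩ := T_trans h hz hy2
    have htH : t ∈ NT T := le_normalizer T ht
    have hw0 : t⁻¹ • (a⁻¹ • x₃) ≠ (QuotientGroup.mk 1 : G ⧸ NT T) :=
      smul_ne_base ((NT T).inv_mem htH) hy3
    have hwu : t⁻¹ • (a⁻¹ • x₃) ≠ u • (QuotientGroup.mk 1 : G ⧸ NT T) := by
      intro hh
      apply hy23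
      rw [← htz, ← hh, ← mul_smul, mul_inv_cancel, one_smul]
    obtain ⟨d, hd, hdr⟩ := D_trans h hu huH hr0 hru hw0 hwu
    refine ⟨a * t * d, ?_, ?_, ?_⟩
    · rw [mul_smul, mul_smul, (smul_base_eq_iff (NT T) d).mpr hd.1,
        (smul_base_eq_iff (NT T) t).mpr htH, ea]
    · rw [mul_smul, mul_smul, ((mem_DD_iff T u d).mp hd).2, htz, ← mul_smul, mul_inv_cancel,
        one_smul]
    · rw [mul_smul, hdr, mul_smul, smul_inv_smul, smul_inv_smul]
  obtain ⟨gx, hgx1, hgx2, hgx3⟩ := key hx12 hx13 hx23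
  obtain ⟨gy, hgy1, hgy2, hgy3⟩ := key hy12 hy13 hy23
  refine ⟨gy * gx⁻¹, ?_, ?_, ?_⟩
  · rw [← hgx1, ← mul_smul, inv_mul_cancel_right, hgy1]
  · rw [← hgx2, ← mul_smul, inv_mul_cancel_right, hgy2]
  · rw [← hgx3, ← mul_smul, inv_mul_cancel_right, hgy3]

end Zass

end Cfsg.Agent.Helper21
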