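import Mathlib
import Cfsg.Prelude.Def_Involutions
import Cfsg.Agent.Helper21.StrEmb
import Cfsg.Agent.Helper21.Zass
import Cfsg.Agent.Helper21.Zass2
import Cfsg.Agent.Helper21.Zass3
import Cfsg.Agent.Helper21.Zass4
import Cfsg.Agent.Helper21.FieldOfReg
import Cfsg.Agent.Helper5.SLCard

set_option autoImplicit false

/-!
# Groups in which centralizers of involutions are elementary abelian, part 5 (helper21)

Identification with `SL(2, F)`: coordinates on `G ⧸ N_G(T)` by the projective line over a field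
`F` with `|F| = |T|`, and comparison of the two permutation representations.
-/

namespace Cfsg.Agent.Helper21

namespace Zass

set_option linter.unusedSectionVars false

open Matrix

variable {G : Type*} [Group G] [Finite G] {T : Sylow 2 G}

/-- Coordinate data: a field `F` in bijection with `T`, compatible with the action of `D`. -/
structure FData (T : Sylow 2 G) (u e : G) (F : Type*) [Field F] where
  ev : F → G
  μ : ↥(DD T u) → F
  mem : ∀ x, ev x ∈ (T : Subgroup G)
  inj : Function.Injective ev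
  surj : ∀ t ∈ (T : Subgroup G), ∃ x, ev x = t
  two : (2 : F) = 0
  ev0 : ev 0 = 1
  ev1 : ev 1 = e
  add : ∀ x y, ev (x + y) = ev x * ev y
  mul : ∀ d x, ev (μ d * x) = (d : G) * ev x * (d : G)⁻¹
  μne : ∀ d, μ d ≠ 0
  μsurj : ∀ x, x ≠ 0 → ∃ d, μ d = x

section Coord

variable {u e : G} {F : Type*} [Field F] (dat : FData T u e F)

/-- The coordinate map from the projective line to the coset space. -/
def kap (y : OnePoint F) : G ⧸ NT T :=
  y.elim (QuotientGroup.mk 1) (fun x => dat.ev x • (u • (QuotientGroup.mk 1 : G ⧸ NT T)))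

theorem kap_infty : kap dat (OnePoint.infty) = QuotientGroup.mk 1 := rfl

theorem kap_some (x : F) :
    kap dat (x : OnePoint F) = dat.ev x • (u • (QuotientGroup.mk 1 : G ⧸ NT T)) := rfl

theorem u_base_ne {u : G} (huH : u ∉ NT T) :
    u • (QuotientGroup.mk 1 : G ⧸ NT T) ≠ QuotientGroup.mk 1 := by
  intro hh
  exact huH ((smul_base_eq_iff (NT T) u).mp hh)

theorem kap_some_ne (huH : u ∉ NT T) (x : F) : kap dat (x : OnePoint F) ≠ QuotientGroup.mk 1 :=
  smul_ne_base (le_normalizer T (dat.mem x)) (u_base_ne huH)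

theorem kap_bijective (h : Hyp T) (huH : u ∉ NT T) : Function.Bijective (kap dat) := by
  constructor
  · intro y y' hyy
    cases y with
    | infty =>
      cases y' with
      | infty => rfl
      | coe x' => exact absurd hyy.symm (kap_some_ne dat huH x')
    | coe x =>
      cases y' with
      | infty => exact absurd hyy (kap_some_ne dat huH x)
      | coe x' =>
        rw [kap_some, kap_some] at hyy
        have h2 : ((dat.ev x')⁻¹ * dat.ev x) • (u • (QuotientGroup.mk 1 : G ⧸ NT T)) =
            u • QuotientGroup.mk 1 := by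
          rw [mul_smul, hyy, ← mul_smul, inv_mul_cancel, one_smul]
        have h3 := T_free h ((T : Subgroup G).mul_mem ((T : Subgroup G).inv_mem (dat.mem x'))
          (dat.mem x)) (u_base_ne huH) h2
        have h4 : dat.ev x = dat.ev x' := by
          have : dat.ev x = dat.ev x' * ((dat.ev x')⁻¹ * dat.ev x) := by group
          rw [this, h3, mul_one]
        rw [dat.inj h4]
  · intro p
    by_cases hp : p = QuotientGroup.mk 1
    · exact ⟨OnePoint.infty, by rw [kap_infty, hp]⟩
    · obtain ⟨t, ht, htp⟩ := T_trans h (u_base_ne huH) hp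
      obtain ⟨x, hx⟩ := dat.surj t ht
      exact ⟨(x : OnePoint F), by rw [kap_some, hx, htp]⟩

end Coord

section Match

variable {u e : G} {F : Type*} [Field F] [DecidableEq F] (dat : FData T u e F)

/-- An explicit element of `SL(2, F)`. -/
def sl2 (a b c d : F) (hdet : a * d - b * c = 1) : SpecialLinearGroup (Fin 2) F :=
  ⟨!![a, b; c, d], by rw [Matrix.det_fin_two_of]; exact hdet⟩

theorem sl2_coe (a b c d : F) (hdet : a * d - b * c = 1) :
    ((SpecialLinearGroup.toGL (sl2 a b c d hdet) : GL (Fin 2) F) : Matrix (Fin 2) (Fin 2) F) =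
      !![a, b; c, d] := rfl

theorem sl2_smul_infty (a b c d : F) (hdet : a * d - b * c = 1) :
    SpecialLinearGroup.toGL (sl2 a b c d hdet) • (OnePoint.infty : OnePoint F) =
      if c = 0 then OnePoint.infty else ((a / c : F) : OnePoint F) := by
  rw [OnePoint.smul_infty_eq_ite, sl2_coe]
  simp

theorem sl2_smul_some (a b c d : F) (hdet : a * d - b * c = 1) (x : F) :
    SpecialLinearGroup.toGL (sl2 a b c d hdet) • (x : OnePoint F) =
      if c * x + d = 0 then OnePoint.infty else (((a * x + b) / (c * x + d) : F) : OnePoint F) := by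
  rw [OnePoint.smul_some_eq_ite, sl2_coe]
  simp

/-- `g` acts on the coset space as `M` acts on the projective line. -/
def Matches (g : G) (M : SpecialLinearGroup (Fin 2) F) : Prop :=
  ∀ y : OnePoint F, g • kap dat y = kap dat (SpecialLinearGroup.toGL M • y)

theorem match_T (h : Hyp T) {t : G} (ht : t ∈ (T : Subgroup G)) :
    ∃ M : SpecialLinearGroup (Fin 2) F, Matches dat t M := by
  obtain ⟨b, hb⟩ := dat.surj t ht
  refine ⟨sl2 1 b 0 1 (by ring), ?_⟩
  intro y
  cases y with
  | infty =>
    rw [sl2_smul_infty, if_pos rfl, kap_infty]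
    exact (smul_base_eq_iff (NT T) t).mpr (le_normalizer T ht)
  | coe x =>
    have hden : (0 : F) * x + 1 ≠ 0 := by simp
    rw [sl2_smul_some, if_neg hden, kap_some, kap_some]
    have e1 : (1 * x + b) / (0 * x + 1) = x + b := by field_simp; ring
    rw [e1, dat.add, hb, ← mul_smul]
    congr 1
    exact comm h ht (dat.mem x)

theorem exists_sq [Fintype F] (h2 : (2 : F) = 0) (x : F) : ∃ s : F, s * s = x := by
  have hchar : CharP F 2 := CharTwo.of_one_ne_zero_of_two_eq_zero one_ne_zero h2
  have hrc : ringChar F = 2 := ringChar.eq F 2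
  obtain ⟨s, hs⟩ := FiniteField.isSquare_of_char_two hrc x
  exact ⟨s, hs.symm⟩

theorem D_fix_z {u : G} (d : ↥(DD T u)) :
    (d : G) • (u • (QuotientGroup.mk 1 : G ⧸ NT T)) = u • QuotientGroup.mk 1 :=
  ((mem_DD_iff T u d).mp d.2).2

theorem match_D [Fintype F] (d : ↥(DD T u)) :
    ∃ M : SpecialLinearGroup (Fin 2) F, Matches dat (d : G) M := by
  obtain ⟨s, hs⟩ := exists_sq dat.two (dat.μ d)
  have hs0 : s ≠ 0 := by
    rintro rfl
    exact dat.μne d (by rw [← hs, mul_zero])
  refine ⟨sl2 s 0 0 s⁻¹ (by field_simp; ring), ?_⟩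
  intro y
  cases y with
  | infty =>
    rw [sl2_smul_infty, if_pos rfl, kap_infty]
    exact (smul_base_eq_iff (NT T) (d : G)).mpr d.2.1
  | coe x =>
    have hden : (0 : F) * x + s⁻¹ ≠ 0 := by simpa using hs0
    rw [sl2_smul_some, if_neg hden, kap_some, kap_some]
    have e1 : (s * x + 0) / (0 * x + s⁻¹) = dat.μ d * x := by
      rw [← hs]; field_simp; ring
    rw [e1, dat.mul]
    have hdz := D_fix_z (T := T) d
    have hdz' : (d : G)⁻¹ • (u • (QuotientGroup.mk 1 : G ⧸ NT T)) = u • QuotientGroup.mk 1 := by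
      nth_rewrite 1 [← hdz]
      rw [← mul_smul, inv_mul_cancel, one_smul]
    calc (d : G) • (dat.ev x • (u • (QuotientGroup.mk 1 : G ⧸ NT T)))
        = ((d : G) * dat.ev x) • (u • (QuotientGroup.mk 1 : G ⧸ NT T)) := (mul_smul _ _ _).symm
      _ = ((d : G) * dat.ev x) • ((d : G)⁻¹ • (u • (QuotientGroup.mk 1 : G ⧸ NT T))) := by
          rw [hdz']
      _ = ((d : G) * dat.ev x * (d : G)⁻¹) • (u • (QuotientGroup.mk 1 : G ⧸ NT T)) :=
          (mul_smul _ _ _).symm

theorem mu_inv (d : ↥(DD T u)) : dat.μ d⁻¹ * dat.μ d = 1 := by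
  apply dat.inj
  have h1 : dat.ev (dat.μ d⁻¹ * (dat.μ d * 1)) = dat.ev 1 := by
    rw [dat.mul, dat.mul, Subgroup.coe_inv]
    group
  rwa [mul_one] at h1

theorem match_u [Fintype F] (h : Hyp T) (hu : orderOf u = 2) (huH : u ∉ NT T) :
    ∃ M : SpecialLinearGroup (Fin 2) F, Matches dat u M := by
  have huu := inv_mul_self_eq hu
  have hui := inv_inv_eq_self hu
  have he1 : e ≠ 1 := by
    intro he
    have : dat.ev 1 = dat.ev 0 := by rw [dat.ev1, dat.ev0, he]
    exact one_ne_zero (dat.inj this)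
  have heT : e ∈ (T : Subgroup G) := dat.ev1 ▸ dat.mem 1
  have hz := u_base_ne (T := T) huH
  -- the point `u • e • z₀`
  have hp1 : u • (e • (u • (QuotientGroup.mk 1 : G ⧸ NT T))) ≠ QuotientGroup.mk 1 := by
    intro hh
    have h1 : e • (u • (QuotientGroup.mk 1 : G ⧸ NT T)) = u • QuotientGroup.mk 1 := by
      calc e • (u • (QuotientGroup.mk 1 : G ⧸ NT T))
          = (u * u) • (e • (u • (QuotientGroup.mk 1 : G ⧸ NT T))) := by rw [huu, one_smul]
        _ = u • QuotientGroup.mk 1 := by rw [mul_smul, hh]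
    exact he1 (T_free h heT hz h1)
  obtain ⟨y₁, hy₁⟩ := (kap_bijective dat h huH).2
    (u • (e • (u • (QuotientGroup.mk 1 : G ⧸ NT T))))
  obtain ⟨γ₀, hγ₀⟩ : ∃ γ₀ : F, dat.ev γ₀ • (u • (QuotientGroup.mk 1 : G ⧸ NT T)) =
      u • (e • (u • (QuotientGroup.mk 1 : G ⧸ NT T))) := by
    cases y₁ with
    | infty => exact absurd hy₁.symm hp1
    | coe x => exact ⟨x, hy₁⟩
  have hγ₀0 : γ₀ ≠ 0 := by
    rintro rfl
    rw [dat.ev0, one_smul] at hγ₀
    have h1 : e • (u • (QuotientGroup.mk 1 : G ⧸ NT T)) = QuotientGroup.mk 1 :=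
      (smul_left_cancel u hγ₀).symm
    exact smul_ne_base (le_normalizer T heT) hz h1
  obtain ⟨r, hr⟩ := exists_sq dat.two γ₀
  have hr0 : r ≠ 0 := by
    rintro rfl
    exact hγ₀0 (by rw [← hr, mul_zero])
  have hneg : (-1 : F) = 1 := by
    have := dat.two
    linear_combination -this
  refine ⟨sl2 0 r r⁻¹ 0 (by rw [mul_inv_cancel₀ hr0]; linear_combination hneg), ?_⟩
  intro y
  cases y with
  | infty =>
    have hc : r⁻¹ ≠ 0 := inv_ne_zero hr0
    rw [sl2_smul_infty, if_neg hc, kap_infty, kap_some, zero_div, dat.ev0, one_smul]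
  | coe x =>
    by_cases hx : x = 0
    · have hden : r⁻¹ * x + 0 = 0 := by rw [hx]; ring
      rw [sl2_smul_some, if_pos hden, kap_infty, kap_some, hx, dat.ev0, one_smul, ← mul_smul, huu,
        one_smul]
    · have hden : r⁻¹ * x + 0 ≠ 0 := by
        rw [add_zero]; exact mul_ne_zero (inv_ne_zero hr0) hx
      obtain ⟨d, hd⟩ := dat.μsurj x hx
      have e1 : (0 * x + r) / (r⁻¹ * x + 0) = dat.μ d⁻¹ * γ₀ := by
        have hmi := mu_inv dat d
        rw [hd] at hmi
        have hmi' : dat.μ d⁻¹ = x⁻¹ := eq_inv_of_mul_eq_one_left hmi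
        rw [hmi', ← hr, zero_mul, zero_add, add_zero]
        field_simp
      have hevx : dat.ev x = (d : G) * e * (d : G)⁻¹ := by
        have := dat.mul d 1
        rwa [mul_one, hd, dat.ev1] at this
      have hud : u * (d : G) = (d : G)⁻¹ * u := by
        have := inverts h hu huH d.2
        calc u * (d : G) = (u * (d : G) * u⁻¹) * u := by group
          _ = (d : G)⁻¹ * u := by rw [this]
      have hdz := D_fix_z (T := T) d
      have hdz' : (d : G)⁻¹ • (u • (QuotientGroup.mk 1 : G ⧸ NT T)) = u • QuotientGroup.mk 1 := by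
        nth_rewrite 1 [← hdz]
        rw [← mul_smul, inv_mul_cancel, one_smul]
      rw [sl2_smul_some, if_neg hden, kap_some, kap_some, e1, dat.mul, hevx, Subgroup.coe_inv,
        inv_inv]
      calc u • (((d : G) * e * (d : G)⁻¹) • (u • (QuotientGroup.mk 1 : G ⧸ NT T)))
          = u • (((d : G) * e) • ((d : G)⁻¹ • (u • (QuotientGroup.mk 1 : G ⧸ NT T)))) := by
            rw [← mul_smul ((d : G) * e)]
        _ = (u * (d : G)) • (e • (u • (QuotientGroup.mk 1 : G ⧸ NT T))) := by
            rw [hdz', mul_smul, mul_smul]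
        _ = (d : G)⁻¹ • (dat.ev γ₀ • (u • (QuotientGroup.mk 1 : G ⧸ NT T))) := by
            rw [hud, mul_smul, hγ₀]
        _ = ((d : G)⁻¹ * dat.ev γ₀) • ((d : G) • (u • (QuotientGroup.mk 1 : G ⧸ NT T))) := by
            rw [hdz, mul_smul]
        _ = ((d : G)⁻¹ * dat.ev γ₀ * (d : G)) • (u • (QuotientGroup.mk 1 : G ⧸ NT T)) := by
            rw [← mul_smul]

end Match

section Iso

variable {u e : G} {F : Type*} [Field F] [DecidableEq F] [Fintype F] (dat : FData T u e F)

/-- The coordinate map as an equivalence. -/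
noncomputable def kapEquiv (h : Hyp T) (huH : u ∉ NT T) : OnePoint F ≃ G ⧸ NT T :=
  Equiv.ofBijective (kap dat) (kap_bijective dat h huH)

/-- `G` acting on the projective line through the coordinates. -/
noncomputable def homG (h : Hyp T) (huH : u ∉ NT T) : G →* Equiv.Perm (OnePoint F) :=
  ((kapEquiv dat h huH).symm.permCongrHom).toMonoidHom.comp (MulAction.toPermHom G (G ⧸ NT T))

theorem homG_apply (h : Hyp T) (huH : u ∉ NT T) (g : G) (y : OnePoint F) :
    homG dat h huH g y = (kapEquiv dat h huH).symm (g • kap dat y) := rfl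

/-- `SL(2, F)` acting on the projective line. -/
def homS (F : Type*) [Field F] [DecidableEq F] :
    SpecialLinearGroup (Fin 2) F →* Equiv.Perm (OnePoint F) :=
  (MulAction.toPermHom (GL (Fin 2) F) (OnePoint F)).comp SpecialLinearGroup.toGL

theorem homS_apply (M : SpecialLinearGroup (Fin 2) F) (y : OnePoint F) :
    homS F M y = SpecialLinearGroup.toGL M • y := rfl

theorem mem_range_of_matches (h : Hyp T) (huH : u ∉ NT T) {g : G}
    (hg : ∃ M : SpecialLinearGroup (Fin 2) F, Matches dat g M) :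
    g ∈ (homS F).range.comap (homG dat h huH) := by
  obtain ⟨M, hM⟩ := hg
  rw [Subgroup.mem_comap]
  refine ⟨M, ?_⟩
  apply Equiv.ext
  intro y
  rw [homS_apply, homG_apply, hM y]
  exact ((kapEquiv dat h huH).symm_apply_apply _).symm

theorem comap_eq_top (h : Hyp T) (hu : orderOf u = 2) (huH : u ∉ NT T) :
    (homS F).range.comap (homG dat h huH) = ⊤ := by
  rw [eq_top_iff]
  intro g _
  have hT : ∀ t ∈ (T : Subgroup G), t ∈ (homS F).range.comap (homG dat h huH) :=
    fun t ht => mem_range_of_matches dat h huH (match_T dat h ht)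
  have hD : ∀ d ∈ DD T u, d ∈ (homS F).range.comap (homG dat h huH) :=
    fun d hd => mem_range_of_matches dat h huH (match_D dat ⟨d, hd⟩)
  have hU : u ∈ (homS F).range.comap (homG dat h huH) :=
    mem_range_of_matches dat h huH (match_u dat h hu huH)
  have hH : ∀ x ∈ NT T, x ∈ (homS F).range.comap (homG dat h huH) := by
    intro x hx
    obtain ⟨d, hd, t, ht, rfl⟩ := exists_mul h hu huH hx
    exact Subgroup.mul_mem _ (hD d hd) (hT t ht)
  by_cases hg : g • (QuotientGroup.mk 1 : G ⧸ NT T) = QuotientGroup.mk 1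
  · exact hH g ((smul_base_eq_iff (NT T) g).mp hg)
  · obtain ⟨t, ht, htz⟩ := T_trans h (u_base_ne huH) hg
    have hx : (t * u)⁻¹ * g ∈ NT T := by
      rw [← smul_base_eq_iff (NT T), mul_smul, ← htz, ← mul_smul, ← mul_smul]
      have e0 : (t * u)⁻¹ * t * u = 1 := by group
      rw [e0, one_smul]
    have e1 : g = t * u * ((t * u)⁻¹ * g) := by group
    rw [e1]
    exact Subgroup.mul_mem _ (Subgroup.mul_mem _ (hT t ht) hU) (hH _ hx)

theorem range_le (h : Hyp T) (hu : orderOf u = 2) (huH : u ∉ NT T) :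
    (homG dat h huH).range ≤ (homS F).range := by
  rintro _ ⟨g, rfl⟩
  have : g ∈ (homS F).range.comap (homG dat h huH) := by
    rw [comap_eq_top dat h hu huH]; trivial
  exact this

theorem homG_injective (h : Hyp T) (huH : u ∉ NT T) :
    Function.Injective (homG dat h huH) := by
  rw [injective_iff_map_eq_one]
  intro g hg
  have hfix : ∀ y : OnePoint F, g • kap dat y = kap dat y := by
    intro y
    have := congrArg (fun p : Equiv.Perm (OnePoint F) => p y) hg
    simp only [homG_apply, Equiv.Perm.coe_one, id_eq] at this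
    have h2 := congrArg (kapEquiv dat h huH) this
    rw [Equiv.apply_symm_apply] at h2
    exact h2
  have h01 : (0 : F) ≠ 1 := zero_ne_one
  have hinj := (kap_bijective dat h huH).1
  refine eq_one_of_fix_three h (x₁ := kap dat OnePoint.infty) (x₂ := kap dat ((0 : F) : OnePoint F))
    (x₃ := kap dat ((1 : F) : OnePoint F)) ?_ ?_ ?_ (hfix _) (hfix _) (hfix _)
  · intro hh; exact OnePoint.infty_ne_coe _ (hinj hh)
  · intro hh; exact OnePoint.infty_ne_coe _ (hinj hh)
  · intro hh; exact h01 (OnePoint.coe_eq_coe.mp (hinj hh))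

theorem homS_injective (h2 : (2 : F) = 0) : Function.Injective (homS F) := by
  rw [injective_iff_map_eq_one]
  intro M hM
  have hfix : ∀ y : OnePoint F, SpecialLinearGroup.toGL M • y = y := by
    intro y
    have := congrArg (fun p : Equiv.Perm (OnePoint F) => p y) hM
    simpa only [homS_apply, Equiv.Perm.coe_one, id_eq] using this
  have hc : (M : Matrix (Fin 2) (Fin 2) F) 1 0 = 0 := by
    have := OnePoint.smul_infty_eq_self_iff.mp (hfix OnePoint.infty)
    exact this
  have hdet : (M : Matrix (Fin 2) (Fin 2) F) 0 0 * (M : Matrix (Fin 2) (Fin 2) F) 1 1 -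
      (M : Matrix (Fin 2) (Fin 2) F) 0 1 * (M : Matrix (Fin 2) (Fin 2) F) 1 0 = 1 := by
    have := M.2
    rw [Matrix.det_fin_two] at this
    exact this
  rw [hc, mul_zero, sub_zero] at hdet
  have hd0 : (M : Matrix (Fin 2) (Fin 2) F) 1 1 ≠ 0 := by
    intro h0
    rw [h0, mul_zero] at hdet
    exact zero_ne_one hdet
  have hb : (M : Matrix (Fin 2) (Fin 2) F) 0 1 = 0 := by
    have := hfix ((0 : F) : OnePoint F)
    rw [OnePoint.smul_some_eq_ite] at this
    have hden : (SpecialLinearGroup.toGL M : GL (Fin 2) F) 1 0 * 0 +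
        (SpecialLinearGroup.toGL M : GL (Fin 2) F) 1 1 ≠ 0 := by
      rw [mul_zero, zero_add]; exact hd0
    rw [if_neg hden] at this
    have h3 := OnePoint.coe_eq_coe.mp this
    rw [mul_zero, zero_add, mul_zero, zero_add] at h3
    have h4 : (M : Matrix (Fin 2) (Fin 2) F) 0 1 / (M : Matrix (Fin 2) (Fin 2) F) 1 1 = 0 := h3
    rcases div_eq_zero_iff.mp h4 with h5 | h5
    · exact h5
    · exact absurd h5 hd0
  have had : (M : Matrix (Fin 2) (Fin 2) F) 0 0 = (M : Matrix (Fin 2) (Fin 2) F) 1 1 := by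
    have := hfix ((1 : F) : OnePoint F)
    rw [OnePoint.smul_some_eq_ite] at this
    have hden : (SpecialLinearGroup.toGL M : GL (Fin 2) F) 1 0 * 1 +
        (SpecialLinearGroup.toGL M : GL (Fin 2) F) 1 1 ≠ 0 := by
      have e0 : (SpecialLinearGroup.toGL M : GL (Fin 2) F) 1 0 = 0 := hc
      rw [e0, zero_mul, zero_add]; exact hd0
    rw [if_neg hden] at this
    have h3 := OnePoint.coe_eq_coe.mp this
    have h4 : ((M : Matrix (Fin 2) (Fin 2) F) 0 0 * 1 + (M : Matrix (Fin 2) (Fin 2) F) 0 1) /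
        ((M : Matrix (Fin 2) (Fin 2) F) 1 0 * 1 + (M : Matrix (Fin 2) (Fin 2) F) 1 1) = 1 := h3
    rw [hb, hc, zero_mul, zero_add, add_zero, mul_one] at h4
    exact (div_eq_one_iff_eq hd0).mp h4
  have ha : (M : Matrix (Fin 2) (Fin 2) F) 0 0 = 1 := by
    rw [← had] at hdet
    have h5 : ((M : Matrix (Fin 2) (Fin 2) F) 0 0 - 1) ^ 2 = 0 := by
      linear_combination hdet + (1 - (M : Matrix (Fin 2) (Fin 2) F) 0 0) * h2
    have h6 := pow_eq_zero_iff (n := 2) (by norm_num) |>.1 h5
    linear_combination h6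
  apply Subtype.ext
  ext i j
  fin_cases i <;> fin_cases j
  · simpa using ha
  · simpa using hb
  · simpa using hc
  · simpa using (had ▸ ha)

end Iso

end Zass

end Cfsg.Agent.Helper21
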