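import Mathlib
import Cfsg.Prelude.Def_Involutions
import Cfsg.Agent.Helper21.StrEmb
import Cfsg.Agent.Helper21.Zass
import Cfsg.Agent.Helper21.Zass2
import Cfsg.Agent.Helper21.Zass3
import Cfsg.Agent.Helper21.Zass4
import Cfsg.Agent.Helper21.Zass5
import Cfsg.Agent.Helper21.FieldOfReg
import Cfsg.Agent.Helper5.SLCard

set_option autoImplicit false

/-!
# Groups in which centralizers of involutions are elementary abelian, part 6 (helper21)

Orders, the isomorphism with `SL(2, F)`, and the existence of the coordinate field.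
-/

namespace Cfsg.Agent.Helper21

namespace Zass

set_option linter.unusedSectionVars false

open Matrix

universe uG

section Card

variable {G : Type*} [Group G] [Finite G] {T : Sylow 2 G}
variable {u e : G} {F : Type*} [Field F] [DecidableEq F] [Fintype F]

theorem card_F_eq (dat : FData T u e F) : Fintype.card F = Nat.card (T : Subgroup G) := by
  rw [← Nat.card_eq_fintype_card]
  apply Nat.card_congr
  exact Equiv.ofBijective (fun x => (⟨dat.ev x, dat.mem x⟩ : ↥(T : Subgroup G)))
    ⟨fun x y hxy => dat.inj (congrArg Subtype.val hxy), fun t => by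
      obtain ⟨x, hx⟩ := dat.surj t.1 t.2
      exact ⟨x, Subtype.ext hx⟩⟩

theorem card_G_eq (dat : FData T u e F) (h : Hyp T) (hu : orderOf u = 2) (huH : u ∉ NT T) :
    Nat.card G = Nat.card (SpecialLinearGroup (Fin 2) F) := by
  rw [Subgroup.card_eq_card_quotient_mul_card_subgroup (NT T), card_NT h hu huH,
    Cfsg.Agent.Helper5.card_SL2, ← card_F_eq dat]
  have h1 : Nat.card (G ⧸ NT T) = Fintype.card F + 1 := by
    rw [← Nat.card_congr (kapEquiv dat h huH), Nat.card_eq_fintype_card]
    exact Fintype.card_option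
  rw [h1]
  have hq : 1 ≤ Fintype.card F := Fintype.card_pos
  obtain ⟨n, hn⟩ : ∃ n, Fintype.card F = n + 1 := ⟨Fintype.card F - 1, by omega⟩
  rw [hn]
  have e1 : (n + 1) ^ 2 - 1 = n * (n + 2) := by
    have : (n + 1) ^ 2 = n * (n + 2) + 1 := by ring
    omega
  rw [e1, Nat.add_sub_cancel]
  ring

theorem nonempty_iso_SL (dat : FData T u e F) (h : Hyp T) (hu : orderOf u = 2) (huH : u ∉ NT T) :
    Nonempty (G ≃* SpecialLinearGroup (Fin 2) F) := by
  have hGinj := homG_injective dat h huH
  have hSinj : Function.Injective (homS F) := homS_injective dat.two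
  have hle := range_le dat h hu huH
  have hcard : Nat.card (homS F).range ≤ Nat.card (homG dat h huH).range := by
    rw [Nat.card_congr (MonoidHom.ofInjective hSinj).symm.toEquiv,
      Nat.card_congr (MonoidHom.ofInjective hGinj).symm.toEquiv, card_G_eq dat h hu huH]
  have heq : (homG dat h huH).range = (homS F).range := Subgroup.eq_of_le_of_card_ge hle hcard
  exact ⟨(MonoidHom.ofInjective hGinj).trans ((MulEquiv.subgroupCongr heq).trans
    (MonoidHom.ofInjective hSinj).symm)⟩

end Card

section Exists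

variable {G : Type uG} [Group G] [Finite G]

/-- Conjugation action of `N_G(T)` on `T`. -/
def conjT (T : Sylow 2 G) : ↥(NT T) →* MulAut ↥(T : Subgroup G) where
  toFun x :=
    { toFun := fun t => ⟨(x : G) * t * (x : G)⁻¹, conj_mem_of_normalizer x.2 t.2⟩
      invFun := fun t => ⟨(x : G)⁻¹ * t * (x : G), by
        have := conj_mem_of_normalizer ((NT T).inv_mem x.2) t.2
        rwa [inv_inv] at this⟩
      left_inv := fun t => by apply Subtype.ext; simp only []; group
      right_inv := fun t => by apply Subtype.ext; simp only []; group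
      map_mul' := fun s t => by
        apply Subtype.ext
        simp only [Subgroup.coe_mul]
        group }
  map_one' := by
    apply MulEquiv.ext
    intro t
    apply Subtype.ext
    simp
  map_mul' x y := by
    apply MulEquiv.ext
    intro t
    apply Subtype.ext
    simp only [Subgroup.coe_mul, MulAut.mul_apply, MulEquiv.coe_mk, Equiv.coe_fn_mk]
    group

theorem conjT_apply (T : Sylow 2 G) (x : ↥(NT T)) (t : ↥(T : Subgroup G)) :
    ((conjT T x t : ↥(T : Subgroup G)) : G) = (x : G) * t * (x : G)⁻¹ := rfl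

theorem exists_FData {T : Sylow 2 G} (h : Hyp T) {u : G} (hu : orderOf u = 2) (huH : u ∉ NT T) :
    ∃ (e : G) (F : Type uG) (_ : Field F) (_ : Fintype F), Nonempty (FData T u e F) := by
  obtain ⟨e, heT, he1⟩ := exists_ne_one h
  let c : ↥(DD T u) →* MulAut ↥(T : Subgroup G) :=
    (conjT T).comp (Subgroup.inclusion inf_le_left)
  have hcA : ∀ a b : ↥(T : Subgroup G), a * b = b * a :=
    fun a b => Subtype.ext (comm h a.2 b.2)
  have hexp : ∀ a : ↥(T : Subgroup G), a * a = 1 := fun a => Subtype.ext (sq_eq_one h a.2)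
  have hcD : ∀ d d' : ↥(DD T u), d * d' = d' * d :=
    fun d d' => Subtype.ext (D_comm h hu huH d.2 d'.2)
  have he1' : (⟨e, heT⟩ : ↥(T : Subgroup G)) ≠ 1 := by
    intro hh
    exact he1 (congrArg Subtype.val hh)
  have hreg : ∀ a : ↥(T : Subgroup G), a ≠ 1 → ∃ d : ↥(DD T u), c d ⟨e, heT⟩ = a := by
    intro a ha
    have ha1 : (a : G) ≠ 1 := fun hh => ha (Subtype.ext hh)
    obtain ⟨d, hd, hdc⟩ := StrEmb.exists_conj_in_D (strEmb h) hu huH
      (orderOf_eq_two h heT he1) (le_normalizer T heT) (orderOf_eq_two h a.2 ha1)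
      (le_normalizer T a.2)
    exact ⟨⟨d, hd⟩, Subtype.ext hdc⟩
  obtain ⟨F, iF, iFT, ev, μ, hbij, h2, h0, h1, hadd, hmul, hμne, hμsurj⟩ :=
    FieldOfReg.exists_field hcA hexp c hcD ⟨e, heT⟩ he1' hreg
  refine ⟨e, F, iF, iFT, ⟨?_⟩⟩
  exact
    { ev := fun x => (ev x : G)
      μ := μ
      mem := fun x => (ev x).2
      inj := fun x y hxy => hbij.1 (Subtype.ext hxy)
      surj := fun t ht => by
        obtain ⟨x, hx⟩ := hbij.2 ⟨t, ht⟩
        exact ⟨x, congrArg Subtype.val hx⟩
      two := h2
      ev0 := congrArg Subtype.val h0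
      ev1 := congrArg Subtype.val h1
      add := fun x y => congrArg Subtype.val (hadd x y)
      mul := fun d x => congrArg Subtype.val (hmul d x)
      μne := hμne
      μsurj := hμsurj }

/-- The final statement: `G ≅ PSL(2, F)` with `|F| = |T|`. -/
theorem main {T : Sylow 2 G} (h : Hyp T) :
    ∃ (F : Type) (_ : Field F) (_ : Fintype F), Fintype.card F = Nat.card (T : Subgroup G) ∧
      Nonempty (G ≃* Matrix.ProjectiveSpecialLinearGroup (Fin 2) F) := by
  classical
  obtain ⟨u, hu, huH⟩ := exists_invol_not_mem h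
  obtain ⟨e, F, iF, iFT, ⟨dat⟩⟩ := exists_FData h hu huH
  obtain ⟨φ⟩ := nonempty_iso_SL dat h hu huH
  have hcF := card_F_eq dat
  -- `|T|` is a power of two
  obtain ⟨k, hk⟩ := (Sylow.isPGroup' T : IsPGroup 2 (T : Subgroup G)).exists_card_eq
  have hk0 : k ≠ 0 := by
    rintro rfl
    exact card_ne_one h (by rw [hk, pow_zero])
  let iFT0 : Fintype (GaloisField 2 k) := Fintype.ofFinite _
  have hcF0 : Fintype.card (GaloisField 2 k) = 2 ^ k := by
    rw [← Nat.card_eq_fintype_card]
    exact GaloisField.card 2 k hk0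
  have hcc : Fintype.card F = Fintype.card (GaloisField 2 k) := by rw [hcF, hk, hcF0]
  let σ : F ≃+* (GaloisField 2 k) := FiniteField.ringEquivOfCardEq hcc
  have h2 : (2 : (GaloisField 2 k)) = 0 := by
    have := congrArg σ dat.two
    rwa [map_ofNat, map_zero] at this
  let ψ : SpecialLinearGroup (Fin 2) F ≃* SpecialLinearGroup (Fin 2) (GaloisField 2 k) :=
    { toFun := SpecialLinearGroup.map (σ : F →+* (GaloisField 2 k))
      invFun := SpecialLinearGroup.map (σ.symm : (GaloisField 2 k) →+* F)
      left_inv := fun M => by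
        apply Subtype.ext
        ext i j
        simp
      right_inv := fun M => by
        apply Subtype.ext
        ext i j
        simp
      map_mul' := fun M N => map_mul _ M N }
  have hbot : Subgroup.center (SpecialLinearGroup (Fin 2) (GaloisField 2 k)) = ⊥ :=
    Cfsg.Agent.Helper5.center_SL2_eq_bot h2
  let χ : Matrix.ProjectiveSpecialLinearGroup (Fin 2) (GaloisField 2 k) ≃* SpecialLinearGroup (Fin 2) (GaloisField 2 k) :=
    (QuotientGroup.quotientMulEquivOfEq hbot).trans QuotientGroup.quotientBot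
  refine ⟨(GaloisField 2 k), inferInstance, iFT0, ?_, ⟨(φ.trans ψ).trans χ.symm⟩⟩
  rw [hk]
  exact hcF0

end Exists

end Zass

end Cfsg.Agent.Helper21
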